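import Cfsg.Agent.Lib.Spor.OmegaEightThree.ReflData
import Cfsg.Agent.Lib.Spor.OmegaEightThree.X.Conf

/-!
The hyperplane fixed by the central involution in the basis of its three orthogonal points: finite facts.
-/

set_option autoImplicit false
set_option maxRecDepth 100000

namespace Cfsg.Agent.Spor.OmegaEightThree

namespace Loc

open X (Vec wt mono dot)

/-- The coordinates of the fixed hyperplane. -/
def ePt (v : Vec) : Four := v 0 • pts 0 + v 1 • pts 1 + v 2 • pts 2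

/-- The coordinates of `z`. -/
def vz : Vec := ![-1, 1, 1]

theorem ePt_vz : ePt vz = ![1, 0, 0, 0] := by decide

theorem ePt_add (v w : Vec) : ePt (v + w) = ePt v + ePt w := by
  simp only [ePt, Pi.add_apply, add_smul]
  abel

theorem ePt_one (v : Vec) : (ePt v) 1 = 0 := by simp [ePt, pts]

theorem ePt_surj_aux : ∀ a c d : ZMod 3, ∃ v : Vec, ePt v = ![a, 0, c, d] := by decide +kernel

theorem ePt_surj (x : Four) (h : x 1 = 0) : ∃ v : Vec, ePt v = x := by
  obtain ⟨v, hv⟩ := ePt_surj_aux (x 0) (x 2) (x 3)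
  refine ⟨v, hv.trans ?_⟩
  funext i
  fin_cases i <;> simp [h]

theorem ePt_inj : ∀ v w : Vec, ePt v = ePt w → v = w := by decide +kernel

theorem qf_ePt : ∀ v : Vec, qf (ePt v) = (wt v : ZMod 3) := by decide +kernel

theorem refl_ePt : ∀ (i : Fin 3) (v : Vec),
    refl (pts i) (ePt v) = ePt (mono 1 (fun j => if j = i then -1 else 1) v) := by decide +kernel

theorem sign_prod : ∀ (ε : Fin 3 → (ZMod 3)ˣ) (v : Vec),
    mono 1 (fun j => if j = 0 then ε 0 else 1) (mono 1 (fun j => if j = 1 then ε 1 else 1)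
      (mono 1 (fun j => if j = 2 then ε 2 else 1) v)) = mono 1 ε v := by decide +kernel

theorem sign_twice : ∀ (ε : Fin 3 → (ZMod 3)ˣ) (v : Vec), mono 1 ε (mono 1 ε v) = v := by decide +kernel

theorem to_vz : ∀ v : Vec, wt v = 3 → ∃ ε : Fin 3 → (ZMod 3)ˣ, mono 1 ε v = vz := by decide +kernel

theorem wt_three_of_qf : ∀ v : Vec, v ≠ 0 → qf (ePt v) = 0 → wt v = 3 := by decide +kernel

theorem unit_cases : ∀ u : (ZMod 3)ˣ, u = 1 ∨ u = -1 := by decide

theorem mono_one : ∀ (v : Vec) (f : Fin 3 → (ZMod 3)ˣ), (∀ j, f j = 1) → mono 1 f v = v := by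
  intro v f hf
  funext i
  simp [mono, hf i]

/-- The image of `f` under an isometry fixing `z`, `n` and `r`. -/
theorem f_fixed : ∀ x : Four, bil x ![1, 0, 0, 0] = 1 → bil x ![0, 1, 0, 0] = 0 → bil x ![0, 0, 1, 0] = 0 →
    qf x = 0 → x = ![0, 0, 0, 1] := by
  intro x h1 h2 h3 h4
  have a := fun (v : Four) => bil_eq x v
  rw [a] at h1 h2 h3
  simp [qf] at h1 h2 h3 h4
  have key : ∀ a b c d : ZMod 3, d = 1 → 2 * b = 0 → 2 * c = 0 → a * d + b * b - c * c = 0 →
      a = 0 ∧ b = 0 ∧ c = 0 ∧ d = 1 := by decide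
  obtain ⟨e0, e1, e2, e3⟩ := key (x 0) (x 1) (x 2) (x 3) (by simpa using h1) (by simpa using h2)
    (by simpa using h3) (by simpa using h4)
  funext i
  fin_cases i <;> simp [e0, e1, e2, e3]

theorem bil_f : bil ![0, 0, 0, 1] ![1, 0, 0, 0] = 1 ∧ bil ![0, 0, 0, 1] ![0, 1, 0, 0] = 0 ∧
    bil ![0, 0, 0, 1] ![0, 0, 1, 0] = 0 := by decide

theorem n_image : ∀ a b c d : ZMod 3, bil ![a, b, c, d] ![1, 0, 0, 0] = 0 → bil ![a, b, c, d] ![0, 0, 1, 0] = 0 →
    bil ![a, b, c, d] ![0, 0, 0, 1] = 0 → qf ![a, b, c, d] = 1 →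
    ![a, b, c, d] = ![0, 1, 0, 0] ∨ ![a, b, c, d] = -![0, 1, 0, 0] := by decide +kernel

end Loc

end Cfsg.Agent.Spor.OmegaEightThree
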