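import Cfsg.Agent.Lib.Spor.OmegaEightThree.IndexThree
import Cfsg.Agent.Lib.Spor.OmegaEightThree.AxisData

/-!
The normaliser of `A = C_E(t)` in `C_G(t)`: inside the subgroup of index three it acts by sign changes of
the three orthogonal points.
-/

set_option autoImplicit false
set_option linter.unusedSectionVars false
set_option maxHeartbeats 1000000

namespace Cfsg.Agent.Spor.OmegaEightThree

open Cfsg.Agent.Spor.PSLFourThree (com)
open X (Vec wt mono dot)

local notation "SL2" => Matrix.SpecialLinearGroup (Fin 2) (ZMod 3)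
local notation "C3" => Multiplicative (ZMod 3)

theorem c3_two : ∀ x : C3, x * x = 1 → x = 1 := by decide

theorem c3_inv_self : ∀ x : C3, x⁻¹ = x → x = 1 := by decide

namespace Loc

variable {G : Type*} [Group G] [Finite G] {T : Loc G}

namespace Frame

/-- The element of `A` with given coordinates. -/
def ea (F : Frame T) (v : Vec) : G := F.el (ePt v)

/-- `k` acts on `A` by `f`. -/
def ActA (F : Frame T) (k : G) (f : Vec → Vec) : Prop := ∀ v, k * F.ea v * k⁻¹ = F.ea (f v)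

/-- The subgroup `A`. -/
def ASub (F : Frame T) : Set G := {x | ∃ v, F.ea v = x}

variable {F : Frame T}

theorem ActA.mul {k k' : G} {f f' : Vec → Vec} (h : F.ActA k f) (h' : F.ActA k' f') : F.ActA (k * k') (f ∘ f') := by
  intro v
  rw [Function.comp_apply, ← h, ← h']
  group

theorem ea_inj {v w : Vec} (h : F.ea v = F.ea w) : v = w := ePt_inj _ _ (F.el_inj h)

theorem ea_comm_t (v : Vec) : F.t * F.ea v = F.ea v * F.t := by
  refine mul_inv_eq_iff_eq_mul.1 ?_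
  rw [ea, F.conj_t]
  congr 1
  funext i
  fin_cases i <;> simp [ePt_one]

variable (hF : F.Classified)
include hF

theorem Classified.exists_sign (ε : Fin 3 → (ZMod 3)ˣ) :
    ∃ g : G, g * F.t = F.t * g ∧ g * g = 1 ∧ F.ActA g (mono 1 ε) := by
  obtain ⟨a, ha⟩ := hF.exists_refl (pts_facts 0).1
  obtain ⟨b, hb⟩ := hF.exists_refl (pts_facts 1).1
  obtain ⟨c, hc⟩ := hF.exists_refl (pts_facts 2).1
  have ta := hF.refl_commute F.t_refl ha (pts_facts 0).2.2.1 (pts_facts 0).2.1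
  have tb := hF.refl_commute F.t_refl hb (pts_facts 1).2.2.1 (pts_facts 1).2.1
  have tc := hF.refl_commute F.t_refl hc (pts_facts 2).2.2.1 (pts_facts 2).2.1
  have ab := hF.refl_commute ha hb ((pts_facts 0).2.2.2 1 (by decide)) ((pts_facts 1).2.2.2 0 (by decide))
  have ac := hF.refl_commute ha hc ((pts_facts 0).2.2.2 2 (by decide)) ((pts_facts 2).2.2.2 0 (by decide))
  have bc := hF.refl_commute hb hc ((pts_facts 1).2.2.2 2 (by decide)) ((pts_facts 2).2.2.2 1 (by decide))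
  have one : ∀ (i : Fin 3) (k : G), F.IsRefl k (pts i) → k * F.t = F.t * k → ∀ u : (ZMod 3)ˣ,
      ∃ g : G, (g = 1 ∨ g = k) ∧ F.ActA g (mono 1 fun j => if j = i then u else 1) := by
    intro i k hk hkt u
    rcases unit_cases u with rfl | rfl
    · refine ⟨1, Or.inl rfl, fun v => ?_⟩
      rw [one_mul, inv_one, mul_one, mono_one v _ fun j => by simp]
    · exact ⟨k, Or.inr rfl, fun v => by rw [ea, hk.act, refl_ePt]; rfl⟩
  obtain ⟨g₀, h₀, A₀⟩ := one 0 a ha ta.symm (ε 0)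
  obtain ⟨g₁, h₁, A₁⟩ := one 1 b hb tb.symm (ε 1)
  obtain ⟨g₂, h₂, A₂⟩ := one 2 c hc tc.symm (ε 2)
  refine ⟨g₀ * (g₁ * g₂), ?_, ?_, fun v => (A₀.mul (A₁.mul A₂) v).trans (congrArg F.ea (sign_prod ε v))⟩
  · have c0 : Commute g₀ F.t := by rcases h₀ with rfl | rfl; exacts [Commute.one_left _, ta.symm]
    have c1 : Commute g₁ F.t := by rcases h₁ with rfl | rfl; exacts [Commute.one_left _, tb.symm]
    have c2 : Commute g₂ F.t := by rcases h₂ with rfl | rfl; exacts [Commute.one_left _, tc.symm]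
    exact (c0.mul_left (c1.mul_left c2)).eq
  · have e0 : g₀ * g₀ = 1 := by rcases h₀ with rfl | rfl; exacts [one_mul _, ha.sq]
    have e1 : g₁ * g₁ = 1 := by rcases h₁ with rfl | rfl; exacts [one_mul _, hb.sq]
    have e2 : g₂ * g₂ = 1 := by rcases h₂ with rfl | rfl; exacts [one_mul _, hc.sq]
    have k01 : Commute g₀ g₁ := by
      rcases h₀ with rfl | rfl <;> rcases h₁ with rfl | rfl
      exacts [Commute.one_left _, Commute.one_left _, Commute.one_right _, ab]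
    have k02 : Commute g₀ g₂ := by
      rcases h₀ with rfl | rfl <;> rcases h₂ with rfl | rfl
      exacts [Commute.one_left _, Commute.one_left _, Commute.one_right _, ac]
    have k12 : Commute g₁ g₂ := by
      rcases h₁ with rfl | rfl <;> rcases h₂ with rfl | rfl
      exacts [Commute.one_left _, Commute.one_left _, Commute.one_right _, bc]
    rw [(k01.mul_right k02).symm.mul_mul_mul_comm, e0, one_mul, k12.symm.mul_mul_mul_comm, e1, e2, one_mul]

/-- An element of `Q` commuting with `f` lies in `E`. -/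
theorem Classified.mem_E_of_f {w : G} (hw : w ∈ T.Q) (hf : w * F.f = F.f * w) : w ∈ F.E := by
  obtain ⟨q₁, h₁, hU⟩ := hF.exists_U
  obtain ⟨q₀, h₀, -, hV⟩ := hF.exists_V
  obtain ⟨i, j, e, he, rfl⟩ := Q_gen h₁ hU h₀ hV hw
  have hA := (iterate_pow hU i).mul (iterate_pow hV j)
  have hkey : (mU^[i] ∘ mV^[j]) ![0, 0, 0, 1] = ![0, 0, 0, 1] := by
    refine hA.apply_eq ?_
    rw [F.el_f]
    have hef : e * F.f = F.f * e := F.E_comm he F.f_mem_E
    refine mul_inv_eq_iff_eq_mul.2 ?_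
    calc q₁ ^ i * q₀ ^ j * F.f = q₁ ^ i * q₀ ^ j * e * F.f * e⁻¹ := by
          rw [mul_assoc _ e, hef]; group
      _ = F.f * (q₁ ^ i * q₀ ^ j) := by rw [hf]; group
  have hV3 : ∀ j : ℕ, (mV^[j] ![0, 0, 0, 1]) 2 = -(j : ZMod 3) ∧ (mV^[j] ![0, 0, 0, 1]) 1 = 0 ∧
      (mV^[j] ![0, 0, 0, 1]) 3 = 1 := by
    intro j
    induction j with
    | zero => simp
    | succ j ih =>
      rw [Function.iterate_succ_apply']
      refine ⟨?_, ?_, ?_⟩ <;> simp [mV, ih.1, ih.2.1, ih.2.2]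
      ring
  have hU3 : ∀ (i : ℕ) (x : Four), (mU^[i] x) 2 = x 2 ∧ (mU^[i] x) 1 = x 1 + (i : ZMod 3) * x 3 ∧
      (mU^[i] x) 3 = x 3 := by
    intro i x
    induction i with
    | zero => simp
    | succ i ih =>
      rw [Function.iterate_succ_apply']
      refine ⟨?_, ?_, ?_⟩ <;> simp [mU, ih.1, ih.2.1, ih.2.2]
      ring
  have e2 := congrFun hkey 2
  have e1 := congrFun hkey 1
  rw [Function.comp_apply, (hU3 _ _).1, (hV3 j).1] at e2
  rw [Function.comp_apply, (hU3 _ _).2.1, (hV3 j).2.1, (hV3 j).2.2, mul_one, zero_add] at e1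
  have hj : (j : ZMod 3) = 0 := by simpa using e2
  have hi : (i : ZMod 3) = 0 := by simpa using e1
  obtain ⟨i', rfl⟩ := (ZMod.natCast_eq_zero_iff _ 3).1 hi
  obtain ⟨j', rfl⟩ := (ZMod.natCast_eq_zero_iff _ 3).1 hj
  rw [pow_mul, pow_mul, T.exp _ h₁, T.exp _ h₀, one_pow, one_pow, one_mul, one_mul]
  exact he

variable (hS : T.Single)
include hS

/-- The normaliser of `A` in `C_G(t)` normalises `E`. -/
theorem Classified.norm_A {k : G} (hkt : k * F.t = F.t * k) (hk : ∀ v, ∃ w, k * F.ea v * k⁻¹ = F.ea w) :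
    ∃ ψ, F.Act k ψ ∧ (ψ ![0, 1, 0, 0] = ![0, 1, 0, 0] ∨ ψ ![0, 1, 0, 0] = -![0, 1, 0, 0]) ∧
      ∀ v, ∃ w, ψ (ePt v) = ePt w := by
  classical
  have hsurj : ∀ u, ∃ v, k * F.ea v * k⁻¹ = F.ea u := by
    choose f hf using hk
    have hinj : Function.Injective f := fun v w e => by
      have h := (hf v).trans ((congrArg F.ea e).trans (hf w).symm)
      exact ea_inj (by simpa using h)
    intro u
    obtain ⟨v, rfl⟩ := Finite.surjective_of_injective hinj u
    exact ⟨v, hf v⟩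
  set w := k * F.n * k⁻¹ with hw
  have hwA : ∀ u, w * F.ea u = F.ea u * w := by
    intro u
    obtain ⟨v, hv⟩ := hsurj u
    have hc : Commute F.n (F.ea v) := by rw [← F.el_n]; exact F.el_comm _ _
    rw [← hv, hw]
    exact ((Commute.conj_iff k).2 hc).eq
  have hat : ∀ x : Four, x 1 = 0 → w * F.el x = F.el x * w := fun x hx => by
    obtain ⟨u, rfl⟩ := ePt_surj x hx
    exact hwA u
  have hwC : w ∈ T.C := T.mem_C.2 (by rw [← F.el_z]; exact hat _ rfl)
  have hw3 : w ^ 3 = 1 := by rw [hw, conj_pow, ← F.el_n, F.el_cube, mul_one, mul_inv_cancel]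
  -- `w` normalises `E`
  set u := w * F.n * w⁻¹ with hu
  have huE : u ∈ F.E := by
    refine hF.mem_E_of_f (T.conj_Q hwC F.n_mem) ?_
    have hc : Commute F.n F.f := (show Commute F.f F.n from F.f_n).symm
    have h := (Commute.conj_iff w).2 hc
    rw [show w * F.f * w⁻¹ = F.f by rw [← F.el_f, hat _ rfl, mul_inv_cancel_right]] at h
    exact h.eq
  obtain ⟨x, hx⟩ := F.mem_E_iff.1 huE
  have hfix : ∀ y : Four, y 1 = 0 → w * F.el y * w⁻¹ = F.el y := fun y hy => by rw [hat y hy, mul_inv_cancel_right]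
  have hA : F.Act w fun v => v 0 • ![1, 0, 0, 0] + v 1 • x + v 2 • ![0, 0, 1, 0] + v 3 • ![0, 0, 0, 1] := by
    intro v
    rw [F.conj_el (a := ![1, 0, 0, 0]) (b := x) (c := ![0, 0, 1, 0]) (d := ![0, 0, 0, 1])
      (by rw [← F.el_z, hfix _ rfl]) hx.symm (by rw [← F.el_r, hfix _ rfl]) (by rw [← F.el_f, hfix _ rfl]) v]
  obtain ⟨φ, hφdef⟩ : ∃ φ : Four → Four, φ = fun v => v 0 • ![1, 0, 0, 0] + v 1 • x + v 2 • ![0, 0, 1, 0] +
      v 3 • ![0, 0, 0, 1] := ⟨_, rfl⟩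
  rw [← hφdef] at hA
  have φn : φ ![0, 1, 0, 0] = x := hA.apply_eq (by rw [F.el_n, hx])
  have φz : φ ![1, 0, 0, 0] = ![1, 0, 0, 0] := hA.apply_eq (hfix _ rfl)
  have φr : φ ![0, 0, 1, 0] = ![0, 0, 1, 0] := hA.apply_eq (hfix _ rfl)
  have φf : φ ![0, 0, 0, 1] = ![0, 0, 0, 1] := hA.apply_eq (hfix _ rfl)
  have hxn : x = ![0, 1, 0, 0] ∨ x = -![0, 1, 0, 0] := by
    have b1 := hF.bil_image hA ![0, 1, 0, 0] ![1, 0, 0, 0]
    have b2 := hF.bil_image hA ![0, 1, 0, 0] ![0, 0, 1, 0]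
    have b3 := hF.bil_image hA ![0, 1, 0, 0] ![0, 0, 0, 1]
    have b4 := hF.isom hA ![0, 1, 0, 0]
    rw [φn, φz] at b1
    rw [φn, φr] at b2
    rw [φn, φf] at b3
    rw [φn] at b4
    rw [four_eta x] at b1 b2 b3 b4 ⊢
    refine n_image _ _ _ _ (b1.trans ?_) (b2.trans ?_) (b3.trans ?_) (b4.trans qf_basic.2.1) <;>
      simp [bil_eq]
  have hwE : w ∈ F.E := by
    refine hF.cent_E fun v => mul_inv_eq_iff_eq_mul.1 ?_
    rcases hxn with e | e
    · rw [hA, hA.linear v, φz, φn, φr, φf, e, ← four_split v]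
    · exfalso
      have h3 := ((hA.mul hA).mul hA) ![0, 1, 0, 0]
      have e3 : w * w * w = 1 := by rw [← pow_two, ← pow_succ, hw3]
      rw [e3, one_mul, inv_one, mul_one] at h3
      have h4 := F.el_inj h3
      simp only [Function.comp_apply, φn, e, hA.neg] at h4
      exact absurd h4 (by decide)
  obtain ⟨y, hy⟩ := F.mem_E_iff.1 hwE
  have hti : F.t * F.el y * F.t⁻¹ = F.el (-y) := by
    have htk : F.t * k = k * F.t := hkt.symm
    rw [F.el_neg, hy, hw, show F.t * (k * F.n * k⁻¹) * F.t⁻¹ = F.t * k * F.n * (F.t * k)⁻¹ by group, htk,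
      show k * F.t * F.n * (k * F.t)⁻¹ = k * (F.t * F.n * F.t⁻¹) * k⁻¹ by group, F.comps.inv]
    group
  rw [F.conj_t] at hti
  have hyn : y 0 = 0 ∧ y 2 = 0 ∧ y 3 = 0 := by
    have h := F.el_inj hti
    have hself : ∀ a : ZMod 3, a = -a → a = 0 := by decide
    exact ⟨hself _ (by simpa using congrFun h 0), hself _ (by simpa using congrFun h 2),
      hself _ (by simpa using congrFun h 3)⟩
  have hkE : k ∈ Subgroup.normalizer (F.E : Set G) := by
    refine Subgroup.mem_normalizer_fintype fun a ha => ?_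
    obtain ⟨v, rfl⟩ := F.mem_E_iff.1 ha
    obtain ⟨v₀, hv₀⟩ := ePt_surj ![v 0, 0, v 2, v 3] rfl
    obtain ⟨v₁, hv₁⟩ := hk v₀
    rw [show v = ePt v₀ + v 1 • ![0, 1, 0, 0] by rw [hv₀]; funext i; fin_cases i <;> simp, F.el_mul, F.el_smul,
      F.el_n, ← conj_mul, ← conj_pow, ← hw, ← hy]
    exact mul_mem (by rw [ea] at hv₁; rw [hv₁]; exact F.el_mem _) (pow_mem (F.el_mem _) _)
  obtain ⟨ψ, hψ⟩ := F.exists_act hkE
  refine ⟨ψ, hψ, ?_, fun v => ?_⟩
  · have e : ψ ![0, 1, 0, 0] = y := hψ.apply_eq (by rw [F.el_n, hy])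
    rw [e]
    rcases zmod3_cases (y 1) with h | h | h
    · exfalso
      have : y = ψ 0 := by
        rw [hψ.zero, four_eta y, hyn.1, hyn.2.1, hyn.2.2, h]; funext i; fin_cases i <;> rfl
      exact absurd (hψ.injective (e.trans this)) (by decide)
    · left; rw [four_eta y, hyn.1, hyn.2.1, hyn.2.2, h]
    · right; rw [four_eta y, hyn.1, hyn.2.1, hyn.2.2, h]; funext i; fin_cases i <;> simp
  · obtain ⟨w', hw'⟩ := hk v
    exact ⟨w', hψ.apply_eq hw'⟩

/-- Inside the subgroup of index three the normaliser of `A` in `C_G(t)` changes signs only. -/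
theorem Classified.auto_A {φ : G →* C3} {q₀ : G} (hq₀t : F.t * q₀ = q₀ * F.t) (hV : F.Act q₀ mV)
    (hφ : φ q₀ ≠ 1) (hφE : ∀ v, φ (F.el v) = 1) {k : G} (hkt : k * F.t = F.t * k)
    (hk : ∀ v, ∃ w, k * F.ea v * k⁻¹ = F.ea w) (hφk : φ k = 1) :
    ∃ ε : Fin 3 → (ZMod 3)ˣ, F.ActA k (mono 1 ε) ∧ ∃ g e : G, g * F.t = F.t * g ∧ g * g = 1 ∧
      F.ActA g (mono 1 ε) ∧ (∃ v, F.ea v = e) ∧ (g * k = e ∨ g * k = F.t * e) := by
  classical
  obtain ⟨ψ, hψ, -, hψA⟩ := hF.norm_A hS hkt hk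
  obtain ⟨u, hu⟩ := hψA vz
  have hu3 : wt u = 3 := by
    refine wt_three_of_qf u (fun e => ?_) ?_
    · have h := hψ.injective (hu.trans ((congrArg ePt e).trans ((show ePt 0 = 0 by simp [ePt]).trans hψ.zero.symm)))
      rw [ePt_vz] at h
      exact absurd h (by decide)
    · rw [← hu, hF.isom hψ, ePt_vz]; exact qf_basic.1
  obtain ⟨ε, hε⟩ := to_vz u hu3
  obtain ⟨g, hgt, hg2, hgA⟩ := hF.exists_sign ε
  have hgi : g⁻¹ = g := inv_eq_of_mul_eq_one_right hg2
  set k' := g * k with hk'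
  have hk't : k' * F.t = F.t * k' :=
    ((show Commute g F.t from hgt).mul_left (show Commute k F.t from hkt)).eq
  have hk'A : ∀ v, ∃ w, k' * F.ea v * k'⁻¹ = F.ea w := fun v => by
    obtain ⟨w, hw⟩ := hk v
    exact ⟨_, by rw [← hgA w, ← hw, hk']; group⟩
  obtain ⟨ψ', hψ', hn', hψ'A⟩ := hF.norm_A hS hk't hk'A
  have hz' : ψ' ![1, 0, 0, 0] = ![1, 0, 0, 0] := by
    refine hψ'.apply_eq ?_
    rw [← ePt_vz, hk', show g * k * F.el (ePt vz) * (g * k)⁻¹ = g * (k * F.el (ePt vz) * k⁻¹) * g⁻¹ by group, hψ, hu,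
      show g * F.el (ePt u) * g⁻¹ = F.el (ePt (mono 1 ε u)) from hgA u, hε]
  have hk'C : k' ∈ T.C := T.mem_C.2 (by
    refine mul_inv_eq_iff_eq_mul.1 ?_
    rw [← F.el_z, hψ', hz'])
  obtain ⟨i, hi⟩ : ∃ i : ZMod 3, ψ' ![0, 0, 1, 0] = ![i, 0, 1, 0] := by
    have h := (pair_comp F.ht F.hg F.comps.hn F.comps.hr F.comps.he F.comps.hn1 F.comps.cent).2.2.1.2 (T.ρ ⟨k', hk'C⟩)
    rw [T.act_bar (hS _)] at h
    obtain ⟨l, hl⟩ := Subgroup.mem_zpowers_iff.1 (T.bar_eq.1 h.symm :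
      F.r⁻¹ * (k' * F.r * k'⁻¹) ∈ T.toPre.Z)
    refine ⟨(l : ZMod 3), hψ'.apply_eq ?_⟩
    rw [show (![(l : ZMod 3), 0, 1, 0] : Four) = (l : ZMod 3) • ![1, 0, 0, 0] + ![0, 0, 1, 0] from by
      funext c; fin_cases c <;> simp, F.el_mul, F.el_smul, F.el_z, F.el_r, pow_val_intCast T.z_cube,
      ((show Commute T.z F.r from F.r_z.symm).zpow_left l).eq, hl, mul_inv_cancel_left]
  obtain ⟨s, hs, hst, hsφ⟩ : ∃ s : G, (s = 1 ∨ s = F.t) ∧ s * F.t = F.t * s ∧ φ s = 1 ∧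
      (∃ ξ, F.Act s ξ ∧ ξ ![1, 0, 0, 0] = ![1, 0, 0, 0] ∧ ξ ![0, 0, 1, 0] = ![0, 0, 1, 0] ∧
        ξ (ψ' ![0, 1, 0, 0]) = ![0, 1, 0, 0] ∧ ∀ v, ξ (ePt v) = ePt v) := by
    rcases hn' with e | e
    · exact ⟨1, Or.inl rfl, by simp, map_one φ, id, Act.one, rfl, rfl, e, fun _ => rfl⟩
    · refine ⟨F.t, Or.inr rfl, rfl, c3_two _ (by rw [← map_mul, F.ht.sq, map_one]), _, F.act_t, ?_, ?_, ?_, fun v => ?_⟩
      · funext c; fin_cases c <;> simp
      · funext c; fin_cases c <;> simp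
      · rw [e]; funext c; fin_cases c <;> simp
      · funext c; fin_cases c <;> simp [ePt_one]
  obtain ⟨hsφ, ξ, hξ, ξz, ξr, ξn, ξA⟩ := hsφ
  set m := (-i).val with hm
  have hθ := (iterate_pow hV m).mul (hξ.mul hψ')
  set k'' := q₀ ^ m * (s * k') with hk''
  set θ := mV^[m] ∘ (ξ ∘ ψ') with hθdef
  have θz : θ ![1, 0, 0, 0] = ![1, 0, 0, 0] := by
    rw [hθdef, Function.comp_apply, Function.comp_apply, hz', ξz, (mV_iter m).2.1]
  have θn : θ ![0, 1, 0, 0] = ![0, 1, 0, 0] := by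
    rw [hθdef, Function.comp_apply, Function.comp_apply, ξn, (mV_iter m).2.2]
  have θr : θ ![0, 0, 1, 0] = ![0, 0, 1, 0] := by
    rw [hθdef, Function.comp_apply, Function.comp_apply, hi,
      show (![i, 0, 1, 0] : Four) = i • ![1, 0, 0, 0] + ![0, 0, 1, 0] from by funext c; fin_cases c <;> simp,
      hξ.add, hξ.smul, ξz, ξr, (iterate_pow hV m).add, (iterate_pow hV m).smul, (mV_iter m).2.1, (mV_iter m).1,
      hm, ZMod.natCast_zmod_val]
    funext c; fin_cases c <;> simp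
  have θf : θ ![0, 0, 0, 1] = ![0, 0, 0, 1] := by
    refine f_fixed _ ?_ ?_ ?_ (by rw [hF.isom hθ]; exact qf_basic.2.2.2.1)
    · rw [← θz, hF.bil_image hθ]; exact bil_f.1
    · rw [← θn, hF.bil_image hθ]; exact bil_f.2.1
    · rw [← θr, hF.bil_image hθ]; exact bil_f.2.2
  have hk''E : k'' ∈ F.E := hF.cent_E fun v => mul_inv_eq_iff_eq_mul.1 (by
    rw [hθ, hθ.linear v, θz, θn, θr, θf, ← four_split v])
  obtain ⟨y, hy⟩ := F.mem_E_iff.1 hk''E
  have hφk' : φ k' = 1 := by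
    rw [hk', map_mul, hφk, mul_one]
    exact c3_two _ (by rw [← map_mul, hg2, map_one])
  have hm0 : m = 0 := by
    have h := congrArg φ hy
    rw [hφE, hk'', map_mul, map_mul, hsφ, hφk', map_pow, mul_one, mul_one] at h
    by_contra hm0
    have hlt : m < 3 := ZMod.val_lt _
    refine hφ ?_
    rcases (by omega : m = 1 ∨ m = 2) with e | e <;> rw [e] at h
    · simpa using h.symm
    · exact c3_two _ (by rw [← pow_two]; exact h.symm)
  rw [hk'', hm0, pow_zero, one_mul] at hy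
  have hst' : Commute (s * k') F.t := (show Commute s F.t from hst).mul_left hk't
  have hy1 : y 1 = 0 := by
    have h : F.t * F.el y * F.t⁻¹ = F.el y := by rw [hy, ← hst'.eq, mul_inv_cancel_right]
    rw [F.conj_t] at h
    have h1 := congrFun (F.el_inj h) 1
    exact (show ∀ a : ZMod 3, -a = a → a = 0 by decide) _ (by simpa using h1)
  obtain ⟨v, hv⟩ := ePt_surj y hy1
  have he : F.ea v = s * k' := by rw [ea, hv, hy]
  have hdec : g * k = F.ea v ∨ g * k = F.t * F.ea v := by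
    rw [he]
    rcases hs with rfl | rfl
    · left; rw [one_mul]
    · right; rw [← mul_assoc, F.ht.sq, one_mul]
  refine ⟨ε, fun w => ?_, g, _, hgt, hg2, hgA, ⟨v, rfl⟩, hdec⟩
  have hfix : g * k * F.ea w * (g * k)⁻¹ = F.ea w := by
    have hc : Commute (F.ea v) (F.ea w) := F.el_comm _ _
    rcases hdec with e | e <;> rw [e]
    · rw [hc.eq, mul_inv_cancel_right]
    · rw [((show Commute F.t (F.ea w) from ea_comm_t w).mul_left hc).eq, mul_inv_cancel_right]
  rw [← hgA w]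
  conv_rhs => rw [← hfix]
  rw [show g * (g * k * F.ea w * (g * k)⁻¹) * g⁻¹ = g * g * k * F.ea w * k⁻¹ * (g * g)⁻¹ by group, hg2,
    one_mul, inv_one, mul_one]

end Frame

end Loc

end Cfsg.Agent.Spor.OmegaEightThree
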