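import Mathlib
import Cfsg.Agent.Lib.Spor.PSLFourThree.LocNatural

/-!
The centraliser of a central `3`-element in the recognition of `Ω⁺₈(2).3` and `Ω⁺₈(2).Sym(3)`:
`3^{1+4}.SL₂(3)` or `3^{1+4}.(SL₂(3) × 2)`, the quotient `Q/Z` and the action of `SL₂(3)` on it.
-/

set_option autoImplicit false
set_option linter.unusedSectionVars false

namespace Cfsg.Agent.Spor.OmegaEightThree

open Cfsg.Agent.Spor.PSLFourThree (com)

local notation "SL2" => Matrix.SpecialLinearGroup (Fin 2) (ZMod 3)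

/-- The data of `C_G(z)` before anything is known about the module structure; `η` is trivial on the
part generated by the elements of odd order. -/
structure Pre (G : Type*) [Group G] where
  z : G
  Q : Subgroup G
  ρ : ↥(Subgroup.centralizer ({z} : Set G)) →* SL2
  η : ↥(Subgroup.centralizer ({z} : Set G)) →* Multiplicative (ZMod 2)
  hz : orderOf z = 3
  hzQ : z ∈ Q
  card_Q : Nat.card Q = 243
  exp : ∀ a ∈ Q, a ^ 3 = 1
  center : ∀ a ∈ Q, (∀ b ∈ Q, a * b = b * a) → a ∈ Subgroup.zpowers z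
  com_mem : ∀ a ∈ Q, ∀ b ∈ Q, com a b ∈ Subgroup.zpowers z
  normQ : Subgroup.centralizer ({z} : Set G) ≤ Subgroup.normalizer (Q : Set G)
  QC : Q ≤ Subgroup.centralizer ({z} : Set G)
  self : Subgroup.centralizer (Q : Set G) ≤ Q
  ρsurj : ∀ g, ∃ c, ρ c = g ∧ η c = 1
  ρker : ∀ c, ρ c = 1 ∧ η c = 1 ↔ (c : G) ∈ Q
  sylow : ∀ P : Subgroup G, IsPGroup 3 P → Nat.card P ≤ 729

namespace Pre

variable {G : Type*} [Group G] (T : Pre G)

/-- `Z = ⟨z⟩`. -/
def Z : Subgroup G := Subgroup.zpowers T.z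

/-- `C = C_G(z)`. -/
abbrev C : Subgroup G := Subgroup.centralizer ({T.z} : Set G)

theorem z_mem : T.z ∈ T.Z := Subgroup.mem_zpowers _

theorem Z_le : T.Z ≤ T.Q := Subgroup.zpowers_le.2 T.hzQ

theorem card_Z : Nat.card T.Z = 3 := by rw [Z, Nat.card_zpowers, T.hz]

theorem z_cube : T.z ^ 3 = 1 := T.hz ▸ pow_orderOf_eq_one T.z

theorem z_ne : T.z ≠ 1 := fun h => by
  have := T.hz
  rw [h, orderOf_one] at this
  norm_num at this

theorem mem_C {g : G} : g ∈ T.C ↔ g * T.z = T.z * g := Subgroup.mem_centralizer_singleton_iff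

theorem Q_le_C : T.Q ≤ T.C := T.QC

theorem Z_central {a : G} (ha : a ∈ T.C) {x : G} (hx : x ∈ T.Z) : a * x = x * a := by
  obtain ⟨k, rfl⟩ := hx
  exact (Commute.zpow_right (T.mem_C.1 ha) k)

theorem conj_Q {c : G} (hc : c ∈ T.C) {a : G} (ha : a ∈ T.Q) : c * a * c⁻¹ ∈ T.Q :=
  (Subgroup.mem_normalizer_iff.1 (T.normQ hc) a).1 ha

theorem conj_Z {c : G} (hc : c ∈ T.C) {a : G} (ha : a ∈ T.Z) : c * a * c⁻¹ = a := by
  rw [T.Z_central hc ha, mul_inv_cancel_right]

theorem cube_iff {a : G} (ha : a ∈ T.Q) : a * a * a = 1 := by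
  rw [← T.exp a ha, pow_succ, pow_two]

theorem inv_eq_sq {a : G} (ha : a ∈ T.Q) : a⁻¹ = a * a :=
  inv_eq_of_mul_eq_one_right (by rw [← mul_assoc]; exact T.cube_iff ha)

theorem com_mem' {a b : G} (ha : a ∈ T.Q) (hb : b ∈ T.Q) : com a b ∈ T.Z := T.com_mem a ha b hb

theorem com_mul_left {a a' b : G} (ha : a ∈ T.Q) (ha' : a' ∈ T.Q) (hb : b ∈ T.Q) :
    com (a * a') b = com a b * com a' b := by
  have h := T.Z_central (T.Q_le_C ha) (T.com_mem' ha' hb)
  have h2 := T.Z_central (T.Q_le_C (T.Z_le (T.com_mem' ha hb))) (T.com_mem' ha' hb)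
  calc com (a * a') b = a * com a' b * a⁻¹ * com a b := by simp only [com]; group
    _ = com a' b * com a b := by rw [h, mul_inv_cancel_right]
    _ = com a b * com a' b := h2.symm

theorem com_inv {a b : G} : com b a = (com a b)⁻¹ := by simp only [com]; group

theorem com_mul_right {a b b' : G} (ha : a ∈ T.Q) (hb : b ∈ T.Q) (hb' : b' ∈ T.Q) :
    com a (b * b') = com a b * com a b' := by
  rw [com_inv (b := a), T.com_mul_left hb hb' ha, mul_inv_rev, ← com_inv, ← com_inv]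
  exact T.Z_central (T.Q_le_C (T.Z_le (T.com_mem' ha hb'))) (T.com_mem' ha hb)

theorem com_conj {c a b : G} : c * com a b * c⁻¹ = com (c * a * c⁻¹) (c * b * c⁻¹) := by
  simp only [com]; group

theorem com_eq_one_iff {a b : G} : com a b = 1 ↔ a * b = b * a := by
  simp only [com, mul_inv_eq_iff_eq_mul, one_mul]

theorem com_self {a : G} : com a a = 1 := com_eq_one_iff.2 rfl

theorem com_Z_right {a x : G} (ha : a ∈ T.Q) (hx : x ∈ T.Z) : com a x = 1 :=
  com_eq_one_iff.2 (T.Z_central (T.Q_le_C ha) hx)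

instance normal_Z_Q : (T.Z.subgroupOf T.Q).Normal where
  conj_mem n hn q := by
    rw [Subgroup.mem_subgroupOf] at hn ⊢
    push_cast
    rwa [T.conj_Z (T.Q_le_C q.2) hn]

/-- `Q/Z`. -/
abbrev V : Type _ := ↥T.Q ⧸ T.Z.subgroupOf T.Q

/-- The image in `Q/Z`. -/
def bar (a : T.Q) : T.V := QuotientGroup.mk a

@[simp] theorem bar_mul (a b : T.Q) : T.bar (a * b) = T.bar a * T.bar b := rfl

@[simp] theorem bar_inv (a : T.Q) : T.bar a⁻¹ = (T.bar a)⁻¹ := rfl

@[simp] theorem bar_one : T.bar 1 = 1 := rfl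

theorem bar_eq_one {a : T.Q} : T.bar a = 1 ↔ (a : G) ∈ T.Z :=
  (QuotientGroup.eq_one_iff a).trans Subgroup.mem_subgroupOf

theorem bar_eq {a b : T.Q} : T.bar a = T.bar b ↔ (a : G)⁻¹ * b ∈ T.Z :=
  QuotientGroup.eq.trans Subgroup.mem_subgroupOf

theorem bar_surj (v : T.V) : ∃ a : T.Q, T.bar a = v := QuotientGroup.mk_surjective v

instance comm_V : CommGroup T.V :=
  { (inferInstance : Group T.V) with
    mul_comm := fun v w => by
      obtain ⟨a, rfl⟩ := T.bar_surj v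
      obtain ⟨b, rfl⟩ := T.bar_surj w
      rw [← bar_mul, ← bar_mul, bar_eq]
      have h : ((a * b : T.Q) : G)⁻¹ * ((b * a : T.Q) : G) = com (b : G)⁻¹ (a : G)⁻¹ := by
        simp only [com, Subgroup.coe_mul]; group
      rw [h]
      exact T.com_mem' (inv_mem b.2) (inv_mem a.2) }

theorem V_cube (v : T.V) : v ^ 3 = 1 := by
  obtain ⟨a, rfl⟩ := T.bar_surj v
  have h : a ^ 3 = 1 := Subtype.ext (by simpa using T.exp a a.2)
  exact (QuotientGroup.mk_pow _ a 3).symm.trans (by rw [h]; rfl)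

theorem card_V : Nat.card T.V = 81 := by
  have h := Subgroup.card_eq_card_quotient_mul_card_subgroup (T.Z.subgroupOf T.Q)
  rw [Nat.card_congr (Subgroup.subgroupOfEquivOfLe T.Z_le).toEquiv, T.card_Z, T.card_Q] at h
  change Nat.card T.V = 81
  change 243 = Nat.card T.V * 3 at h
  omega

/-- Conjugation of an element of `C` on `Q/Z`. -/
def conjV (c : T.C) : T.V →* T.V :=
  QuotientGroup.map _ _
    { toFun := fun a : T.Q => (⟨c * a * (c : G)⁻¹, T.conj_Q c.2 a.2⟩ : T.Q)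
      map_one' := Subtype.ext (by simp)
      map_mul' := fun a b => Subtype.ext (by simp [mul_assoc]) }
    (fun a ha => by
      rw [Subgroup.mem_subgroupOf] at ha
      show (⟨c * a * (c : G)⁻¹, T.conj_Q c.2 a.2⟩ : T.Q) ∈ T.Z.subgroupOf T.Q
      rw [Subgroup.mem_subgroupOf]
      show (c : G) * a * (c : G)⁻¹ ∈ T.Z
      rwa [T.conj_Z c.2 ha])

theorem conjV_bar (c : T.C) (a : T.Q) :
    T.conjV c (T.bar a) = T.bar ⟨c * a * (c : G)⁻¹, T.conj_Q c.2 a.2⟩ := rfl

/-- Conjugation as a homomorphism to the automorphisms of `Q/Z`. -/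
def μ : T.C →* MulAut T.V where
  toFun c := MonoidHom.toMulEquiv (T.conjV c) (T.conjV c⁻¹)
    (MonoidHom.ext fun v => by
      obtain ⟨a, rfl⟩ := T.bar_surj v
      show T.conjV c⁻¹ (T.conjV c (T.bar a)) = T.bar a
      rw [conjV_bar, conjV_bar]
      exact congrArg T.bar (Subtype.ext (by simp [mul_assoc])))
    (MonoidHom.ext fun v => by
      obtain ⟨a, rfl⟩ := T.bar_surj v
      show T.conjV c (T.conjV c⁻¹ (T.bar a)) = T.bar a
      rw [conjV_bar, conjV_bar]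
      exact congrArg T.bar (Subtype.ext (by simp [mul_assoc])))
  map_one' := MulEquiv.ext fun v => by
    obtain ⟨a, rfl⟩ := T.bar_surj v
    show T.conjV 1 (T.bar a) = T.bar a
    rw [conjV_bar]
    exact congrArg T.bar (Subtype.ext (by simp))
  map_mul' c d := MulEquiv.ext fun v => by
    obtain ⟨a, rfl⟩ := T.bar_surj v
    show T.conjV (c * d) (T.bar a) = T.conjV c (T.conjV d (T.bar a))
    rw [conjV_bar, conjV_bar, conjV_bar]
    exact congrArg T.bar (Subtype.ext (by simp [mul_assoc]))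

theorem μ_bar (c : T.C) (a : T.Q) :
    T.μ c (T.bar a) = T.bar ⟨c * a * (c : G)⁻¹, T.conj_Q c.2 a.2⟩ := rfl

theorem μ_one_of_Q {c : T.C} (hq : (c : G) ∈ T.Q) : T.μ c = 1 := by
  refine MulEquiv.ext fun v => ?_
  obtain ⟨a, rfl⟩ := T.bar_surj v
  rw [μ_bar]
  show T.bar _ = T.bar a
  rw [bar_eq]
  have h : ((c : G) * a * (c : G)⁻¹)⁻¹ * a = (com (c : G) (a : G)⁻¹) := by simp only [com]; group
  rw [h]
  exact T.com_mem' hq (inv_mem a.2)

/-- The part of `C` generated by the elements of odd order. -/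
def K : Subgroup T.C := T.η.ker

theorem ker_le : (T.ρ.comp T.K.subtype).ker ≤ (T.μ.comp T.K.subtype).ker := fun c hc =>
  T.μ_one_of_Q ((T.ρker c).1 ⟨hc, c.2⟩)

theorem ρK_surj : Function.Surjective (T.ρ.comp T.K.subtype) := fun g => by
  obtain ⟨c, hc, hc'⟩ := T.ρsurj g
  exact ⟨⟨c, hc'⟩, hc⟩

/-- The action of `SL₂(3)` on `Q/Z`. -/
noncomputable def act : SL2 →* MulAut T.V :=
  MonoidHom.liftOfSurjective (T.ρ.comp T.K.subtype) T.ρK_surj ⟨T.μ.comp T.K.subtype, T.ker_le⟩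

theorem act_ρ {c : T.C} (hc : T.η c = 1) : T.act (T.ρ c) = T.μ c := by
  show MonoidHom.liftOfRightInverse _ _ _ ⟨T.μ.comp T.K.subtype, T.ker_le⟩
    ((T.ρ.comp T.K.subtype) ⟨c, hc⟩) = T.μ c
  exact MonoidHom.liftOfRightInverse_comp_apply _ _ _ _ _

theorem act_bar {c : T.C} (hc : T.η c = 1) (a : T.Q) :
    T.act (T.ρ c) (T.bar a) = T.bar ⟨c * a * (c : G)⁻¹, T.conj_Q c.2 a.2⟩ := by
  rw [T.act_ρ hc, μ_bar]

theorem η_cube {c : T.C} {n : ℕ} (h : c ^ (3 ^ n) = 1) : T.η c = 1 := by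
  have h1 : orderOf (T.η c) ∣ 3 ^ n := orderOf_dvd_of_pow_eq_one (by rw [← map_pow, h, map_one])
  have h2 : orderOf (T.η c) ∣ 2 := by
    have := orderOf_dvd_natCard (T.η c)
    rwa [Nat.card_eq_fintype_card, Fintype.card_multiplicative, ZMod.card] at this
  exact orderOf_eq_one_iff.1 (Nat.eq_one_of_dvd_coprimes (Nat.Coprime.pow_left n (by norm_num)) h1 h2)

end Pre

end Cfsg.Agent.Spor.OmegaEightThree
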