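import Cfsg.Agent.Lib.Spor.OmegaEightThree.Lines

/-!
The conjugates of `z^{±1}` in `E` are the singular points of a quadratic form of plus type, after a
normalisation of `f`.
-/

set_option autoImplicit false
set_option linter.unusedSectionVars false
set_option maxHeartbeats 1600000

namespace Cfsg.Agent.Spor.OmegaEightThree

open Cfsg.Agent.Spor.PSLFourThree (com)

/-- The quadratic form on the coordinates of `E`. -/
def qf (v : Four) : ZMod 3 := v 0 * v 3 + v 1 * v 1 - v 2 * v 2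

/-- The invariant of the translations. -/
def pot (β γ lam a b c : ZMod 3) : ZMod 3 := a + β * (b * b) + γ * (c * c) - lam * c

theorem pot_step : ∀ β γ l a b c : ZMod 3, β ≠ 0 → γ ≠ 0 →
    pot β γ (l * γ + 1) (a + b - β) (b + β) c = pot β γ (l * γ + 1) a b c ∧
      pot β γ (l * γ + 1) (a + c + l) b (c + γ) = pot β γ (l * γ + 1) a b c := by
  unfold pot
  decide +kernel

theorem line_forces : ∀ k β γ lam : ZMod 3, β ≠ 0 → γ ≠ 0 →
    (∀ m : ZMod 3, pot β γ lam (m * k) m m = 0) → γ = -β := by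
  unfold pot
  decide +kernel

theorem vertex_plus : ∀ lam a b c : ZMod 3,
    pot 1 (-1) lam (a + -(lam * lam)) b (c + lam) = 0 ↔ a = c * c - b * b := by
  unfold pot
  decide +kernel

theorem vertex_minus : ∀ lam a b c : ZMod 3,
    pot (-1) 1 lam (-a + lam * lam) (-b) (-c + -lam) = 0 ↔ a = c * c - b * b := by
  unfold pot
  decide +kernel

theorem pm_one : ∀ a : ZMod 3, a ≠ 0 → a = 1 ∨ a = -1 := by decide

namespace Loc

variable {G : Type*} [Group G] [Finite G] {T : Loc G}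

namespace Frame

variable (F : Frame T)

/-- A frame whose classification is the standard one. -/
def Classified : Prop := ∀ a b c : ZMod 3, T.IsZ (F.el ![a, b, c, 1]) ↔ a = c * c - b * b

theorem isZ_pot : ∃ β γ lam : ZMod 3, β ≠ 0 ∧ γ ≠ 0 ∧
    ∀ a b c : ZMod 3, T.IsZ (F.el ![a, b, c, 1]) ↔ pot β γ lam a b c = 0 := by
  obtain ⟨q1, -, β, hβ, h1⟩ := F.exists_q1
  obtain ⟨q0, -, -, l, γ, hγ, h0⟩ := F.exists_q0
  refine ⟨β, γ, l * γ + 1, hβ, hγ, ?_⟩
  have s1 : ∀ a b c : ZMod 3, ∀ j : ℕ, ∃ k a', k * F.el ![a, b, c, 1] * k⁻¹ = F.el ![a', b + (j : ZMod 3) * β, c, 1] ∧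
      pot β γ (l * γ + 1) a' (b + (j : ZMod 3) * β) c = pot β γ (l * γ + 1) a b c := by
    intro a b c j
    induction j with
    | zero => exact ⟨1, a, by simp, by simp⟩
    | succ j ih =>
      obtain ⟨k, a', hk, hp⟩ := ih
      refine ⟨q1 * k, a' + (b + (j : ZMod 3) * β) - β, ?_, ?_⟩
      · rw [show q1 * k * F.el ![a, b, c, 1] * (q1 * k)⁻¹ = q1 * (k * F.el ![a, b, c, 1] * k⁻¹) * q1⁻¹ by group,
          hk, h1]
        congr 1
        funext i
        fin_cases i <;> simp <;> ring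
      · rw [← hp, show b + ((j + 1 : ℕ) : ZMod 3) * β = b + (j : ZMod 3) * β + β by push_cast; ring]
        exact (pot_step β γ l a' _ c hβ hγ).1
  have s0 : ∀ a b c : ZMod 3, ∀ j : ℕ, ∃ k a', k * F.el ![a, b, c, 1] * k⁻¹ = F.el ![a', b, c + (j : ZMod 3) * γ, 1] ∧
      pot β γ (l * γ + 1) a' b (c + (j : ZMod 3) * γ) = pot β γ (l * γ + 1) a b c := by
    intro a b c j
    induction j with
    | zero => exact ⟨1, a, by simp, by simp⟩
    | succ j ih =>
      obtain ⟨k, a', hk, hp⟩ := ih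
      refine ⟨q0 * k, a' + (c + (j : ZMod 3) * γ) + l, ?_, ?_⟩
      · rw [show q0 * k * F.el ![a, b, c, 1] * (q0 * k)⁻¹ = q0 * (k * F.el ![a, b, c, 1] * k⁻¹) * q0⁻¹ by group,
          hk, h0]
        congr 1
        funext i
        fin_cases i <;> simp <;> ring
      · rw [← hp, show c + ((j + 1 : ℕ) : ZMod 3) * γ = c + (j : ZMod 3) * γ + γ by push_cast; ring]
        exact (pot_step β γ l a' b _ hβ hγ).2
  intro a b c
  have kill : ∀ x y : ZMod 3, y ≠ 0 → x + ((-(x * y)).val : ZMod 3) * y = 0 := by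
    intro x y hy
    rw [ZMod.natCast_zmod_val]
    revert hy
    revert x y
    decide
  obtain ⟨k, a', hk, hp⟩ := s1 a b c (-(b * β)).val
  rw [kill b β hβ] at hk hp
  obtain ⟨k', a'', hk', hp'⟩ := s0 a' 0 c (-(c * γ)).val
  rw [kill c γ hγ] at hk' hp'
  have he : pot β γ (l * γ + 1) a b c = a'' := by
    rw [← hp, ← hp']; simp [pot]
  have hconj : k' * k * F.el ![a, b, c, 1] * (k' * k)⁻¹ = F.el ![a'', 0, 0, 1] := by
    rw [show k' * k * F.el ![a, b, c, 1] * (k' * k)⁻¹ = k' * (k * F.el ![a, b, c, 1] * k⁻¹) * k'⁻¹ by group,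
      hk, hk']
  rw [he]
  constructor
  · intro h
    exact F.unique_zero (hconj ▸ h.conj (k' * k))
  · intro h
    rw [h, F.el_f] at hconj
    rw [show F.el ![a, b, c, 1] = (k' * k)⁻¹ * F.f * (k' * k) by rw [← hconj]; group]
    simpa using F.f_Z.conj (k' * k)⁻¹

theorem exists_line : ∃ k : ZMod 3, ∀ m : ZMod 3, T.IsZ (F.el ![m * k, m, m, 1]) := by
  obtain ⟨k, g, hg, hp, hc, hfg⟩ := F.exists_Qc (v := ![0, 0, 0, 1]) (by simp) (by rw [F.el_f]; exact F.f_Z)
  rw [F.el_f] at hfg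
  obtain ⟨n', r', h'⟩ := exists_comps F.ht (T.basic hp).2.1
  obtain ⟨q, hq, e, he, hqb⟩ := second_line F.ht hp hc hfg (Pre.com_eq_one_iff.2 F.f_n.symm) F.f_Z F.f_notQ h'
  refine ⟨k, fun m => ?_⟩
  have hg' := (T.basic hp).2.1
  have hpair : T.IsPair (F.t * g⁻¹) := by
    have e' : F.t * g⁻¹ * T.z * (F.t * g⁻¹)⁻¹ = F.t * (g⁻¹ * T.z * g⁻¹⁻¹) * F.t⁻¹ := by group
    refine ⟨e' ▸ T.conj_Q F.ht.mem hg'.1, fun hz' => hg'.2 ?_⟩
    rw [e'] at hz'
    rw [show g⁻¹ * T.z * g⁻¹⁻¹ = F.t⁻¹ * (F.t * (g⁻¹ * T.z * g⁻¹⁻¹) * F.t⁻¹) * F.t⁻¹⁻¹ by group,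
      T.conj_Z (inv_mem F.ht.mem) hz']
    exact hz'
  have hW : T.bar ⟨_, hpair.1⟩ = (T.bar ⟨n', h'.hn⟩)⁻¹ * T.bar ⟨r', h'.hr⟩ := by
    rw [← Pre.bar_inv, ← Pre.bar_mul]
    refine congrArg T.bar (Subtype.ext ?_)
    show F.t * g⁻¹ * T.z * (F.t * g⁻¹)⁻¹ = n'⁻¹ * r'
    rw [show F.t * g⁻¹ * T.z * (F.t * g⁻¹)⁻¹ = F.t * (g⁻¹ * T.z * g⁻¹⁻¹) * F.t⁻¹ by group, h'.he,
      show F.t * (n' * r') * F.t⁻¹ = F.t * n' * F.t⁻¹ * (F.t * r' * F.t⁻¹) by group, h'.inv, h'.cent,
      mul_inv_cancel_right]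
  rw [← hW] at hqb
  let p : T.Q := q * ⟨T.z, T.hzQ⟩ ^ m.val
  have hpb : T.bar p = T.bar q := by
    show T.bar q * T.bar (⟨T.z, T.hzQ⟩ ^ m.val) = T.bar q
    rw [show T.bar ((⟨T.z, T.hzQ⟩ : T.Q) ^ m.val) = 1 from T.bar_eq_one.2 (by push_cast; exact pow_mem T.z_mem _),
      mul_one]
  have hZ : T.IsZ (p : G) := by
    rcases he with rfl | rfl
    · rw [zpow_one] at hqb
      exact isZ_of_bar hpair p.2 (hqb.symm.trans hpb.symm)
    · have h1 : T.bar p⁻¹ = T.bar ⟨_, hpair.1⟩ := by rw [Pre.bar_inv, hpb, hqb, zpow_neg, zpow_one, inv_inv]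
      simpa using (isZ_of_bar hpair (p⁻¹).2 h1.symm).inv
  have hel : F.el ![m * k, m, m, 1] = g * (p : G) * g⁻¹ := by
    rw [show (![m * k, m, m, 1] : Four) = ![0, 0, 0, 1] + m • ![k, 1, 1, 0] from by funext i; fin_cases i <;> simp,
      F.el_mul, F.el_smul, F.el_f, ← hg, conj_pow]
    simp only [p, Subgroup.coe_mul, Subgroup.coe_pow, hq]
    group
  rw [hel]
  exact hZ.conj g

/-- The frame with another last element. -/
def withF (v : Four) (hv : v 1 = 0) (hv3 : v 3 ≠ 0) (hZ : T.IsZ (F.el v)) : Frame T where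
  t := F.t
  g := F.g
  n := F.n
  r := F.r
  f := F.el v
  ht := F.ht
  hg := F.hg
  comps := F.comps
  f_C := F.el_C v
  f_notQ := fun h => hv3 (F.el_mem_Q_iff.1 h)
  f_cube := F.el_cube v
  f_n := by rw [← F.el_n]; exact F.el_comm _ _
  f_r := by rw [← F.el_r]; exact F.el_comm _ _
  f_t := by
    have h := F.conj_t v
    rw [hv, neg_zero, show (![v 0, 0, v 2, v 3] : Four) = v from by rw [← hv]; exact (four_eta v).symm] at h
    exact mul_inv_eq_iff_eq_mul.1 h
  f_Z := hZ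

theorem withF_el (v : Four) (hv : v 1 = 0) (hv3 : v 3 ≠ 0) (hZ : T.IsZ (F.el v)) (w : Four) :
    (F.withF v hv hv3 hZ).el w = F.el (![w 0, w 1, w 2, 0] + w 3 • v) := by
  rw [F.el_mul, F.el_smul]
  simp [el, withF]

include F in
theorem exists_classified : ∃ F' : Frame T, F'.Classified := by
  obtain ⟨β, γ, lam, hβ, hγ, hiff⟩ := F.isZ_pot
  obtain ⟨k, hline⟩ := F.exists_line
  have hγβ := line_forces k β γ lam hβ hγ fun m => (hiff _ _ _).1 (hline m)
  subst hγβ
  rcases pm_one β hβ with rfl | rfl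
  · have hv : T.IsZ (F.el ![-(lam * lam), 0, lam, 1]) := (hiff _ _ _).2 (by
      have := (vertex_plus lam 0 0 0).2 (by ring)
      simpa using this)
    obtain ⟨v, hvdef⟩ : ∃ v : Four, v = ![-(lam * lam), 0, lam, 1] := ⟨_, rfl⟩
    refine ⟨F.withF v (by rw [hvdef]; rfl) (by rw [hvdef]; simp) (hvdef ▸ hv), fun a b c => ?_⟩
    rw [withF_el, hvdef, ← vertex_plus lam a b c, ← hiff]
    refine Iff.of_eq (congrArg T.IsZ (congrArg F.el ?_))
    funext i
    fin_cases i <;> simp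
  · rw [show (- -1 : ZMod 3) = 1 by decide] at hiff
    have hv : T.IsZ (F.el ![-(lam * lam), 0, lam, -1]) := by
      rw [show (![-(lam * lam), 0, lam, -1] : Four) = -![lam * lam, 0, -lam, 1] from by
        funext i; fin_cases i <;> simp, F.el_neg]
      refine IsZ.inv ((hiff _ _ _).2 ?_)
      have := (vertex_minus lam 0 0 0).2 (by ring)
      simpa using this
    obtain ⟨v, hvdef⟩ : ∃ v : Four, v = ![-(lam * lam), 0, lam, -1] := ⟨_, rfl⟩
    refine ⟨F.withF v (by rw [hvdef]; rfl) (by rw [hvdef]; simp) (hvdef ▸ hv), fun a b c => ?_⟩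
    rw [withF_el, hvdef, show (![(![a, b, c, 1] : Four) 0, (![a, b, c, 1] : Four) 1, (![a, b, c, 1] : Four) 2, 0] : Four) +
        (![a, b, c, 1] : Four) 3 • ![-(lam * lam), 0, lam, -1] = -![-a + lam * lam, -b, -c + -lam, 1] from by
      funext i; fin_cases i <;> simp <;> ring, F.el_neg, ← vertex_minus lam a b c, ← hiff]
    exact ⟨fun h => inv_inv (F.el _) ▸ h.inv, fun h => h.inv⟩

theorem Classified.iff_qf {F : Frame T} (hF : F.Classified) (v : Four) :
    T.IsZ (F.el v) ↔ v ≠ 0 ∧ qf v = 0 := by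
  rcases zmod3_cases (v 3) with h | h | h
  · constructor
    · intro hZ
      have hv0 : v ≠ 0 := fun e => by
        rw [e, F.el_zero] at hZ
        obtain ⟨g, hg | hg⟩ := hZ.cases
        · exact T.z_ne (conj_eq_one_iff.1 hg)
        · exact T.z_ne (conj_eq_one_iff.1 (hg.trans inv_one))
      refine ⟨hv0, ?_⟩
      by_cases hZv : F.el v ∈ T.toPre.Z
      · obtain ⟨i, hi⟩ := Subgroup.mem_zpowers_iff.1 hZv
        have : F.el ![(i : ZMod 3), 0, 0, 0] = F.el v := by
          rw [← hi]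
          show T.z ^ (i : ZMod 3).val * F.n ^ (0 : ZMod 3).val * F.r ^ (0 : ZMod 3).val * F.f ^ (0 : ZMod 3).val = _
          simp only [ZMod.val_zero, pow_zero, mul_one]
          exact pow_val_intCast T.z_cube _
        rw [← F.el_inj this]
        simp [qf]
      · obtain ⟨k, hk⟩ := hZ.cases
        have hn : T.bar ⟨F.n, F.n_mem⟩ ∈ T.minus := (F.ht.minus_iff F.n_mem).2 F.comps.hn1
        have hr : T.bar ⟨F.r, F.r_mem⟩ ∈ T.plus := (F.ht.plus_iff F.r_mem).2 F.comps.cent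
        have hmain : ∀ w : Four, ∀ hw : w 3 = 0, k * T.z * k⁻¹ = F.el w → F.el w ∉ T.toPre.Z → w 1 ≠ 0 ∧ w 2 ≠ 0 := by
          intro w hw hk' hwZ
          have hp : T.IsPair k := ⟨hk' ▸ F.el_mem_Q hw, hk' ▸ hwZ⟩
          obtain ⟨n2, r2, h2⟩ := exists_comps F.ht hp
          obtain ⟨hn2, hr2, -⟩ := pair_comp F.ht hp h2.hn h2.hr h2.he h2.hn1 h2.cent
          have e1 : T.bar ⟨n2, h2.hn⟩ * T.bar ⟨r2, h2.hr⟩ = T.bar ⟨F.n, F.n_mem⟩ ^ (w 1).val * T.bar ⟨F.r, F.r_mem⟩ ^ (w 2).val := by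
            rw [← F.bar_el hw, ← Pre.bar_mul]
            exact congrArg T.bar (Subtype.ext (h2.he.symm.trans hk'))
          have hn2m : T.bar ⟨n2, h2.hn⟩ ∈ T.minus := (F.ht.minus_iff h2.hn).2 h2.hn1
          have hr2p : T.bar ⟨r2, h2.hr⟩ ∈ T.plus := (F.ht.plus_iff h2.hr).2 h2.cent
          have e2 : (T.bar ⟨F.n, F.n_mem⟩ ^ (w 1).val)⁻¹ * T.bar ⟨n2, h2.hn⟩ =
              T.bar ⟨F.r, F.r_mem⟩ ^ (w 2).val * (T.bar ⟨r2, h2.hr⟩)⁻¹ := by
            rw [inv_mul_eq_iff_eq_mul, ← mul_assoc, ← e1, mul_inv_cancel_right]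
          have h1 := T.plus_minus (e2 ▸ mul_mem (pow_mem hr _) (inv_mem hr2p))
            (mul_mem (inv_mem (pow_mem hn _)) hn2m)
          constructor
          · intro h0
            rw [h0, ZMod.val_zero, pow_zero, inv_one, one_mul] at h1
            exact hn2 (T.bar_eq_one.1 h1)
          · intro h0
            rw [h1, h0, ZMod.val_zero, pow_zero, one_mul] at e2
            exact hr2 (T.bar_eq_one.1 (inv_eq_one.1 e2.symm))
        have : v 1 ≠ 0 ∧ v 2 ≠ 0 := by
          rcases hk with hk | hk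
          · exact hmain v h hk hZv
          · rw [← F.el_neg] at hk
            have := hmain (-v) (by simp [h]) hk (by rw [F.el_neg]; exact fun e => hZv (inv_mem_iff.1 e))
            simpa using this
        simp only [qf, h, mul_zero, zero_add]
        exact (show ∀ b c : ZMod 3, b ≠ 0 → c ≠ 0 → b * b - c * c = 0 by decide) _ _ this.1 this.2
    · rintro ⟨hv0, hq⟩
      simp only [qf, h, mul_zero, zero_add] at hq
      by_cases hb : v 1 = 0
      · have hc : v 2 = 0 := (show ∀ b c : ZMod 3, b = 0 → b * b - c * c = 0 → c = 0 by decide) _ _ hb hq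
        have ha : v 0 ≠ 0 := fun e => hv0 (by rw [four_eta v, e, hb, hc, h]; funext i; fin_cases i <;> rfl)
        rw [four_eta v, hb, hc, h]
        rcases pm_one _ ha with e | e <;> rw [e]
        · rw [F.el_z]; exact isZ_z
        · rw [show (![-1, 0, 0, 0] : Four) = -![1, 0, 0, 0] from by funext i; fin_cases i <;> simp, F.el_neg, F.el_z]
          exact isZ_z.inv
      · have hc : v 2 = v 1 ∨ v 2 = -v 1 :=
          (show ∀ b c : ZMod 3, b ≠ 0 → b * b - c * c = 0 → c = b ∨ c = -b by decide) _ _ hb hq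
        have base : ∀ a : ZMod 3, T.IsZ (F.el ![a, 1, 1, 0]) := fun a => by
          obtain ⟨g, hg, -⟩ := F.exists_point a
          exact ⟨g, Or.inl hg⟩
        have base' : ∀ a : ZMod 3, T.IsZ (F.el ![a, -1, 1, 0]) := fun a => by
          have := (base a).conj F.t
          rw [F.conj_t] at this
          simpa using this
        have flip : ∀ w : Four, T.IsZ (F.el w) → T.IsZ (F.el (-w)) := fun w hw => by
          rw [F.el_neg]; exact hw.inv
        rw [four_eta v, h]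
        rcases pm_one _ hb with e | e <;> rcases hc with e' | e' <;> rw [e'] <;> rw [e]
        · exact base _
        · have := flip _ (base' (-(v 0))); simpa using this
        · have := flip _ (base (-(v 0))); simpa using this
        · rw [neg_neg]; exact base' _
  · rw [four_eta v, h, hF]
    constructor
    · intro e
      refine ⟨fun e' => one_ne_zero (congrFun e' 3 : (1 : ZMod 3) = 0), ?_⟩
      simp [qf, e]
    · rintro ⟨-, hq⟩
      simp [qf] at hq
      exact (show ∀ a b c : ZMod 3, a + b * b - c * c = 0 → a = c * c - b * b by decide) _ _ _ hq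
  · rw [four_eta v, h]
    have e : (![v 0, v 1, v 2, -1] : Four) = -![-(v 0), -(v 1), -(v 2), 1] := by funext i; fin_cases i <;> simp
    rw [e, F.el_neg]
    constructor
    · intro hZ
      have h' := (hF _ _ _).1 (inv_inv (F.el _) ▸ hZ.inv)
      refine ⟨fun e' => one_ne_zero (neg_eq_zero.1 (congrFun e' 3) : (1 : ZMod 3) = 0), ?_⟩
      simp [qf]
      exact (show ∀ a b c : ZMod 3, -a = -c * -c - -b * -b → -a + b * b - c * c = 0 by decide) _ _ _ h'
    · rintro ⟨-, hq⟩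
      simp [qf] at hq
      exact ((hF _ _ _).2 ((show ∀ a b c : ZMod 3, -a + b * b - c * c = 0 → -a = -c * -c - -b * -b by decide) _ _ _ hq)).inv

end Frame

end Loc

end Cfsg.Agent.Spor.OmegaEightThree
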