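import Cfsg.Agent.Lib.Spor.PSLFourThree.LocNatural

/-!
Modules for `SL₂(3)` on which the central involution inverts: every nontrivial one has an invariant
subgroup of order `9`.
-/

set_option autoImplicit false
set_option linter.unusedSectionVars false
set_option maxHeartbeats 800000

namespace Cfsg.Agent.Spor.OmegaEightThree

open Cfsg.Agent.Spor.PSLFourThree (x2 i2 x2_cube i2_sq gen_induction act_mul act_one act_inv)

local notation "SL2" => Matrix.SpecialLinearGroup (Fin 2) (ZMod 3)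

theorem neg_one_central : ∀ g : SL2, -1 * g = g * -1 := fun g => Subtype.ext (by simp)

theorem neg_one_mul_self : (-1 : SL2) * -1 = 1 := by decide +kernel

theorem sq_add_one_ne : ∀ a : ZMod 3, a * a + 1 ≠ 0 := by decide

variable {M : Type*} [CommGroup M] [Finite M] (f : SL2 →* MulAut M)

/-- The three rotations of the element of order four. -/
def jj : SL2 := x2 * i2 * x2⁻¹

/-- The third element of order four. -/
def kk : SL2 := x2 * (x2 * i2 * x2⁻¹) * x2⁻¹

theorem quat_rel : kk = x2 * jj * x2⁻¹ ∧ i2 = x2 * kk * x2⁻¹ ∧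
    ((i2 * jj = kk ∧ i2 * kk = -1 * jj) ∨ (i2 * jj = -1 * kk ∧ i2 * kk = jj)) := by decide +kernel

/-- A `3`-element fixing nothing but `1` in a `3`-group does not exist. -/
theorem exists_fixed {B : Subgroup M} (hB : B ≠ ⊥) (hinv : ∀ m ∈ B, f x2 m ∈ B)
    (hexp : ∀ m : M, m ^ 3 = 1) : ∃ m ∈ B, m ≠ 1 ∧ f x2 m = m := by
  obtain ⟨⟨m, hm⟩, hm1⟩ := B.ne_bot_iff_exists_ne_one.1 hB
  have hm1 : m ≠ 1 := fun h => hm1 (Subtype.ext h)
  have hd3 : ∀ m : M, f x2 (f x2 (f x2 m)) = m := fun m => by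
    rw [← act_mul f, ← act_mul f, ← pow_two, ← pow_succ, x2_cube, act_one f]
  by_cases h1 : f x2 m = m
  · exact ⟨m, hm, hm1, h1⟩
  set a := f x2 m * m⁻¹ with ha
  have haB : a ∈ B := mul_mem (hinv m hm) (inv_mem hm)
  have ha1 : a ≠ 1 := fun h => h1 (mul_inv_eq_one.1 h)
  by_cases h2 : f x2 a = a
  · exact ⟨a, haB, ha1, h2⟩
  refine ⟨f x2 a * a⁻¹, mul_mem (hinv a haB) (inv_mem haB), fun h => h2 (mul_inv_eq_one.1 h), ?_⟩
  rw [← mul_inv_eq_one]
  simp only [ha, map_mul, map_inv, hd3]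
  have e1 := hexp (f x2 m)
  have e2 := hexp (f x2 (f x2 m))
  calc _ = (f x2 m ^ 3) * (f x2 (f x2 m) ^ 3)⁻¹ := by
        simp only [pow_succ, pow_zero, one_mul, mul_inv_rev, inv_inv]
        apply Additive.ofMul.injective
        simp only [ofMul_mul, ofMul_inv]
        abel
    _ = 1 := by rw [e1, e2, inv_one, mul_one]

/-- An invariant subgroup of order `9` in every nontrivial module inverted by the central involution. -/
theorem exists_nine (hexp : ∀ m : M, m ^ 3 = 1) (hneg : ∀ m : M, f (-1) m = m⁻¹) (hne : Nontrivial M) :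
    ∃ W : Subgroup M, Nat.card W = 9 ∧ ∀ g, ∀ m ∈ W, f g m ∈ W := by
  haveI : Fact (Nat.Prime 3) := ⟨Nat.prime_three⟩
  obtain ⟨hk, hi, hq⟩ := quat_rel
  let F : Subgroup M :=
    { carrier := {m | f x2 m = m}
      one_mem' := map_one _
      mul_mem' := fun {a b} ha hb => by
        show f x2 (a * b) = a * b
        rw [map_mul, ha, hb]
      inv_mem' := fun {a} ha => by
        show f x2 a⁻¹ = a⁻¹
        rw [map_inv, ha] }
  obtain ⟨u, -, hu1, huF⟩ := exists_fixed f (B := ⊤) (by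
    rw [Ne, Subgroup.eq_bot_iff_forall]
    intro h
    obtain ⟨a, b, hab⟩ := hne
    exact hab ((h a trivial).trans (h b trivial).symm)) (fun _ _ => trivial) hexp
  -- `i u · j u · k u` is fixed; the nilpotent map has a fixed point in its kernel
  let nn : M → M := fun m => f i2 m * f jj m * f kk m
  have hnmul : ∀ a b, nn (a * b) = nn a * nn b := fun a b => by simp only [nn, map_mul]; ac_rfl
  have hnF : ∀ a, f x2 a = a → f x2 (nn a) = nn a := by
    intro a ha
    have hx : ∀ g, f x2 (f g a) = f (x2 * g * x2⁻¹) a := fun g => by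
      rw [act_mul f, act_mul f, act_inv f ha]
    simp only [nn, map_mul]
    simp only [hx]
    rw [← hk, ← hi, show x2 * i2 * x2⁻¹ = jj from rfl]
    ac_rfl
  have hnn : ∀ a, nn (nn a) = 1 := by
    intro a
    have hsq : ∀ g h : SL2, f g (f h a) = f (g * h) a := fun g h => (act_mul f g h a).symm
    simp only [nn, map_mul]
    simp only [hsq]
    have e : i2 * i2 = -1 ∧ jj * jj = -1 ∧ kk * kk = -1 ∧ jj * i2 = -1 * (i2 * jj) ∧
        kk * i2 = -1 * (i2 * kk) ∧ kk * jj = -1 * (jj * kk) := by decide +kernel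
    obtain ⟨e1, e2, e3, e4, e5, e6⟩ := e
    have hm : ∀ g, f (-1 * g) a = (f g a)⁻¹ := fun g => by rw [act_mul f, hneg]
    rw [e1, e2, e3, e4, e5, e6, hm, hm, hm, hneg]
    calc _ = (a ^ 3)⁻¹ := by
          simp only [pow_succ, pow_zero, one_mul]
          apply Additive.ofMul.injective
          simp only [ofMul_mul, ofMul_inv]
          abel
      _ = 1 := by rw [hexp, inv_one]
  obtain ⟨v, hv1, hvF, hvn⟩ : ∃ v : M, v ≠ 1 ∧ f x2 v = v ∧ nn v = 1 := by
    by_cases h : nn u = 1
    · exact ⟨u, hu1, huF, h⟩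
    · exact ⟨nn u, h, hnF u huF, hnn u⟩
  set g := f i2 v with hg
  have hjv : f jj v = f x2 g := by
    rw [show jj = x2 * i2 * x2⁻¹ from rfl, act_mul f, act_mul f, act_inv f hvF]
  have hiv : f i2 g = v⁻¹ := by rw [hg, ← act_mul f, i2_sq, hneg]
  -- the action of `i` on `j v`
  have hmain : f jj v = g * v ∨ f jj v = g * v⁻¹ := by
    have h1 : g * f jj v * f kk v = 1 := hvn
    have h2 : f i2 (g * f jj v * f kk v) = 1 := by rw [h1, map_one]
    rw [map_mul, map_mul, hiv, ← act_mul f, ← act_mul f] at h2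
    have hm : ∀ w, f (-1 * w) v = (f w v)⁻¹ := fun w => by rw [act_mul f, hneg]
    have hJ := hexp (f jj v)
    rcases hq with ⟨a, b⟩ | ⟨a, b⟩
    · rw [a, b, hm] at h2
      have e : f jj v * (g * f jj v * f kk v) = g * v * (v⁻¹ * f kk v * (f jj v)⁻¹) * f jj v ^ 3 := by
        apply Additive.ofMul.injective
        simp only [ofMul_mul, ofMul_inv, ofMul_pow]
        abel
      rw [h1, h2, hJ, mul_one, mul_one, mul_one] at e
      exact Or.inl e
    · rw [a, b, hm] at h2
      have e : f jj v = g * v⁻¹ * f jj v ^ 3 *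
          ((g * f jj v * f kk v) * (v⁻¹ * (f kk v)⁻¹ * f jj v))⁻¹ := by
        apply Additive.ofMul.injective
        simp only [ofMul_mul, ofMul_inv, ofMul_pow]
        abel
      rw [h1, h2, hJ, mul_one, mul_one, inv_one, mul_one] at e
      exact Or.inr e
  let W : Subgroup M := Subgroup.zpowers v ⊔ Subgroup.zpowers g
  have hv : v ∈ W := Subgroup.mem_sup_left (Subgroup.mem_zpowers v)
  have hgm : g ∈ W := Subgroup.mem_sup_right (Subgroup.mem_zpowers g)
  have hstep : ∀ γ : SL2, f γ v ∈ W → f γ g ∈ W → ∀ m ∈ W, f γ m ∈ W := by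
    intro γ h1 h2 m hm
    have hle : W ≤ W.comap (f γ).toMonoidHom :=
      sup_le (Subgroup.zpowers_le.2 h1) (Subgroup.zpowers_le.2 h2)
    exact hle hm
  refine ⟨W, ?_, fun γ => ?_⟩
  · refine Cfsg.Agent.Spor.PSLFourThree.pair_card hexp hv1 fun h => ?_
    obtain ⟨k, hk'⟩ := Subgroup.mem_zpowers_iff.1 h
    have e : v ^ (k * k) = v⁻¹ := by rw [zpow_mul, hk', hg, ← map_zpow, hk', hiv]
    have hord : orderOf v = 3 := orderOf_eq_prime (hexp v) hv1
    have e2 : (3 : ℤ) ∣ k * k + 1 := by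
      rw [show ((3 : ℤ)) = ((3 : ℕ) : ℤ) from rfl, ← hord, orderOf_dvd_iff_zpow_eq_one, zpow_add, zpow_one,
        e, inv_mul_cancel]
    have hz : (((k * k + 1 : ℤ)) : ZMod 3) = 0 := (ZMod.intCast_zmod_eq_zero_iff_dvd _ 3).2 e2
    push_cast at hz
    exact sq_add_one_ne _ hz
  · refine gen_induction (p := fun γ => ∀ m ∈ W, f γ m ∈ W) (hstep x2 (by rw [hvF]; exact hv) ?_)
      (hstep i2 hgm (by rw [hiv]; exact inv_mem hv)) (fun m hm => by rw [act_one f]; exact hm)
      (fun a b ha hb m hm => by rw [act_mul f]; exact ha _ (hb m hm)) (fun a ha m hm => ?_) γ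
    · rw [← hjv]
      rcases hmain with e | e <;> rw [e]
      · exact mul_mem hgm hv
      · exact mul_mem hgm (inv_mem hv)
    · let φ : W → W := fun w => ⟨f a w, ha w w.2⟩
      have hφ : Function.Surjective φ := Finite.injective_iff_surjective.1 fun p q h =>
        Subtype.ext ((f a).injective (congrArg Subtype.val h))
      obtain ⟨w, hw⟩ := hφ ⟨m, hm⟩
      have e : f a⁻¹ m = w := by
        rw [← show f a w = m from congrArg Subtype.val hw, ← act_mul f, inv_mul_cancel, act_one f]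
      rw [e]
      exact w.2

end Cfsg.Agent.Spor.OmegaEightThree
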