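import Cfsg.Agent.Lib.Spor.OmegaEightThree.Pair
import Cfsg.Agent.Lib.Spor.OmegaEightThree.Module

/-!
`Q = R₁ * R₀` with respect to a lifted central involution `t`; a conjugate of `z` in `Q` has a
nontrivial component in both, and the one in `R₀` spans the fixed line.
-/

set_option autoImplicit false
set_option linter.unusedSectionVars false
set_option maxHeartbeats 800000

namespace Cfsg.Agent.Spor.OmegaEightThree

open Cfsg.Agent.Spor.PSLFourThree (com fixes_of_stab)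

local notation "SL2" => Matrix.SpecialLinearGroup (Fin 2) (ZMod 3)

theorem three_quotient : ∀ γ x : SL2, x ^ 3 = 1 → x ≠ 1 →
    γ ^ 8 = 1 ∨ (γ * x) ^ 8 = 1 ∨ (γ * x⁻¹) ^ 8 = 1 := by decide +kernel

theorem sq_one_cases : ∀ γ : SL2, γ * γ = 1 → γ = 1 ∨ γ = -1 := by decide +kernel

namespace Pre

variable {G : Type*} [Group G] [Finite G] (T : Pre G)

/-- An involution of `C` lifting the central involution. -/
structure IsT (t : G) : Prop where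
  mem : t ∈ T.C
  sq : t * t = 1
  rho : T.ρ ⟨t, mem⟩ = -1
  eta : T.η ⟨t, mem⟩ = 1

theorem exists_t : ∃ t, T.IsT t := by
  obtain ⟨c, hc, hc'⟩ := T.ρsurj (-1)
  have h2 : ((c : G) ^ 2) ∈ T.Q := (T.ρker (c ^ 2)).1
    ⟨by rw [map_pow, hc]; decide +kernel, by rw [map_pow, hc', one_pow]⟩
  have e : (⟨(c : G) ^ 3, pow_mem c.2 3⟩ : T.C) = c ^ 3 := rfl
  refine ⟨(c : G) ^ 3, pow_mem c.2 3, ?_, ?_, ?_⟩
  · rw [← pow_add, show 3 + 3 = 2 * 3 from rfl, pow_mul]; exact T.exp _ h2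
  · rw [e, map_pow, hc]; decide +kernel
  · rw [e, map_pow, hc', one_pow]

variable {T} {t : G} (ht : T.IsT t)

include ht

theorem IsT.inv_eq : t⁻¹ = t := inv_eq_of_mul_eq_one_right ht.sq

theorem IsT.bar_conj {a : G} (ha : a ∈ T.Q) :
    T.act (-1) (T.bar ⟨a, ha⟩) = T.bar ⟨t * a * t⁻¹, T.conj_Q ht.mem ha⟩ := by
  rw [← ht.rho, T.act_bar ht.eta]

theorem IsT.plus_iff {a : G} (ha : a ∈ T.Q) : T.bar ⟨a, ha⟩ ∈ T.plus ↔ t * a = a * t := by
  rw [T.mem_plus, ht.bar_conj ha]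
  constructor
  · intro h
    have h' := T.bar_eq.1 h.symm
    push_cast at h'
    have e : t * a * t⁻¹ = (t * a * t⁻¹ * a⁻¹) * a := by group
    have hc : t * a * t⁻¹ * a⁻¹ = a⁻¹ * (t * a * t⁻¹) := by
      conv_rhs => rw [← T.conj_Z (T.Q_le_C ha) h']
      group
    have hmem : t * a * t⁻¹ * a⁻¹ ∈ T.Z := hc ▸ h'
    have h1 := fixes_of_stab (n := 1) (by rw [pow_one, pow_two, ht.sq]) e (T.conj_Z ht.mem hmem)
      (T.exp _ (T.Z_le hmem))
    rw [h1, one_mul, mul_inv_eq_iff_eq_mul] at e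
    exact e
  · intro h
    refine congrArg T.bar (Subtype.ext ?_)
    show t * a * t⁻¹ = a
    rw [h, mul_inv_cancel_right]

theorem IsT.minus_iff {a : G} (ha : a ∈ T.Q) : T.bar ⟨a, ha⟩ ∈ T.minus ↔ t * a * t⁻¹ * a ∈ T.Z := by
  rw [T.mem_minus, ht.bar_conj ha, ← mul_eq_one_iff_eq_inv, ← T.bar_mul, T.bar_eq_one]
  rfl

/-- `Q = R₁ R₀`. -/
theorem IsT.decomp {a : G} (ha : a ∈ T.Q) : ∃ a1 a0 : G, a1 ∈ T.Q ∧ a0 ∈ T.Q ∧ a = a1 * a0 ∧
    t * a0 = a0 * t ∧ t * a1 * t⁻¹ * a1 ∈ T.Z := by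
  obtain ⟨⟨⟨p, hp⟩, ⟨m, hm⟩⟩, hpm⟩ := T.splitEquiv.surjective (T.bar ⟨a, ha⟩)
  obtain ⟨⟨b, hb⟩, rfl⟩ := T.bar_surj p
  obtain ⟨⟨c, hc⟩, rfl⟩ := T.bar_surj m
  have h1 : T.bar ⟨c * b, mul_mem hc hb⟩ = T.bar ⟨a, ha⟩ := by
    rw [← hpm]
    show T.bar ⟨c, hc⟩ * T.bar ⟨b, hb⟩ = T.bar ⟨b, hb⟩ * T.bar ⟨c, hc⟩
    exact mul_comm _ _
  have hz : (c * b)⁻¹ * a ∈ T.Z := T.bar_eq.1 h1
  refine ⟨c, b * ((c * b)⁻¹ * a), hc, mul_mem hb (T.Z_le hz), by group, ?_, (ht.minus_iff hc).1 hm⟩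
  rw [← mul_assoc, (ht.plus_iff hb).1 hp, mul_assoc, T.Z_central ht.mem hz, ← mul_assoc, mul_assoc]

/-- The two parts commute. -/
theorem IsT.com_parts {a b : G} (ha : a ∈ T.Q) (hb : b ∈ T.Q) (h1 : t * a * t⁻¹ * a ∈ T.Z)
    (h0 : t * b = b * t) : com a b = 1 := by
  have e : com (t * a * t⁻¹) (t * b * t⁻¹) = com a b := by
    rw [← com_conj]
    exact T.conj_Z ht.mem (T.com_mem' ha hb)
  rw [show t * b * t⁻¹ = b by rw [h0, mul_inv_cancel_right]] at e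
  have e2 : com (t * a * t⁻¹) b * com a b = 1 := by
    rw [← T.com_mul_left (T.conj_Q ht.mem ha) ha hb, com_inv, inv_eq_one, T.com_Z_right hb h1]
  rw [e] at e2
  have h3 := T.cube_iff (T.Z_le (T.com_mem' ha hb))
  rwa [e2, one_mul] at h3

/-- Lifts commuting with `t`. -/
theorem IsT.exists_lift (γ : SL2) : ∃ c : T.C, T.ρ c = γ ∧ T.η c = 1 ∧ (c : G) * t = t * c := by
  obtain ⟨c, hc, hc'⟩ := T.ρsurj γ
  let tC : T.C := ⟨t, ht.mem⟩
  set a : T.C := tC⁻¹ * (c * tC * c⁻¹) with ha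
  have haQ : (a : G) ∈ T.Q := by
    refine (T.ρker a).1 ⟨?_, ?_⟩
    · have e : γ * -1 * γ⁻¹ = -1 := by rw [← neg_one_central, mul_inv_cancel_right]
      rw [ha, map_mul, map_mul, map_mul, map_inv, map_inv, hc, ht.rho, e, inv_mul_cancel]
    · rw [ha, map_mul, map_mul, map_mul, map_inv, map_inv, hc', ht.eta]; simp
  have hct : (c : G) * t * (c : G)⁻¹ = t * a := by simp [ha, tC, mul_assoc]
  have hsq : t * a * (t * (a : G)) = 1 := by
    rw [← hct, show (c : G) * t * (c : G)⁻¹ * (c * t * (c : G)⁻¹) = c * (t * t) * (c : G)⁻¹ by group,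
      ht.sq]
    group
  have h3 := T.cube_iff haQ
  have hta : t * (a : G) * t = (a : G)⁻¹ := eq_inv_of_mul_eq_one_left (by rw [← hsq]; group)
  have hconj : (c : G) * t * (c : G)⁻¹ = a * t * (a : G)⁻¹ := by
    rw [hct, show (a : G) * t * (a : G)⁻¹ = t * (t * a * t) * (a : G)⁻¹ by
      rw [show t * (t * (a : G) * t) = t * t * a * t by group, ht.sq, one_mul], hta, mul_assoc,
      ← mul_inv_rev]
    congr 1
    exact eq_inv_of_mul_eq_one_left (by rw [← mul_assoc]; exact h3)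
  refine ⟨⟨(a : G), a.2⟩⁻¹ * c, ?_, ?_, ?_⟩
  · rw [map_mul, map_inv, show (⟨(a : G), a.2⟩ : T.C) = a from rfl, ((T.ρker a).2 haQ).1, inv_one, one_mul, hc]
  · rw [map_mul, map_inv, show (⟨(a : G), a.2⟩ : T.C) = a from rfl, ((T.ρker a).2 haQ).2, inv_one, one_mul, hc']
  · push_cast
    calc (a : G)⁻¹ * c * t = (a : G)⁻¹ * ((c : G) * t * (c : G)⁻¹) * c := by group
      _ = t * ((a : G)⁻¹ * c) := by rw [hconj]; group

end Pre

namespace Loc

variable {G : Type*} [Group G] [Finite G] (T : Loc G)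

theorem exists_noncomm {B : Subgroup T.V} (hB : Nat.card B = 9) (B' : Subgroup T.V)
    (htop : ∀ v, ∃ b ∈ B, ∃ b' ∈ B', b * b' = v)
    (hperp : ∀ a b : T.Q, T.bar a ∈ B → T.bar b ∈ B' → com (a : G) b = 1) :
    ∃ a b : T.Q, T.bar a ∈ B ∧ T.bar b ∈ B ∧ com (a : G) b ≠ 1 := by
  by_contra h
  push Not at h
  obtain ⟨⟨v, hv⟩, hv1⟩ : ∃ v : B, v ≠ 1 := by
    haveI : Nontrivial B := Finite.one_lt_card_iff_nontrivial.1 (by omega)
    exact exists_ne 1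
  obtain ⟨a, rfl⟩ := T.bar_surj v
  refine hv1 (Subtype.ext (T.bar_eq_one.2 (T.center a a.2 fun q hq => Pre.com_eq_one_iff.1 ?_)))
  obtain ⟨b, hb, b', hb', he⟩ := htop (T.bar ⟨q, hq⟩)
  obtain ⟨b, rfl⟩ := T.bar_surj b
  obtain ⟨b', rfl⟩ := T.bar_surj b'
  rw [← Pre.bar_mul] at he
  have hz := T.bar_eq.1 he
  have e : q = (b : G) * b' * (((b * b' : T.Q) : G)⁻¹ * q) := by push_cast; group
  rw [e, T.com_mul_right a.2 (mul_mem b.2 b'.2) (T.Z_le hz), T.com_mul_right a.2 b.2 b'.2,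
    h a b hv hb, hperp a b' hv hb', T.com_Z_right a.2 hz, one_mul, one_mul]

variable {T} {t : G} (ht : T.toPre.IsT t)

include ht

theorem minus_noncomm : ∃ a b : T.Q, T.bar a ∈ T.minus ∧ T.bar b ∈ T.minus ∧ com (a : G) b ≠ 1 :=
  T.exists_noncomm T.card_minus T.plus
    (fun v => by
      obtain ⟨⟨⟨p, hp⟩, ⟨m, hm⟩⟩, rfl⟩ := T.splitEquiv.surjective v
      exact ⟨m, hm, p, hp, mul_comm m p⟩)
    (fun a b ha hb => ht.com_parts a.2 b.2 ((ht.minus_iff a.2).1 ha) ((ht.plus_iff b.2).1 hb))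

theorem plus_noncomm : ∃ a b : T.Q, T.bar a ∈ T.plus ∧ T.bar b ∈ T.plus ∧ com (a : G) b ≠ 1 :=
  T.exists_noncomm T.card_plus T.minus
    (fun v => by
      obtain ⟨⟨⟨p, hp⟩, ⟨m, hm⟩⟩, rfl⟩ := T.splitEquiv.surjective v
      exact ⟨p, hp, m, hm, rfl⟩)
    (fun a b ha hb => by
      rw [Pre.com_inv, ht.com_parts b.2 a.2 ((ht.minus_iff b.2).1 hb) ((ht.plus_iff a.2).1 ha), inv_one])

/-- A conjugate of `z` outside `Z` does not commute with `t`. -/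
theorem pair_not_plus {g : G} (hg : T.IsPair g) : t * (g * T.z * g⁻¹) ≠ g * T.z * g⁻¹ * t := by
  intro hty
  set y := g * T.z * g⁻¹ with hy
  have hu : g⁻¹ * t * g ∈ T.C := T.mem_C.2 (by
    calc g⁻¹ * t * g * T.z = g⁻¹ * (t * y) * g := by rw [hy]; group
      _ = g⁻¹ * (y * t) * g := by rw [hty]
      _ = T.z * (g⁻¹ * t * g) := by rw [hy]; group)
  -- the inverted elements lie in `Q^g`
  have key : ∀ a : T.Q, T.bar a ∈ T.minus → ∃ w ∈ T.Z, (a : G) * w ∈ T.Qc g := by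
    intro a ha
    have hk := (ht.minus_iff a.2).1 ha
    set k := t * (a : G) * t⁻¹ * a with hkdef
    refine ⟨k, hk, ?_⟩
    set b := (a : G) * k with hb
    have hbQ : b ∈ T.Q := mul_mem a.2 (T.Z_le hk)
    have hbt : t * b * t⁻¹ = b⁻¹ := by
      have e1 : t * b * t⁻¹ = t * a * t⁻¹ * (t * k * t⁻¹) := by rw [hb]; group
      rw [e1, T.conj_Z ht.mem hk, hb, mul_inv_rev]
      have e2 : t * (a : G) * t⁻¹ = k * (a : G)⁻¹ := by rw [hkdef]; group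
      have hc := T.Z_central (T.Q_le_C (inv_mem a.2)) hk
      rw [e2, ← hc, mul_assoc, T.Z_central (T.Q_le_C (inv_mem a.2)) (mul_mem hk hk)]
      have h3 := T.cube_iff (T.Z_le hk)
      rw [show k * k = k⁻¹ from eq_inv_of_mul_eq_one_left h3]
    have hby : b * y = y * b := Pre.com_eq_one_iff.1
      (ht.com_parts hbQ hg.1 (by rw [hbt, inv_mul_cancel]; exact one_mem _) hty)
    have hbC : g⁻¹ * b * g ∈ T.C := T.mem_C.2 (by
      calc g⁻¹ * b * g * T.z = g⁻¹ * (b * y) * g := by rw [hy]; group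
        _ = g⁻¹ * (y * b) * g := by rw [hby]
        _ = T.z * (g⁻¹ * b * g) := by rw [hy]; group)
    let u : T.C := ⟨g⁻¹ * t * g, hu⟩
    let β : T.C := ⟨g⁻¹ * b * g, hbC⟩
    have hrel : u * β * u⁻¹ = β⁻¹ := Subtype.ext (by
      show g⁻¹ * t * g * (g⁻¹ * b * g) * (g⁻¹ * t * g)⁻¹ = (g⁻¹ * b * g)⁻¹
      rw [show g⁻¹ * t * g * (g⁻¹ * b * g) * (g⁻¹ * t * g)⁻¹ = g⁻¹ * (t * b * t⁻¹) * g by group, hbt]
      group)
    have hu2 : T.ρ u * T.ρ u = 1 := by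
      rw [← map_mul, show u * u = 1 from Subtype.ext (by
        show g⁻¹ * t * g * (g⁻¹ * t * g) = 1
        rw [show g⁻¹ * t * g * (g⁻¹ * t * g) = g⁻¹ * (t * t) * g by group, ht.sq]; group), map_one]
    have hβ3 : β ^ 3 = 1 := Subtype.ext (by
      rw [Subgroup.coe_pow]
      show (g⁻¹ * b * g) ^ 3 = 1
      calc (g⁻¹ * b * g) ^ 3 = g⁻¹ * b ^ 3 * g := by simp [pow_succ, mul_assoc]
        _ = 1 := by rw [T.exp b hbQ]; group)
    have h1 : T.ρ β = (T.ρ β)⁻¹ := by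
      rw [← map_inv, ← hrel, map_mul, map_mul, map_inv]
      rcases sq_one_cases _ hu2 with h | h <;> rw [h]
      · simp
      · rw [neg_one_central, mul_inv_cancel_right]
    have h3 : T.ρ β ^ 3 = 1 := by rw [← map_pow, hβ3, map_one]
    have hρ : T.ρ β = 1 := by
      rw [pow_succ, pow_two, eq_inv_iff_mul_eq_one.1 h1, one_mul] at h3
      exact h3
    exact T.mem_Qc.2 ((T.ρker β).1 ⟨hρ, T.η_cube (n := 1) (by rw [pow_one]; exact hβ3)⟩)
  obtain ⟨a, b, ha, hb, hne⟩ := minus_noncomm ht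
  obtain ⟨w, hw, haw⟩ := key a ha
  obtain ⟨v, hv, hbv⟩ := key b hb
  have h := T.com_Qc haw hbv
  have hZ : ∀ x ∈ T.Z, ∀ q ∈ T.Q, com x q = 1 := fun x hx q hq => by
    rw [Pre.com_inv, T.com_Z_right hq hx, inv_one]
  rw [T.com_mul_left a.2 (T.Z_le hw) (mul_mem b.2 (T.Z_le hv)), hZ w hw _ (mul_mem b.2 (T.Z_le hv)), mul_one,
    T.com_mul_right a.2 b.2 (T.Z_le hv), T.com_Z_right a.2 hv, mul_one] at h
  exact hne (T.y_notMem_pow hg (T.com_mem' a.2 b.2) h)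

end Loc

end Cfsg.Agent.Spor.OmegaEightThree
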