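import Cfsg.Agent.Lib.Spor.OmegaEightThree.Quot

/-!
`C_G(r)/⟨r⟩` has no normal subgroup of index three.
-/

set_option autoImplicit false
set_option linter.unusedSectionVars false
set_option linter.style.haveILetI false
set_option maxHeartbeats 1000000
set_option maxRecDepth 100000

namespace Cfsg.Agent.Spor.OmegaEightThree

open Cfsg.Agent.Spor.PSLFourThree (com)

local notation "SL2" => Matrix.SpecialLinearGroup (Fin 2) (ZMod 3)

theorem Loc.mU_moves_n : Frame.mU (![0, 1, 0, 0] : Four) = ![1, 1, 0, 0] := by decide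

namespace Loc.Frame

variable {G : Type*} [Group G] [Finite G] {T : Loc G} {F : Frame T}

theorem Classified.exists_K_fix (hF : F.Classified) :
    ∃ k : G, k ∈ F.Cr ∧ ∃ s : ZMod 3, s ≠ 0 ∧ k * F.f * k⁻¹ = F.el ![s, 0, 0, 0] := by
  obtain ⟨k, s, σ, τ, hs, hσ, hτ, hk⟩ := hF.exists_K
  obtain ⟨u, hu, -, -⟩ := hF.exists_neg
  have hr := hk ![0, 0, 1, 0]
  have hf := hk ![0, 0, 0, 1]
  rw [F.el_r, show mK s σ τ ![0, 0, 1, 0] = ![0, 0, τ, 0] by simp [mK]] at hr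
  rw [F.el_f, show mK s σ τ ![0, 0, 0, 1] = ![s, 0, 0, 0] by simp [mK]] at hf
  rcases zmod3_cases τ with e | e | e
  · exact absurd e hτ
  · exact ⟨k, F.mem_Cr.2 (mul_inv_eq_iff_eq_mul.1 (by rw [hr, e, F.el_r])), s, hs, hf⟩
  · refine ⟨u * k, F.mem_Cr.2 (mul_inv_eq_iff_eq_mul.1 ?_), -s, neg_ne_zero.2 hs, ?_⟩
    · rw [show u * k * F.r * (u * k)⁻¹ = u * (k * F.r * k⁻¹) * u⁻¹ by group, hr, hu, e, ← F.el_r]
      congr 1
      funext i
      fin_cases i <;> simp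
    · rw [show u * k * F.f * (u * k)⁻¹ = u * (k * F.f * k⁻¹) * u⁻¹ by group, hf, hu]
      congr 1
      funext i
      fin_cases i <;> simp

variable (hF : F.Classified)
include hF

/-- `C_G(r)/⟨r⟩` has no normal subgroup of index three. -/
theorem Classified.no_index_three : ¬ ∃ N : Subgroup F.Lr, N.Normal ∧ N.index = 3 := by
  rintro ⟨N, hN, hidx⟩
  haveI : Fact (Nat.Prime 3) := ⟨Nat.prime_three⟩
  set N' : Subgroup F.Cr := N.comap F.qr with hN'
  haveI : N'.Normal := Subgroup.Normal.comap hN _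
  have hidx' : N'.index = 3 := by rw [hN', Subgroup.index_comap_of_surjective _ F.qr_surj, hidx]
  haveI : IsCyclic (F.Cr ⧸ N') := isCyclic_of_prime_card (p := 3) (by rw [← Subgroup.index_eq_card, hidx'])
  letI : CommGroup (F.Cr ⧸ N') := IsCyclic.commGroup
  let ψ := QuotientGroup.mk' N'
  have hψ : ∀ {x}, ψ x = 1 → x ∈ N' := fun {x} h => (QuotientGroup.eq_one_iff x).1 h
  have hc : ∀ x : F.Cr ⧸ N', x ^ 3 = 1 := fun x => by
    have := pow_card_eq_one' (x := x)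
    rwa [← Subgroup.index_eq_card, hidx'] at this
  have htwo : ∀ x : F.Cr ⧸ N', x * x = 1 → x = 1 := fun x h => by
    have h3 := hc x
    rwa [pow_succ, pow_two, h, one_mul] at h3
  have hconj : ∀ (g x : F.Cr), ψ (g * x * g⁻¹) = ψ x := fun g x => by
    rw [map_mul, map_mul, map_inv, mul_comm (ψ g), mul_inv_cancel_right]
  obtain ⟨q₁, hq₁, hU⟩ := hF.exists_U
  have hqr : q₁ ∈ F.Cr := F.mem_Cr.2 (mul_inv_eq_iff_eq_mul.1 (by
    have hr := hU ![0, 0, 1, 0]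
    rwa [mU_fix_r, F.el_r] at hr))
  have htr : F.t ∈ F.Cr := F.mem_Cr.2 F.comps.cent
  set χ : Four → F.Cr ⧸ N' := fun v => ψ ⟨F.el v, F.el_Cr v⟩ with hχ
  have hadd : ∀ v w, χ (v + w) = χ v * χ w := fun v w => by
    simp only [hχ, ← map_mul]
    exact congrArg ψ (Subtype.ext (F.el_mul v w))
  have hz : χ ![1, 0, 0, 0] = 1 := by
    have e := hadd ![1, 0, 0, 0] ![0, 1, 0, 0]
    rw [show (![1, 0, 0, 0] : Four) + ![0, 1, 0, 0] = ![1, 1, 0, 0] by simp] at e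
    have e2 : χ ![1, 1, 0, 0] = χ ![0, 1, 0, 0] := by
      simp only [hχ]
      rw [← hconj ⟨q₁, hqr⟩ ⟨F.el ![0, 1, 0, 0], F.el_Cr _⟩]
      refine congrArg ψ (Subtype.ext ?_)
      push_cast
      rw [hU, mU_moves_n]
    rw [e2] at e
    exact right_eq_mul.1 e
  have hn : χ ![0, 1, 0, 0] = 1 := by
    have e : χ ![0, -1, 0, 0] = χ ![0, 1, 0, 0] := by
      simp only [hχ]
      rw [← hconj ⟨F.t, htr⟩ ⟨F.el ![0, 1, 0, 0], F.el_Cr _⟩]
      refine congrArg ψ (Subtype.ext ?_)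
      push_cast
      rw [F.el_n, F.t_n]
    have e' := hadd ![0, -1, 0, 0] ![0, 1, 0, 0]
    rw [e, show (![0, -1, 0, 0] : Four) + ![0, 1, 0, 0] = 0 by simp] at e'
    refine htwo _ (e'.symm.trans ?_)
    simp only [hχ]
    rw [show (⟨F.el 0, F.el_Cr 0⟩ : F.Cr) = 1 from Subtype.ext F.el_zero, map_one]
  have hr : χ ![0, 0, 1, 0] = 1 := by
    refine (QuotientGroup.eq_one_iff _).2 ?_
    show F.qr _ ∈ N
    rw [F.el_qr_one.2 ⟨rfl, rfl, rfl⟩]
    exact one_mem _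
  have hf : χ ![0, 0, 0, 1] = 1 := by
    obtain ⟨k, hk, s, -, hkf⟩ := hF.exists_K_fix
    have e : χ ![s, 0, 0, 0] = χ ![0, 0, 0, 1] := by
      simp only [hχ]
      rw [← hconj ⟨k, hk⟩ ⟨F.el ![0, 0, 0, 1], F.el_Cr _⟩]
      refine congrArg ψ (Subtype.ext ?_)
      push_cast
      rw [F.el_f, hkf]
    rw [← e]
    rcases zmod3_cases s with h | h | h <;> subst h
    · rw [show (![0, 0, 0, 0] : Four) = 0 by simp]
      simp only [hχ]
      rw [show (⟨F.el 0, F.el_Cr 0⟩ : F.Cr) = 1 from Subtype.ext F.el_zero, map_one]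
    · exact hz
    · have e' := hadd ![-1, 0, 0, 0] ![1, 0, 0, 0]
      rw [hz, mul_one, show (![-1, 0, 0, 0] : Four) + ![1, 0, 0, 0] = 0 by simp] at e'
      rw [← e']
      simp only [hχ]
      rw [show (⟨F.el 0, F.el_Cr 0⟩ : F.Cr) = 1 from Subtype.ext F.el_zero, map_one]
  have hE : ∀ v, χ v = 1 := by
    intro v
    have hnat : ∀ (u : Four), χ u = 1 → ∀ a : ZMod 3, χ (a • u) = 1 := by
      intro u hu a
      simp only [hχ] at hu ⊢
      rw [show (⟨F.el (a • u), F.el_Cr _⟩ : F.Cr) = ⟨F.el u, F.el_Cr u⟩ ^ a.val from Subtype.ext (F.el_smul a u),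
        map_pow, hu, one_pow]
    rw [four_split v, hadd, hadd, hadd, hnat _ hz, hnat _ hn, hnat _ hr, hnat _ hf]
    simp
  have hq : ψ ⟨q₁, hqr⟩ = 1 := by
    have hA := hU.mul ((F.act_t.mul hU).mul F.act_t)
    have hx : q₁ * (F.t * q₁ * F.t) ∈ F.E := hF.cent_E fun v => mul_inv_eq_iff_eq_mul.1 (by
      rw [hA]
      simp only [Function.comp_apply]
      congr 1
      rw [conjU_t]
      exact (four_eta v).symm)
    obtain ⟨y, hy⟩ := F.mem_E_iff.1 hx
    have e : χ y = ψ ⟨q₁, hqr⟩ * (ψ ⟨F.t, htr⟩ * ψ ⟨q₁, hqr⟩ * ψ ⟨F.t, htr⟩) := by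
      simp only [hχ, ← map_mul]
      exact congrArg ψ (Subtype.ext hy)
    have ht2 : ψ ⟨F.t, htr⟩ = 1 := htwo _ (by
      rw [← map_mul, show (⟨F.t, htr⟩ : F.Cr) * ⟨F.t, htr⟩ = 1 from Subtype.ext F.ht.sq, map_one])
    rw [hE, ht2, one_mul, mul_one] at e
    exact htwo _ e.symm
  have hqE : q₁ ∉ F.E := fun h => by
    obtain ⟨v, rfl⟩ := F.mem_E_iff.1 h
    have h1 := hU ![0, 1, 0, 0]
    rw [mU_moves_n, F.el_comm, mul_inv_cancel_right] at h1
    have := congrFun (F.el_inj h1) 0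
    simp at this
  obtain ⟨-, hP⟩ := card_ext hU.mem (T.exp _ hq₁) hqE
  have hPN : F.ext q₁ ≤ N'.map F.Cr.subtype := by
    refine sup_le (fun x hx => ?_) (Subgroup.zpowers_le.2 ⟨⟨q₁, hqr⟩, hψ hq, rfl⟩)
    obtain ⟨v, rfl⟩ := F.mem_E_iff.1 hx
    exact ⟨⟨F.el v, F.el_Cr v⟩, hψ (hE v), rfl⟩
  have hd : 3 ^ 6 ∣ Nat.card F.Cr := by
    rw [← N'.card_mul_index, hidx', pow_succ]
    refine mul_dvd_mul_right ?_ 3
    have := Subgroup.card_dvd_of_le hPN
    rwa [hP, Subgroup.card_map_of_injective F.Cr.subtype_injective] at this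
  obtain ⟨P, hP⟩ := Sylow.exists_subgroup_card_pow_prime 3 hd
  have h := card_le_cent (T := T) F.r_cube (fun e => F.r_notZ (by rw [e]; exact one_mem _))
    (by rw [← F.el_r]; exact hF.not_isZ (by decide)) ((IsPGroup.of_card hP).map F.Cr.subtype) (Subgroup.map_subtype_le P)
  rw [Subgroup.card_map_of_injective F.Cr.subtype_injective, hP] at h
  norm_num at h

end Loc.Frame

end Cfsg.Agent.Spor.OmegaEightThree
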