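import Cfsg.Agent.Lib.Spor.OmegaEightThree.Reflections
import Mathlib.GroupTheory.Transfer

/-!
If `C/Q ≅ SL(2,3)`, the transfer of the character of `C` given by the commutator with `r` is onto: the
group has a normal subgroup of index three.
-/

set_option autoImplicit false
set_option linter.unusedSectionVars false
set_option maxHeartbeats 1000000

namespace Cfsg.Agent.Spor.OmegaEightThree

open Cfsg.Agent.Spor.PSLFourThree (com)

local notation "SL2" => Matrix.SpecialLinearGroup (Fin 2) (ZMod 3)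
local notation "C3" => Multiplicative (ZMod 3)

theorem c3_cube : ∀ x : C3, x ^ 3 = 1 := by decide

/-- A transfer to a group of exponent three, evaluated at an element all whose conjugates in the
subgroup have the same value. -/
theorem transfer_const {G : Type*} [Group G] [Finite G] {H : Subgroup G} (χ : H →* C3) {r : G} (hr3 : r ^ 3 = 1)
    {a : C3} (hconst : ∀ g : G, ∀ h : g⁻¹ * r * g ∈ H, χ ⟨_, h⟩ = a) :
    MonoidHom.transfer χ r = a ^ H.index := by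
  classical
  haveI := Fintype.ofFinite (G ⧸ H)
  haveI := Fintype.ofFinite (Quotient (MulAction.orbitRel (Subgroup.zpowers r) (G ⧸ H)))
  rw [MonoidHom.transfer_eq_prod_quotient_orbitRel_zpowers_quot, Subgroup.index_eq_sum_minimalPeriod H r,
    ← Finset.prod_pow_eq_pow_sum]
  refine Fintype.prod_congr _ _ fun q => ?_
  have hd : Function.minimalPeriod (r • ·) q.out ∣ 3 := by
    refine Function.IsPeriodicPt.minimalPeriod_dvd ?_
    show (r • ·)^[3] q.out = q.out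
    rw [smul_iterate_apply, hr3, one_smul]
  have key : ∀ k : ℕ, k = 1 ∨ k = 3 → ∀ g : G, ∀ h : g⁻¹ * r ^ k * g ∈ H, χ ⟨_, h⟩ = a ^ k := by
    rintro k (rfl | rfl) g h
    · rw [pow_one a]
      refine Eq.trans (congrArg χ (Subtype.ext (by simp))) (hconst g (by rwa [pow_one] at h))
    · rw [c3_cube]
      exact Eq.trans (congrArg χ (Subtype.ext (by simp [hr3]))) (map_one χ)
  exact key _ ((Nat.dvd_prime Nat.prime_three).1 hd) _ _

namespace Loc

variable {G : Type*} [Group G] [Finite G] {T : Loc G}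

/-- `C/Q ≅ SL(2,3)`. -/
def Single (T : Loc G) : Prop := ∀ c : T.C, T.η c = 1

theorem card_kerη : Nat.card T.toPre.K = 5832 := by
  have h := (T.ρ.comp T.toPre.K.subtype).ker.card_eq_card_quotient_mul_card_subgroup
  rw [Nat.card_congr (QuotientGroup.quotientKerEquivOfSurjective _ T.toPre.ρK_surj).toEquiv] at h
  have e : Nat.card (T.ρ.comp T.toPre.K.subtype).ker = 243 := by
    rw [← T.card_Q]
    exact Nat.card_congr
      { toFun := fun x => ⟨((x.1 : T.C) : G), (T.ρker _).1 ⟨x.2, x.1.2⟩⟩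
        invFun := fun a => ⟨⟨⟨a, T.Q_le_C a.2⟩, ((T.ρker _).2 a.2).2⟩, ((T.ρker _).2 a.2).1⟩
        left_inv := fun _ => rfl
        right_inv := fun _ => rfl }
  rw [e, Nat.card_eq_fintype_card (α := SL2), show Fintype.card SL2 = 24 by decide +kernel] at h
  exact h

theorem index_C : ¬ 3 ∣ (T.C).index := by
  intro h
  haveI : Fact (Nat.Prime 3) := ⟨Nat.prime_three⟩
  have hd : 3 ^ 7 ∣ Nat.card G := by
    rw [← (T.C).card_mul_index, show (3 : ℕ) ^ 7 = 729 * 3 from rfl]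
    refine mul_dvd_mul (dvd_trans ?_ (Subgroup.card_subgroup_dvd_card T.toPre.K)) h
    rw [card_kerη]
    norm_num
  obtain ⟨P, hP⟩ := Sylow.exists_subgroup_card_pow_prime 3 hd
  have := T.sylow P (IsPGroup.of_card hP)
  omega

namespace Frame

variable {F : Frame T} (hF : F.Classified)
include hF

/-- No conjugate of `z^{±1}` in `Q` outside `Z` commutes with a fixed point outside the line of `r`. -/
theorem Classified.pair_free {σ : G} (hσ : σ ∈ T.Q) (hσt : F.t * σ = σ * F.t) (hσr : com σ F.r = T.z) {k : G}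
    (hk : T.IsPair k) (hc : com σ (k * T.z * k⁻¹) = 1) : False := by
  obtain ⟨n₂, r₂, h2⟩ := exists_comps F.ht hk
  obtain ⟨-, hr₂, hline, -⟩ := pair_comp F.ht hk h2.hn h2.hr h2.he h2.hn1 h2.cent
  have hσp : T.bar ⟨σ, hσ⟩ ∈ T.plus := (F.ht.plus_iff hσ).2 hσt
  have h1 : com σ r₂ = 1 := by
    have e : com n₂ σ = 1 := F.ht.com_parts h2.hn hσ h2.hn1 hσt
    rw [h2.he, T.com_mul_right hσ h2.hn h2.hr, Pre.com_inv (a := n₂) (b := σ), e] at hc
    simpa using hc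
  -- the line is generated by `r`
  have hsub : T.bar ⟨r₂, h2.hr⟩ ∈ Subgroup.zpowers (T.bar ⟨F.r, F.r_mem⟩) := by
    have hσ3 : T.ρ ⟨F.f, F.f_C⟩ ^ 3 = 1 := by
      rw [← map_pow, show (⟨F.f, F.f_C⟩ : T.C) ^ 3 = 1 from Subtype.ext F.f_cube, map_one]
    obtain ⟨a, ha, b, hb, hab⟩ := Subgroup.mem_sup.1 (fixed_plane F.ht F.hg F.comps.hn F.comps.hr F.comps.he
      F.comps.hn1 F.comps.cent hσ3 F.ρ_f_ne F.act_f_n (hline.2 _))
    have hap : a ∈ T.plus := (Subgroup.zpowers_le.2 ((F.ht.plus_iff F.r_mem).2 F.comps.cent)) ha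
    have hbm : b ∈ T.minus := (Subgroup.zpowers_le.2 ((F.ht.minus_iff F.n_mem).2 F.comps.hn1)) hb
    have hbp : b ∈ T.plus := by
      rw [show b = a⁻¹ * T.bar ⟨r₂, h2.hr⟩ by rw [← hab, inv_mul_cancel_left]]
      exact mul_mem (inv_mem hap) hline.1
    rw [← hab, T.plus_minus hbp hbm, mul_one]
    exact ha
  obtain ⟨i, hi⟩ := Subgroup.mem_zpowers_iff.1 hsub
  obtain ⟨j, hj⟩ := mem_powers_iff_mem_zpowers.2 (Subgroup.mem_zpowers_iff.2 ⟨i, hi⟩ :
    T.bar ⟨r₂, h2.hr⟩ ∈ Subgroup.zpowers (T.bar ⟨F.r, F.r_mem⟩))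
  have hz : (F.r ^ j)⁻¹ * r₂ ∈ T.toPre.Z := by
    have := T.bar_eq.1 (show T.bar ((⟨F.r, F.r_mem⟩ : T.Q) ^ j) = T.bar ⟨r₂, h2.hr⟩ from hj)
    simpa using this
  have hcom : com σ (F.r ^ j) = T.z ^ j := by
    clear hj hz
    induction j with
    | zero => simp [com]
    | succ j ih => rw [pow_succ, T.com_mul_right hσ (pow_mem F.r_mem _) F.r_mem, ih, hσr, pow_succ]
  have e : com σ r₂ = T.z ^ j := by
    rw [show r₂ = F.r ^ j * ((F.r ^ j)⁻¹ * r₂) by group,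
      T.com_mul_right hσ (pow_mem F.r_mem _) (T.Z_le hz), T.com_Z_right hσ hz, hcom, mul_one]
  rw [e] at h1
  have h3 : 3 ∣ j := T.hz ▸ orderOf_dvd_of_pow_eq_one h1
  obtain ⟨m, rfl⟩ := h3
  have hr3 : F.r ^ 3 = 1 := T.exp _ F.r_mem
  rw [pow_mul, hr3, one_pow, inv_one, one_mul] at hz
  exact hr₂ hz

/-- A `3`-element centralising a fixed point moving `r` and normalising its centraliser in `Q` lies in it. -/
theorem Classified.norm_mem_cent {σ : G} (hσ : σ ∈ T.Q) (hσt : F.t * σ = σ * F.t) (hσr : com σ F.r = T.z) {x : G}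
    (hx : x ∈ Subgroup.normalizer ((T.Q ⊓ Subgroup.centralizer {σ} : Subgroup G) : Set G))
    (hxp : ∃ m : ℕ, x ^ (3 ^ m) = 1) (hxσ : x * σ = σ * x) : x ∈ T.Q ⊓ Subgroup.centralizer {σ} := by
  classical
  obtain ⟨m, hm⟩ := hxp
  set Cσ := Subgroup.centralizer ({σ} : Set G) with hCσ
  set P : Subgroup G := T.Q ⊓ Cσ with hPdef
  have hPnc : ∃ a ∈ P, ∃ b ∈ P, com a b ≠ 1 := by
    obtain ⟨a, b, ha, hb, hab⟩ := T.minus_noncomm F.ht
    have hin : ∀ x : T.Q, T.bar x ∈ T.minus → (x : G) ∈ P := by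
      intro x hx
      refine ⟨x.2, Subgroup.mem_centralizer_singleton_iff.2 ?_⟩
      exact (Pre.com_eq_one_iff.1 (F.ht.com_parts x.2 hσ ((F.ht.minus_iff x.2).1 hx) hσt))
    exact ⟨a, hin a ha, b, hin b hb, hab⟩
  obtain ⟨a, ha, b, hb, hab⟩ := hPnc
  have hn := Subgroup.mem_normalizer_iff.1 hx
  obtain ⟨i, hi⟩ := Subgroup.mem_zpowers_iff.1 (T.com_mem' ha.1 hb.1)
  have hxz : x * T.z * x⁻¹ ∈ T.toPre.Z := by
    have hw : x * com a b * x⁻¹ ∈ T.toPre.Z := by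
      rw [Pre.com_conj]
      exact T.com_mem' ((hn _).1 ha).1 ((hn _).1 hb).1
    rcases T.z_pow_cases (T.com_mem' ha.1 hb.1) with e | e | e
    · exact absurd e hab
    · rwa [e] at hw
    · rw [e] at hw
      have h' := inv_mem hw
      rwa [conj_inv, inv_inv] at h' 
  have hxC : x ∈ T.C := by
    refine T.mem_C.2 (mul_inv_eq_iff_eq_mul.1 ?_)
    rcases T.z_pow_cases hxz with e | e | e
    · exact absurd (conj_eq_one_iff.1 e) T.z_ne
    · exact e
    · exfalso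
      have hpow : ∀ k : ℕ, x ^ k * T.z * (x ^ k)⁻¹ = if Even k then T.z else T.z⁻¹ := by
        intro k
        induction k with
        | zero => simp
        | succ k ih =>
          rw [pow_succ', show x * x ^ k * T.z * (x * x ^ k)⁻¹ = x * (x ^ k * T.z * (x ^ k)⁻¹) * x⁻¹ by group, ih]
          by_cases hk : Even k
          · rw [if_pos hk, if_neg (by simp [Nat.even_add_one, hk]), e]
          · rw [if_neg hk, if_pos (by simp [Nat.even_add_one, hk]), ← conj_inv, e, inv_inv]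
      have h1 := hpow (3 ^ m)
      rw [hm, if_neg (Nat.not_even_iff_odd.2 (Odd.pow (by decide)))] at h1
      have h2 : T.z * T.z = 1 := by
        conv_lhs => arg 1; rw [show T.z = T.z⁻¹ by simpa using h1]
        rw [inv_mul_cancel]
      have h3 := T.z_cube
      rw [pow_succ, pow_two, h2, one_mul] at h3
      exact T.z_ne h3
  refine ⟨?_, Subgroup.mem_centralizer_singleton_iff.2 hxσ⟩
  by_contra hxQ
  have hxη : T.η ⟨x, hxC⟩ = 1 := T.η_cube (n := m) (Subtype.ext hm)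
  set γ := T.ρ ⟨x, hxC⟩ with hγdef
  have hγ1 : γ ≠ 1 := fun h => hxQ ((T.ρker ⟨x, hxC⟩).1 ⟨h, hxη⟩)
  have hγm : γ ^ (3 ^ m) = 1 := by
    rw [hγdef, ← map_pow, show (⟨x, hxC⟩ : T.C) ^ (3 ^ m) = 1 from Subtype.ext hm, map_one]
  have hγ3 : γ ^ 3 = 1 := by
    have hd : orderOf γ ∣ Nat.gcd (3 ^ m) 24 := Nat.dvd_gcd (orderOf_dvd_of_pow_eq_one hγm)
      (by rw [← show Fintype.card SL2 = 24 by decide +kernel]; exact orderOf_dvd_card)
    refine orderOf_dvd_iff_pow_eq_one.1 (hd.trans ?_)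
    have hg : Nat.gcd (3 ^ m) 24 ∣ 3 ^ m := Nat.gcd_dvd_left _ _
    obtain ⟨k, -, hk⟩ := (Nat.dvd_prime_pow Nat.prime_three).1 hg
    have h24 := Nat.gcd_dvd_right (3 ^ m) 24
    rw [hk] at h24 ⊢
    rcases Nat.lt_or_ge k 2 with h | h
    · exact dvd_trans (pow_dvd_pow 3 (show k ≤ 1 by omega)) (by norm_num)
    · exact absurd (dvd_trans (pow_dvd_pow 3 h) h24) (by norm_num)
  have hfix : T.act γ (T.bar ⟨σ, hσ⟩) = T.bar ⟨σ, hσ⟩ := by
    rw [T.act_bar hxη]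
    refine congrArg T.bar (Subtype.ext ?_)
    show x * σ * x⁻¹ = σ
    rw [hxσ, mul_inv_cancel_right]
  have hall := T.act_of_three hγ3 hγ1 ((F.ht.plus_iff hσ).2 hσt) hfix (T.ρ ⟨F.f, F.f_C⟩)
  have hfη : T.η ⟨F.f, F.f_C⟩ = 1 := T.η_cube (n := 1) (Subtype.ext (by simpa using F.f_cube))
  rw [T.act_bar hfη] at hall
  have hfσ : σ⁻¹ * (F.f * σ * F.f⁻¹) ∈ T.toPre.Z := T.bar_eq.1 hall.symm
  obtain ⟨a, ha, b, hb, hab⟩ := Subgroup.mem_sup.1 (fixed_plane F.ht F.hg F.comps.hn F.comps.hr F.comps.he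
    F.comps.hn1 F.comps.cent (γ := T.ρ ⟨F.f, F.f_C⟩)
    (by rw [← map_pow, show (⟨F.f, F.f_C⟩ : T.C) ^ 3 = 1 from Subtype.ext F.f_cube, map_one]) F.ρ_f_ne
    F.act_f_n (v := T.bar ⟨σ, hσ⟩) (by rw [T.act_bar hfη]; exact hall))
  obtain ⟨i', rfl⟩ := Subgroup.mem_zpowers_iff.1 ha
  obtain ⟨j', rfl⟩ := Subgroup.mem_zpowers_iff.1 hb
  have hz := T.bar_eq.1 (show T.bar ((⟨F.r, F.r_mem⟩ : T.Q) ^ i' * ⟨F.n, F.n_mem⟩ ^ j') = T.bar ⟨σ, hσ⟩ from hab)
  obtain ⟨l, hl⟩ := Subgroup.mem_zpowers_iff.1 hz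
  have hσc : Commute σ F.r := by
    push_cast at hl
    rw [show σ = F.r ^ i' * F.n ^ j' * T.z ^ l by rw [hl]; group]
    exact ((((Commute.refl F.r).zpow_left i').mul_left ((show Commute F.n F.r from F.n_r).zpow_left j')).mul_left
      ((show Commute T.z F.r from F.r_z.symm).zpow_left l))
  rw [Pre.com_eq_one_iff.2 hσc.eq] at hσr
  exact T.z_ne hσr.symm

variable (hS : T.Single)
include hS

/-- The conjugates in `C` of an element of `Q` fixed by `t` and moving `r` move `r` equally. -/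
theorem Classified.com_const {σ : G} (hσ : σ ∈ T.Q) (hσt : F.t * σ = σ * F.t) (hσr : com σ F.r = T.z) {g : G}
    (hg : g * σ * g⁻¹ ∈ T.C) : com (g * σ * g⁻¹) F.r = T.z := by
  classical
  haveI : Fact (Nat.Prime 3) := ⟨Nat.prime_three⟩
  set Cσ := Subgroup.centralizer ({σ} : Set G) with hCσ
  set P : Subgroup G := T.Q ⊓ Cσ with hPdef
  -- `P` is a Sylow subgroup of the centraliser
  obtain ⟨hPσ, hPp⟩ : P ≤ Cσ ∧ IsPGroup 3 P :=
    ⟨inf_le_right, (IsPGroup.of_card (p := 3) (n := 5) (by rw [T.card_Q]; norm_num)).to_le inf_le_left⟩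
  obtain ⟨S₁, hS₁⟩ := IsPGroup.exists_le_sylow (P := P.subgroupOf Cσ) (hPp.comap_subtype (H := P) (K := Cσ))
  have hS₁eq : P.subgroupOf Cσ = S₁ := by
    by_contra hne
    haveI := S₁.isPGroup'.isNilpotent
    have hlt : P.subgroupOf Cσ < S₁ := lt_of_le_of_ne hS₁ hne
    obtain ⟨x, hx, hxn⟩ := SetLike.exists_of_lt ((Group.normalizerCondition_of_isNilpotent (G := S₁))
      ((P.subgroupOf Cσ).subgroupOf S₁) (lt_top_iff_ne_top.2 fun h => hne (le_antisymm hS₁ (Subgroup.subgroupOf_eq_top.1 h))))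
    refine hxn (hF.norm_mem_cent hσ hσt hσr (x := ((x : Cσ) : G)) ?_ ?_ (Subgroup.mem_centralizer_singleton_iff.1 (x : Cσ).2))
    · refine Subgroup.mem_normalizer_fintype fun a ha => ?_
      have := (Subgroup.mem_normalizer_iff.1 hx ⟨⟨a, hPσ ha⟩, hS₁ ha⟩).1 ha
      exact this
    · obtain ⟨m, hm⟩ := S₁.isPGroup' x
      exact ⟨m, congrArg (fun y : S₁ => ((y : Cσ) : G)) hm⟩
  -- the conjugate of `z` centralising `σ`
  set y := g⁻¹ * T.z * g with hy
  have hyσ : y * σ = σ * y := by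
    have h := T.mem_C.1 hg
    calc y * σ = g⁻¹ * (T.z * (g * σ * g⁻¹)) * g := by rw [hy]; group
      _ = g⁻¹ * (g * σ * g⁻¹ * T.z) * g := by rw [h]
      _ = σ * y := by rw [hy]; group
  have hy3 : y ^ 3 = 1 := by rw [hy, show g⁻¹ * T.z * g = g⁻¹ * T.z * g⁻¹⁻¹ by group, conj_pow, T.z_cube]; group
  let yC : Cσ := ⟨y, Subgroup.mem_centralizer_singleton_iff.2 hyσ⟩
  obtain ⟨S₂, hS₂⟩ := IsPGroup.exists_le_sylow (P := Subgroup.zpowers yC) (IsPGroup.of_card (p := 3) (n := 1) (by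
    rw [Nat.card_zpowers, pow_one]
    refine orderOf_eq_prime (Subtype.ext hy3) fun e => T.z_ne ?_
    have h1 : y = 1 := congrArg Subtype.val e
    rw [hy, show g⁻¹ * T.z * g = g⁻¹ * T.z * g⁻¹⁻¹ by group, conj_eq_one_iff] at h1
    exact h1))
  obtain ⟨c, hc⟩ := MulAction.exists_smul_eq Cσ S₂ S₁
  have hcy : (c : G) * y * (c : G)⁻¹ ∈ P := by
    have h1 : c * yC * c⁻¹ ∈ P.subgroupOf Cσ := by
      rw [hS₁eq, ← hc, Sylow.coe_subgroup_smul, Subgroup.mem_pointwise_smul_iff_inv_smul_mem]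
      simpa [mul_assoc] using hS₂ (Subgroup.mem_zpowers yC)
    exact h1
  set k := g * (c : G)⁻¹ with hk
  have hky : (c : G) * y * (c : G)⁻¹ = k⁻¹ * T.z * k⁻¹⁻¹ := by rw [hy, hk]; group
  have hkZ : k⁻¹ * T.z * k⁻¹⁻¹ ∈ T.toPre.Z := by
    by_contra hno
    refine hF.pair_free hσ hσt hσr (k := k⁻¹) ⟨hky ▸ hcy.1, hno⟩ ?_
    rw [Pre.com_eq_one_iff, ← hky]
    exact (Subgroup.mem_centralizer_singleton_iff.1 hcy.2).symm
  have hx : g * σ * g⁻¹ = k * σ * k⁻¹ := by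
    have hc' := Subgroup.mem_centralizer_singleton_iff.1 c.2
    rw [hk, show g * (c : G)⁻¹ * σ * (g * (c : G)⁻¹)⁻¹ = g * ((c : G)⁻¹ * (σ * c)) * g⁻¹ by group, ← hc',
      inv_mul_cancel_left]
  rw [hx]
  -- the element of `C` behind `k`
  have step : ∀ l : G, l ∈ T.C → com (l * σ * l⁻¹) F.r = T.z := by
    intro l hl
    have hfix : T.act (T.ρ ⟨l, hl⟩) (T.bar ⟨F.r, F.r_mem⟩) = T.bar ⟨F.r, F.r_mem⟩ :=
      (pair_comp F.ht F.hg F.comps.hn F.comps.hr F.comps.he F.comps.hn1 F.comps.cent).2.2.1.2 _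
    rw [T.act_bar (hS _)] at hfix
    have hr : (F.r)⁻¹ * (l * F.r * l⁻¹) ∈ T.toPre.Z := T.bar_eq.1 hfix.symm
    have e := congrArg (fun w => l * w * l⁻¹) hσr
    simp only [Pre.com_conj] at e
    rw [T.conj_Z hl T.z_mem, show l * F.r * l⁻¹ = F.r * (F.r⁻¹ * (l * F.r * l⁻¹)) by group,
      T.com_mul_right (T.conj_Q hl hσ) F.r_mem (T.Z_le hr), T.com_Z_right (T.conj_Q hl hσ) hr, mul_one] at e
    exact e
  obtain ⟨m, hm, hm2, -⟩ := hF.exists_neg
  have hmz : m * T.z * m⁻¹ = T.z⁻¹ := by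
    rw [← F.el_z, hm, F.el_neg]
  have hmr : m * F.r * m⁻¹ = F.r⁻¹ := by
    rw [← F.el_r, hm, F.el_neg]
  obtain ⟨i, hi⟩ := Subgroup.mem_zpowers_iff.1 hkZ
  rcases T.z_pow_cases hkZ with e | e | e
  · exact absurd (conj_eq_one_iff.1 e) T.z_ne
  · refine step k (T.mem_C.2 ?_)
    calc k * T.z = k * (k⁻¹ * T.z * k⁻¹⁻¹) := by rw [e]
      _ = T.z * k := by group
  · have hkC : m * k ∈ T.C := T.mem_C.2 (by
      have h1 : k * T.z * k⁻¹ = T.z⁻¹ := by
        calc k * T.z * k⁻¹ = (k * T.z⁻¹ * k⁻¹)⁻¹ := by rw [conj_inv, inv_inv]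
          _ = (k * (k⁻¹ * T.z * k⁻¹⁻¹) * k⁻¹)⁻¹ := by rw [e]
          _ = T.z⁻¹ := by group
      calc m * k * T.z = m * (k * T.z * k⁻¹) * m⁻¹ * (m * k) := by group
        _ = T.z * (m * k) := by rw [h1, ← conj_inv, hmz, inv_inv])
    have h1 := step _ hkC
    have hmi : m⁻¹ = m := inv_eq_of_mul_eq_one_right hm2
    have e2 : com (k * σ * k⁻¹) F.r⁻¹ = T.z⁻¹ := by
      calc com (k * σ * k⁻¹) F.r⁻¹ = com (m⁻¹ * (m * k * σ * (m * k)⁻¹) * m⁻¹⁻¹) (m⁻¹ * F.r * m⁻¹⁻¹) := by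
            congr 1
            · group
            · rw [inv_inv, ← hmr]; nth_rw 1 [← hmi]; nth_rw 3 [hmi]; rw [hmi]
        _ = m⁻¹ * com (m * k * σ * (m * k)⁻¹) F.r * m⁻¹⁻¹ := (Pre.com_conj).symm
        _ = T.z⁻¹ := by rw [h1, hmi, hmi, ← hmz, hmi]
    have hkQ : k * σ * k⁻¹ ∈ T.Q := by
      have h := T.conj_Q hkC hσ
      have hmQ := Subgroup.mem_normalizer_iff.1 (T.norm_Q (k := m) (by rw [hmz]; exact inv_mem T.z_mem))
      refine (hmQ _).2 ?_
      rwa [show m * (k * σ * k⁻¹) * m⁻¹ = m * k * σ * (m * k)⁻¹ by group]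
    have h2 : com (k * σ * k⁻¹) F.r⁻¹ * com (k * σ * k⁻¹) F.r = 1 := by
      rw [← T.com_mul_right hkQ (inv_mem F.r_mem) F.r_mem, inv_mul_cancel]
      simp [com]
    rw [e2, inv_mul_eq_one] at h2
    exact h2.symm

/-- The subgroup of index three. -/
theorem Classified.exists_index_three :
    ∃ φ : G →* C3, (∃ q ∈ T.Q, F.t * q = q * F.t ∧ F.Act q mV ∧ φ q ≠ 1) := by
  classical
  obtain ⟨q₀, hq, hqt, hV⟩ := hF.exists_V
  have hσr : com q₀ F.r = T.z := by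
    rw [com, ← F.el_r, hV, show mV (![0, 0, 1, 0] : Four) = ![1, 0, 0, 0] + ![0, 0, 1, 0] from by
      funext i; fin_cases i <;> simp [mV], F.el_mul, F.el_z, mul_inv_cancel_right]
  have hline : T.bar ⟨F.r, F.r_mem⟩ ∈ T.line :=
    (pair_comp F.ht F.hg F.comps.hn F.comps.hr F.comps.he F.comps.hn1 F.comps.cent).2.2.1
  have hval : ∀ c : T.C, ∃ i : ZMod 3, (c : G) * F.r * (c : G)⁻¹ = T.z ^ i.val * F.r := by
    intro c
    have h := hline.2 (T.ρ c)
    rw [T.act_bar (hS c)] at h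
    have hz : F.r⁻¹ * ((c : G) * F.r * (c : G)⁻¹) ∈ T.toPre.Z := T.bar_eq.1 h.symm
    obtain ⟨i, hi⟩ := Subgroup.mem_zpowers_iff.1 hz
    refine ⟨(i : ZMod 3), ?_⟩
    rw [pow_val_intCast T.z_cube, ((show Commute T.z F.r from F.r_z.symm).zpow_left i).eq, hi, mul_inv_cancel_left]
  choose v hv using hval
  have hinj : ∀ a b : ZMod 3, T.z ^ a.val * F.r = T.z ^ b.val * F.r → a = b := fun a b e => by
    have h := pow_inj_mod.1 (mul_right_cancel e)
    rw [T.hz, Nat.mod_eq_of_lt (ZMod.val_lt a), Nat.mod_eq_of_lt (ZMod.val_lt b)] at h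
    exact ZMod.val_injective 3 h
  let χ : T.C →* C3 := MonoidHom.mk' (fun c => Multiplicative.ofAdd (v c)) fun a b => by
    rw [← ofAdd_add]
    refine congrArg Multiplicative.ofAdd (hinj _ _ ?_)
    rw [← hv, Subgroup.coe_mul, show (a : G) * b * F.r * ((a : G) * b)⁻¹ = a * ((b : G) * F.r * (b : G)⁻¹) * (a : G)⁻¹ by group,
      hv, show (a : G) * (T.z ^ (v b).val * F.r) * (a : G)⁻¹ = a * T.z ^ (v b).val * (a : G)⁻¹ * ((a : G) * F.r * (a : G)⁻¹) by group,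
      T.conj_Z a.2 (pow_mem T.z_mem _), hv, pow_val_add T.z_cube, ← mul_assoc,
      ((Commute.refl T.z).pow_pow (v b).val (v a).val).eq]
  have hconst : ∀ g : G, ∀ h : g⁻¹ * q₀ * g ∈ T.C, χ ⟨_, h⟩ = Multiplicative.ofAdd (1 : ZMod 3) := by
    intro g h
    refine congrArg Multiplicative.ofAdd (hinj _ _ ?_)
    rw [← hv]
    have e := hF.com_const hS hq hqt hσr (g := g⁻¹) (by rwa [inv_inv])
    rw [inv_inv, com, mul_inv_eq_iff_eq_mul] at e
    show g⁻¹ * q₀ * g * F.r * (g⁻¹ * q₀ * g)⁻¹ = _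
    rw [e, ZMod.val_one, pow_one]
  refine ⟨MonoidHom.transfer χ, q₀, hq, hqt, hV, ?_⟩
  rw [transfer_const χ (T.exp _ hq) hconst]
  intro e
  have hn : orderOf (Multiplicative.ofAdd (1 : ZMod 3) : C3) = 3 := orderOf_eq_prime (c3_cube _) (by decide)
  exact index_C (hn ▸ orderOf_dvd_of_pow_eq_one e)

end Frame

end Loc

end Cfsg.Agent.Spor.OmegaEightThree
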