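import Cfsg.Agent.Lib.Spor.OmegaEightThree.Comp

/-!
The elements of order dividing four of `C_G(z) ∩ C_G(t)` form a quaternion group when `C/Q ≅ SL(2,3)`;
it centralises the fixed points of `t` in `Q`.
-/

set_option autoImplicit false
set_option linter.unusedSectionVars false

namespace Cfsg.Agent.Spor.OmegaEightThree

open Cfsg.Agent.Spor.PSLFourThree (com)

local notation "SL2" => Matrix.SpecialLinearGroup (Fin 2) (ZMod 3)

theorem four_facts : ∀ γ δ : SL2, γ * γ * (γ * γ) = 1 → δ * δ * (δ * δ) = 1 →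
    (δ * γ * δ⁻¹ = γ ∨ δ * γ * δ⁻¹ = γ⁻¹) ∧ (γ * γ = 1 ∨ γ * γ = -1) := by decide +kernel

theorem pow_four_eq {M : Type*} [Monoid M] (x : M) : x ^ 4 = x * x * (x * x) := by
  rw [pow_succ, pow_succ, pow_succ, pow_one, mul_assoc]

theorem four_card : ((Finset.univ : Finset SL2).filter fun h => h ^ 4 = 1).card = 8 := by decide +kernel

theorem four_cases : ∀ γ : SL2, γ ^ 4 = 1 → γ = 1 ∨ γ = -1 ∨ γ ^ 2 = -1 := by decide +kernel

/-- Every element is the product of a quaternion and a power of a given element of order three. -/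
theorem four_mul_three : ∀ σ γ : SL2, σ ^ 3 = 1 → σ ≠ 1 → ∃ δ : SL2, δ ^ 4 = 1 ∧
    (γ = δ ∨ γ = δ * σ ∨ γ = δ * (σ * σ)) := by decide +kernel

theorem four_comm_three : ∀ σ γ : SL2, σ ^ 3 = 1 → σ ≠ 1 → γ ^ 4 = 1 → γ * σ = σ * γ → γ = 1 ∨ γ = -1 := by
  decide +kernel

namespace Loc

variable {G : Type*} [Group G] [Finite G] (T : Loc G) {t : G} (ht : T.toPre.IsT t)

/-- The quaternions at `z`. -/
def Quat (t : G) : Set G := {g | g * t = t * g ∧ g * T.z = T.z * g ∧ g ^ 4 = 1}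

variable {T}

include ht

theorem fixed_comm {g : G} (hz : g * T.z = T.z * g) (h4 : g ^ 4 = 1) (hη : T.η ⟨g, T.mem_C.2 hz⟩ = 1) {q : G}
    (hq : q ∈ T.Q) (hqt : t * q = q * t) : g * q = q * g := by
  have hgC : g ∈ T.C := T.mem_C.2 hz
  have hfix := T.quat_plus (T.ρ ⟨g, hgC⟩) (by
    rw [← map_pow, show (⟨g, hgC⟩ : T.C) ^ 8 = 1 from Subtype.ext (by
      show g ^ 8 = 1
      rw [show 8 = 4 * 2 from rfl, pow_mul, h4, one_pow]), map_one]) _ ((ht.plus_iff hq).2 hqt)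
  rw [T.act_bar hη] at hfix
  have hw : q⁻¹ * (g * q * g⁻¹) ∈ T.toPre.Z := T.bar_eq.1 hfix.symm
  set w := q⁻¹ * (g * q * g⁻¹) with hwdef
  have e1 : g * q * g⁻¹ = q * w := by rw [hwdef, mul_inv_cancel_left]
  have hgw : g * w * g⁻¹ = w := T.conj_Z hgC hw
  have hk : ∀ k : ℕ, g ^ k * q * (g ^ k)⁻¹ = q * w ^ k := by
    intro k
    induction k with
    | zero => simp
    | succ k ih =>
      rw [pow_succ', show g * g ^ k * q * (g * g ^ k)⁻¹ = g * (g ^ k * q * (g ^ k)⁻¹) * g⁻¹ by group, ih,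
        ← conj_mul, e1, ← conj_pow, hgw, pow_succ', mul_assoc]
  have h := hk 4
  rw [h4, inv_one, mul_one, one_mul, left_eq_mul, pow_succ, T.exp _ (T.Z_le hw), one_mul] at h
  rw [h, mul_one] at e1
  exact mul_inv_eq_iff_eq_mul.1 e1

variable (hS : ∀ c : T.C, T.η c = 1)
include hS

theorem quat_inj {a b : G} (ha : a ∈ T.Quat t) (hb : b ∈ T.Quat t)
    (h : T.ρ ⟨a, T.mem_C.2 ha.2.1⟩ = T.ρ ⟨b, T.mem_C.2 hb.2.1⟩) : a = b := by
  have hq : a⁻¹ * b ∈ T.Q := (T.ρker (⟨a, T.mem_C.2 ha.2.1⟩⁻¹ * ⟨b, T.mem_C.2 hb.2.1⟩)).1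
    ⟨by rw [map_mul, map_inv, h, inv_mul_cancel], hS _⟩
  have hqt : t * (a⁻¹ * b) = a⁻¹ * b * t :=
    ((show Commute t a from ha.1.symm).inv_right.mul_right (show Commute t b from hb.1.symm)).eq
  have hc : Commute a (a⁻¹ * b) := fixed_comm ht ha.2.1 ha.2.2 (hS _) hq hqt
  have h4 : (a⁻¹ * b) ^ 4 = 1 := by
    have e := hc.mul_pow 4
    rw [mul_inv_cancel_left, ha.2.2, hb.2.2, one_mul] at e
    exact e.symm
  rw [pow_succ, T.exp _ hq, one_mul, inv_mul_eq_one] at h4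
  exact h4

theorem quat_lift {γ : SL2} (hγ : γ ^ 4 = 1) : ∃ a, ∃ ha : a ∈ T.Quat t, T.ρ ⟨a, T.mem_C.2 ha.2.1⟩ = γ := by
  obtain ⟨c, hc, -, hct⟩ := ht.exists_lift γ
  have h4Q : (c : G) ^ 4 ∈ T.Q := (T.ρker (c ^ 4)).1 ⟨by rw [map_pow, hc, hγ], hS _⟩
  have h12 : (c : G) ^ (4 * 3) = 1 := by rw [pow_mul, T.exp _ h4Q]
  refine ⟨(c : G) ^ 9, ⟨((show Commute (c : G) t from hct).pow_left 9).eq,
    ((show Commute (c : G) T.z from T.mem_C.1 c.2).pow_left 9).eq, ?_⟩, ?_⟩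
  · rw [← pow_mul, show 9 * 4 = 4 * 3 * 3 from rfl, pow_mul, h12, one_pow]
  · show T.ρ (c ^ 9) = γ
    rw [map_pow, hc, show 9 = 4 * 2 + 1 from rfl, pow_succ, pow_mul, hγ, one_pow, one_mul]

theorem t_quat : t ∈ T.Quat t :=
  ⟨rfl, T.mem_C.1 ht.mem, by rw [show 4 = 2 * 2 from rfl, pow_mul, pow_two t, ht.sq, one_pow]⟩

theorem quat_sq {a : G} (ha : a ∈ T.Quat t) : a * a = 1 ∨ a * a = t := by
  have hC := T.mem_C.2 ha.2.1
  have h4 : T.ρ ⟨a, hC⟩ ^ 4 = 1 := by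
    rw [← map_pow, show (⟨a, hC⟩ : T.C) ^ 4 = 1 from Subtype.ext ha.2.2, map_one]
  have h4' : T.ρ ⟨a, hC⟩ * T.ρ ⟨a, hC⟩ * (T.ρ ⟨a, hC⟩ * T.ρ ⟨a, hC⟩) = 1 := by
    rw [← pow_four_eq, h4]
  have hsq : a * a ∈ T.Quat t :=
    ⟨((show Commute a t from ha.1).mul_left ha.1).eq, ((show Commute a T.z from ha.2.1).mul_left ha.2.1).eq, by
      rw [← pow_two a, ← pow_mul, mul_comm, pow_mul, ha.2.2, one_pow]⟩
  have hone : (1 : G) ∈ T.Quat t := ⟨by simp, by simp, one_pow _⟩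
  rcases (four_facts _ _ h4' h4').2 with e | e
  · left
    refine quat_inj ht hS hsq hone ?_
    rw [show (⟨a * a, _⟩ : T.C) = ⟨a, hC⟩ * ⟨a, hC⟩ from rfl, map_mul, e]
    exact (map_one T.ρ).symm
  · right
    refine quat_inj ht hS hsq (t_quat ht hS) ?_
    rw [show (⟨a * a, _⟩ : T.C) = ⟨a, hC⟩ * ⟨a, hC⟩ from rfl, map_mul, e]
    exact ht.rho.symm

/-- The quaternion group at `z`. -/
def quatGroup : Subgroup G where
  carrier := T.Quat t
  one_mem' := ⟨by simp, by simp, one_pow _⟩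
  inv_mem' {a} ha := ⟨(show Commute a t from ha.1).inv_left.eq, (show Commute a T.z from ha.2.1).inv_left.eq, by
    rw [inv_pow, ha.2.2, inv_one]⟩
  mul_mem' {a b} ha hb := by
    have haC := T.mem_C.2 ha.2.1
    have hbC := T.mem_C.2 hb.2.1
    refine ⟨((show Commute a t from ha.1).mul_left hb.1).eq, ((show Commute a T.z from ha.2.1).mul_left hb.2.1).eq, ?_⟩
    have key : ∀ x : G, ∀ hx : x ∈ T.Quat t, T.ρ ⟨x, T.mem_C.2 hx.2.1⟩ * T.ρ ⟨x, T.mem_C.2 hx.2.1⟩ *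
        (T.ρ ⟨x, T.mem_C.2 hx.2.1⟩ * T.ρ ⟨x, T.mem_C.2 hx.2.1⟩) = 1 := fun x hx => by
      rw [← map_mul, ← map_mul, show (⟨x, T.mem_C.2 hx.2.1⟩ : T.C) * ⟨x, T.mem_C.2 hx.2.1⟩ *
        (⟨x, T.mem_C.2 hx.2.1⟩ * ⟨x, T.mem_C.2 hx.2.1⟩) = 1 from Subtype.ext (by
          show x * x * (x * x) = 1
          rw [← pow_four_eq, hx.2.2]), map_one]
    have hconj : b * a * b⁻¹ ∈ T.Quat t :=
      ⟨(((show Commute b t from hb.1).mul_left ha.1).mul_left (show Commute b t from hb.1).inv_left).eq,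
        (((show Commute b T.z from hb.2.1).mul_left ha.2.1).mul_left (show Commute b T.z from hb.2.1).inv_left).eq,
        by rw [conj_pow, ha.2.2, mul_one, mul_inv_cancel]⟩
    have hba : b * a * b⁻¹ = a ∨ b * a * b⁻¹ = a⁻¹ := by
      rcases (four_facts _ _ (key a ha) (key b hb)).1 with e | e
      · left
        refine quat_inj ht hS hconj ha (Eq.trans ?_ e)
        rw [← map_inv, ← map_mul, ← map_mul]
        rfl
      · right
        refine quat_inj ht hS hconj ⟨(show Commute a t from ha.1).inv_left.eq,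
          (show Commute a T.z from ha.2.1).inv_left.eq, by rw [inv_pow, ha.2.2, inv_one]⟩ (Eq.trans ?_ (e.trans ?_))
        · rw [← map_inv, ← map_mul, ← map_mul]
          rfl
        · rw [← map_inv]
          rfl
    have hsq : a * b * (a * b) = 1 ∨ a * b * (a * b) = t := by
      rw [show a * b * (a * b) = a * (b * a * b⁻¹) * (b * b) by group]
      rcases hba with e | e <;> rw [e]
      · rcases quat_sq ht hS ha with f | f <;> rcases quat_sq ht hS hb with g | g <;> rw [f, g] <;>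
          simp [ht.sq]
      · rw [mul_inv_cancel, one_mul]
        exact quat_sq ht hS hb
    rw [pow_four_eq]
    rcases hsq with e | e <;> rw [e]
    · simp
    · exact ht.sq

theorem card_quat : Nat.card (quatGroup ht hS) = 8 := by
  rw [← four_card, ← Fintype.card_subtype, ← Nat.card_eq_fintype_card]
  refine Nat.card_congr (Equiv.ofBijective
    (fun a => ⟨T.ρ ⟨a.1, T.mem_C.2 a.2.2.1⟩, by
      rw [← map_pow, show (⟨a.1, T.mem_C.2 a.2.2.1⟩ : T.C) ^ 4 = 1 from Subtype.ext a.2.2.2, map_one]⟩)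
    ⟨fun a b h => Subtype.ext (quat_inj ht hS a.2 b.2 (congrArg Subtype.val h)), fun γ => ?_⟩)
  obtain ⟨a, ha, h⟩ := quat_lift ht hS γ.2
  exact ⟨⟨a, ha⟩, Subtype.ext h⟩

end Loc

end Cfsg.Agent.Spor.OmegaEightThree
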