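import Cfsg.Agent.Lib.Spor.OmegaEightThree.Frame

/-!
The elementary abelian group `E = ⟨z, n, r, f⟩` of order `81` in coordinates.
-/

set_option autoImplicit false
set_option linter.unusedSectionVars false
set_option maxHeartbeats 1600000

namespace Cfsg.Agent.Spor.OmegaEightThree

open Cfsg.Agent.Spor.PSLFourThree (com)

local notation "SL2" => Matrix.SpecialLinearGroup (Fin 2) (ZMod 3)

/-- The coordinate space of `E`. -/
abbrev Four := Fin 4 → ZMod 3

theorem zmod3_cases : ∀ a : ZMod 3, a = 0 ∨ a = 1 ∨ a = -1 := by decide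

theorem pow_val_add {G : Type*} [Monoid G] {x : G} (hx : x ^ 3 = 1) (a b : ZMod 3) :
    x ^ (a + b).val = x ^ a.val * x ^ b.val := by
  rw [← pow_add, ZMod.val_add, ← pow_eq_pow_mod _ hx]

theorem pow_val_intCast {G : Type*} [Group G] {x : G} (hx : x ^ 3 = 1) (i : ℤ) :
    x ^ (i : ZMod 3).val = x ^ i := by
  rw [← zpow_natCast, ZMod.val_intCast]
  conv_rhs => rw [← Int.emod_add_mul_ediv i 3]
  rw [zpow_add, zpow_mul, show x ^ (3 : ℤ) = 1 by exact_mod_cast hx, one_zpow, mul_one]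
  rfl

namespace Loc

variable {G : Type*} [Group G] [Finite G] {T : Loc G}

/-- Elements of `Q` centralising `n` and `r`. -/
theorem Q_cent {t : G} (ht : T.toPre.IsT t) {g n r : G} (hg : T.IsPair g) (h : T.Comps t g n r) {w : G}
    (hw : w ∈ T.Q) (hwn : w * n = n * w) (hwr : w * r = r * w) :
    ∃ a b : ℤ, (n ^ a * r ^ b)⁻¹ * w ∈ T.toPre.Z := by
  obtain ⟨hnZ, hrZ, -⟩ := pair_comp ht hg h.hn h.hr h.he h.hn1 h.cent
  obtain ⟨a1, a0, ha1, ha0, hwa, ha0c, ha1m⟩ := ht.decomp hw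
  have hsn : com a1 n = 1 := by
    have e := Pre.com_eq_one_iff.2 hwn
    rw [hwa, T.com_mul_left ha1 ha0 h.hn, Pre.com_inv (a := n) (b := a0),
      ht.com_parts h.hn ha0 h.hn1 ha0c, inv_one, mul_one] at e
    exact e
  have hsr : com a0 r = 1 := by
    have e := Pre.com_eq_one_iff.2 hwr
    rw [hwa, T.com_mul_left ha1 ha0 h.hr, ht.com_parts ha1 h.hr ha1m h.cent, one_mul] at e
    exact e
  obtain ⟨a, ha⟩ := Subgroup.mem_zpowers_iff.1 (line_of_comm T.card_minus (minus_noncomm ht)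
    (a := ⟨a1, ha1⟩) (n := ⟨n, h.hn⟩) ((ht.minus_iff ha1).2 ha1m) ((ht.minus_iff h.hn).2 h.hn1)
    (fun e => hnZ (T.bar_eq_one.1 e)) hsn)
  obtain ⟨b, hb⟩ := Subgroup.mem_zpowers_iff.1 (line_of_comm T.card_plus (plus_noncomm ht)
    (a := ⟨a0, ha0⟩) (n := ⟨r, h.hr⟩) ((ht.plus_iff ha0).2 ha0c) ((ht.plus_iff h.hr).2 h.cent)
    (fun e => hrZ (T.bar_eq_one.1 e)) hsr)
  refine ⟨a, b, ?_⟩
  have e : T.bar ((⟨n, h.hn⟩ : T.Q) ^ a * ⟨r, h.hr⟩ ^ b) = T.bar ⟨w, hw⟩ := by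
    show T.bar ⟨n, h.hn⟩ ^ a * T.bar ⟨r, h.hr⟩ ^ b = _
    rw [ha, hb, ← Pre.bar_mul]
    exact congrArg T.bar (Subtype.ext hwa.symm)
  simpa using T.bar_eq.1 e

namespace Frame

variable (F : Frame T)

theorem n_mem : F.n ∈ T.Q := F.comps.hn

theorem r_mem : F.r ∈ T.Q := F.comps.hr

theorem f_z : F.f * T.z = T.z * F.f := T.mem_C.1 F.f_C

theorem n_z : F.n * T.z = T.z * F.n := T.mem_C.1 (T.Q_le_C F.n_mem)

theorem r_z : F.r * T.z = T.z * F.r := T.mem_C.1 (T.Q_le_C F.r_mem)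

theorem n_r : F.n * F.r = F.r * F.n := F.comps.comm F.ht

theorem t_z : F.t * T.z = T.z * F.t := T.mem_C.1 F.ht.mem

theorem n_notZ : F.n ∉ T.toPre.Z := (pair_comp F.ht F.hg F.comps.hn F.comps.hr F.comps.he F.comps.hn1 F.comps.cent).1

theorem r_notZ : F.r ∉ T.toPre.Z :=
  (pair_comp F.ht F.hg F.comps.hn F.comps.hr F.comps.he F.comps.hn1 F.comps.cent).2.1

/-- `z^a n^b r^c f^d`. -/
def el (v : Four) : G := T.z ^ (v 0).val * F.n ^ (v 1).val * F.r ^ (v 2).val * F.f ^ (v 3).val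

theorem el_mul (v w : Four) : F.el (v + w) = F.el v * F.el w := by
  have cn : Commute F.n T.z := F.n_z
  have cr : Commute F.r T.z := F.r_z
  have cf : Commute F.f T.z := F.f_z
  have crn : Commute F.r F.n := F.n_r.symm
  have cfn : Commute F.f F.n := F.f_n
  have cfr : Commute F.f F.r := F.f_r
  have c1 : Commute (T.z ^ (w 0).val) (F.n ^ (v 1).val) := (cn.pow_pow _ _).symm
  have c2 : Commute (T.z ^ (w 0).val * F.n ^ (w 1).val) (F.r ^ (v 2).val) :=
    (cr.pow_pow _ _).symm.mul_left (crn.pow_pow _ _).symm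
  have c3 : Commute (T.z ^ (w 0).val * F.n ^ (w 1).val * F.r ^ (w 2).val) (F.f ^ (v 3).val) :=
    ((cf.pow_pow _ _).symm.mul_left (cfn.pow_pow _ _).symm).mul_left (cfr.pow_pow _ _).symm
  simp only [el, Pi.add_apply, pow_val_add T.z_cube, pow_val_add (T.exp _ F.n_mem),
    pow_val_add (T.exp _ F.r_mem), pow_val_add F.f_cube]
  set Z := T.z ^ (v 0).val
  set Z' := T.z ^ (w 0).val
  set N := F.n ^ (v 1).val
  set N' := F.n ^ (w 1).val
  set R := F.r ^ (v 2).val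
  set R' := F.r ^ (w 2).val
  set P := F.f ^ (v 3).val
  set P' := F.f ^ (w 3).val
  calc Z * Z' * (N * N') * (R * R') * (P * P')
      = Z * (Z' * N) * N' * R * R' * P * P' := by group
    _ = Z * N * ((Z' * N') * R) * R' * P * P' := by rw [c1.eq]; group
    _ = Z * N * R * ((Z' * N' * R') * P) * P' := by rw [c2.eq]; group
    _ = Z * N * R * P * (Z' * N' * R' * P') := by rw [c3.eq]; group

/-- The coordinates as a homomorphism. -/
def hom : Multiplicative Four →* G where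
  toFun v := F.el v.toAdd
  map_one' := by simp [el]
  map_mul' v w := F.el_mul v.toAdd w.toAdd

/-- `E`. -/
def E : Subgroup G := F.hom.range

theorem el_mem (v : Four) : F.el v ∈ F.E := ⟨Multiplicative.ofAdd v, rfl⟩

theorem mem_E_iff {x : G} : x ∈ F.E ↔ ∃ v, F.el v = x :=
  ⟨fun ⟨v, hv⟩ => ⟨v.toAdd, hv⟩, fun ⟨v, hv⟩ => ⟨Multiplicative.ofAdd v, hv⟩⟩

theorem el_zero : F.el 0 = 1 := by simp [el]

theorem el_neg (v : Four) : F.el (-v) = (F.el v)⁻¹ :=
  eq_inv_of_mul_eq_one_left (by rw [← F.el_mul, neg_add_cancel, F.el_zero])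

theorem el_z : F.el ![1, 0, 0, 0] = T.z := by simp [el, ZMod.val_one]

theorem el_n : F.el ![0, 1, 0, 0] = F.n := by simp [el, ZMod.val_one]

theorem el_r : F.el ![0, 0, 1, 0] = F.r := by simp [el, ZMod.val_one]

theorem el_f : F.el ![0, 0, 0, 1] = F.f := by simp [el, ZMod.val_one]

theorem el_cube (v : Four) : F.el v ^ 3 = 1 := by
  rw [pow_succ, pow_two, ← F.el_mul, ← F.el_mul,
    show v + v + v = 0 from funext fun i => by
      show v i + v i + v i = 0
      rcases zmod3_cases (v i) with h | h | h <;> rw [h] <;> decide,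
    F.el_zero]

theorem el_C (v : Four) : F.el v ∈ T.C :=
  mul_mem (mul_mem (mul_mem (pow_mem (T.Q_le_C T.hzQ) _) (pow_mem (T.Q_le_C F.n_mem) _))
    (pow_mem (T.Q_le_C F.r_mem) _)) (pow_mem F.f_C _)

theorem el_mem_Q {v : Four} (h : v 3 = 0) : F.el v ∈ T.Q := by
  simp only [el, h, ZMod.val_zero, pow_zero, mul_one]
  exact mul_mem (mul_mem (pow_mem T.hzQ _) (pow_mem F.n_mem _)) (pow_mem F.r_mem _)

theorem el_mem_Q_iff {v : Four} : F.el v ∈ T.Q ↔ v 3 = 0 := by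
  refine ⟨fun h => ?_, F.el_mem_Q⟩
  simp only [el] at h
  have hf : F.f ^ (v 3).val ∈ T.Q := (Subgroup.mul_mem_cancel_left _
    (mul_mem (mul_mem (pow_mem T.hzQ _) (pow_mem F.n_mem _)) (pow_mem F.r_mem _))).1 h
  rcases zmod3_cases (v 3) with e | e | e
  · exact e
  · rw [e] at hf; exact absurd (by simpa [ZMod.val_one] using hf) F.f_notQ
  · rw [e, show (-1 : ZMod 3).val = 2 from rfl] at hf
    refine absurd ?_ F.f_notQ
    have : F.f = (F.f ^ 2)⁻¹ := eq_inv_of_mul_eq_one_left (by rw [← pow_succ']; exact F.f_cube)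
    rw [this]; exact inv_mem hf

/-- The bar of an element of `E ∩ Q`. -/
theorem bar_el {v : Four} (h : v 3 = 0) : T.bar ⟨F.el v, F.el_mem_Q h⟩ =
    T.bar ⟨F.n, F.n_mem⟩ ^ (v 1).val * T.bar ⟨F.r, F.r_mem⟩ ^ (v 2).val := by
  have e : (⟨F.el v, F.el_mem_Q h⟩ : T.Q) =
      ⟨T.z, T.hzQ⟩ ^ (v 0).val * ((⟨F.n, F.n_mem⟩ : T.Q) ^ (v 1).val * ⟨F.r, F.r_mem⟩ ^ (v 2).val) :=
    Subtype.ext (by simp [el, h, mul_assoc])
  rw [e, Pre.bar_mul, show T.bar (⟨T.z, T.hzQ⟩ ^ (v 0).val) = 1 from T.bar_eq_one.2 (by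
    push_cast; exact pow_mem T.z_mem _), one_mul]
  rfl

theorem el_inj : Function.Injective F.el := by
  intro v w h
  have h0 : F.el (v - w) = 1 := by rw [sub_eq_add_neg, F.el_mul, F.el_neg, h, mul_inv_cancel]
  rw [← sub_eq_zero]
  set u := v - w with hu
  have h3 : u 3 = 0 := F.el_mem_Q_iff.1 (h0 ▸ one_mem _)
  have hb := F.bar_el h3
  rw [show T.bar ⟨F.el u, F.el_mem_Q h3⟩ = 1 from T.bar_eq_one.2 (h0 ▸ one_mem _ : F.el u ∈ T.toPre.Z)] at hb
  have hn : T.bar ⟨F.n, F.n_mem⟩ ^ (u 1).val ∈ T.minus :=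
    pow_mem ((F.ht.minus_iff F.n_mem).2 F.comps.hn1) _
  have hr : T.bar ⟨F.r, F.r_mem⟩ ^ (u 2).val ∈ T.plus := pow_mem ((F.ht.plus_iff F.r_mem).2 F.comps.cent) _
  have hn1 := T.plus_minus (by rw [eq_inv_of_mul_eq_one_left hb.symm]; exact inv_mem hr) hn
  rw [hn1, one_mul] at hb
  have key : ∀ (x : T.V), x ≠ 1 → ∀ a : ZMod 3, x ^ a.val = 1 → a = 0 := fun x hx a ha => by
    rcases zmod3_cases a with e | e | e
    · exact e
    · rw [e] at ha; exact absurd (by simpa [ZMod.val_one] using ha) hx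
    · rw [e, show (-1 : ZMod 3).val = 2 from rfl, pow_two] at ha; exact absurd (T.sq_inj ha) hx
  have e1 := key _ (fun e => F.n_notZ (T.bar_eq_one.1 e)) _ hn1
  have e2 := key _ (fun e => F.r_notZ (T.bar_eq_one.1 e)) _ hb.symm
  have e0 : u 0 = 0 := by
    have := h0
    simp only [el, e1, e2, h3, ZMod.val_zero, pow_zero, mul_one] at this
    rcases zmod3_cases (u 0) with e | e | e
    · exact e
    · rw [e] at this; exact absurd (by simpa [ZMod.val_one] using this) T.z_ne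
    · rw [e, show (-1 : ZMod 3).val = 2 from rfl, pow_two] at this
      have h3' := T.cube_iff T.hzQ
      rw [this, one_mul] at h3'
      exact absurd h3' T.z_ne
  funext i
  fin_cases i <;> assumption

theorem card_E : Nat.card F.E = 81 := by
  have hi : Function.Injective F.hom := fun v w h => Multiplicative.toAdd.injective (F.el_inj h)
  rw [E, ← Nat.card_congr (MonoidHom.ofInjective hi).toEquiv, Nat.card_congr Multiplicative.toAdd,
    Nat.card_fun, Nat.card_zmod, Nat.card_fin]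
  norm_num

/-- `E ∩ Q` is the centraliser of `n, r` in `Q`. -/
theorem mem_E_of_Q {w : G} (hw : w ∈ T.Q) (hn : w * F.n = F.n * w) (hr : w * F.r = F.r * w) : w ∈ F.E := by
  obtain ⟨a, b, hab⟩ := Q_cent F.ht F.hg F.comps hw hn hr
  rw [show w = F.n ^ a * F.r ^ b * ((F.n ^ a * F.r ^ b)⁻¹ * w) by group]
  refine mul_mem (mul_mem (Subgroup.zpow_mem _ (F.el_n ▸ F.el_mem _) _)
    (Subgroup.zpow_mem _ (F.el_r ▸ F.el_mem _) _)) ?_
  obtain ⟨i, hi⟩ := Subgroup.mem_zpowers_iff.1 hab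
  rw [← hi]
  exact Subgroup.zpow_mem _ (F.el_z ▸ F.el_mem _) _

theorem act_f_n : T.act (T.ρ ⟨F.f, F.f_C⟩) (T.bar ⟨F.n, F.n_mem⟩) = T.bar ⟨F.n, F.n_mem⟩ := by
  rw [T.act_bar (T.η_cube (n := 1) (Subtype.ext (by simpa using F.f_cube)))]
  refine congrArg T.bar (Subtype.ext ?_)
  show F.f * F.n * F.f⁻¹ = F.n
  rw [F.f_n, mul_inv_cancel_right]

theorem ρ_f_ne : T.ρ ⟨F.f, F.f_C⟩ ≠ 1 := fun h =>
  F.f_notQ ((T.ρker ⟨F.f, F.f_C⟩).1 ⟨h, T.η_cube (n := 1) (Subtype.ext (by simpa using F.f_cube))⟩)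

/-- The elements of `O^2(C)` centralising `n` and `r` form `E`. -/
theorem mem_E_of_C {c : T.C} (hη : T.η c = 1) (hn : (c : G) * F.n = F.n * c) (hr : (c : G) * F.r = F.r * c) :
    (c : G) ∈ F.E := by
  classical
  set nb := T.bar ⟨F.n, F.n_mem⟩ with hnb
  let St : Subgroup SL2 :=
    { carrier := {γ | T.act γ nb = nb}
      one_mem' := T.act_one nb
      mul_mem' := fun {a b} ha hb => by show T.act (a * b) nb = nb; rw [T.act_mul, hb, ha]
      inv_mem' := fun {a} ha => by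
        show T.act a⁻¹ nb = nb
        conv_lhs => rw [← (show T.act a nb = nb from ha)]
        rw [← T.act_mul, inv_mul_cancel, T.act_one] }
  have h3 : ∀ γ : St, γ ^ 3 = 1 := fun γ => Subtype.ext (by
    rw [Subgroup.coe_pow]
    exact T.stab_minus ((F.ht.minus_iff F.n_mem).2 F.comps.hn1) (fun e => F.n_notZ (T.bar_eq_one.1 e)) γ.2)
  haveI : Fact (Nat.Prime 3) := ⟨Nat.prime_three⟩
  have hle : Nat.card St ≤ 3 := by
    obtain ⟨k, hk⟩ := IsPGroup.iff_card.1 (show IsPGroup 3 St from fun γ => ⟨1, by rw [pow_one]; exact h3 γ⟩)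
    have hd24 : Nat.card St ∣ 24 := by
      have h := Subgroup.card_subgroup_dvd_card St
      rwa [Nat.card_eq_fintype_card (α := SL2), show Fintype.card SL2 = 24 by decide +kernel] at h
    rw [hk] at hd24 ⊢
    have : (3 : ℕ) ^ k ∣ 3 :=
      (Nat.Coprime.pow_left k (by norm_num : Nat.Coprime 3 8)).dvd_of_dvd_mul_right (by norm_num; exact hd24)
    exact Nat.le_of_dvd (by norm_num) this
  have hc : T.ρ c ∈ St := by
    show T.act (T.ρ c) nb = nb
    rw [hnb, T.act_bar hη]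
    refine congrArg T.bar (Subtype.ext ?_)
    show (c : G) * F.n * (c : G)⁻¹ = F.n
    rw [hn, mul_inv_cancel_right]
  let γf : St := ⟨_, F.act_f_n⟩
  have hord : orderOf γf = 3 := orderOf_eq_prime (h3 γf) fun e => F.ρ_f_ne (congrArg Subtype.val e)
  have htop : Subgroup.zpowers γf = ⊤ :=
    Subgroup.eq_top_of_le_card _ (by rw [Nat.card_zpowers, hord]; exact hle)
  obtain ⟨i, hi⟩ := Subgroup.mem_zpowers_iff.1 (htop.symm ▸ Subgroup.mem_top (⟨T.ρ c, hc⟩ : St))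
  have hi' : T.ρ (⟨F.f, F.f_C⟩ ^ i) = T.ρ c := by
    rw [map_zpow]
    exact congrArg Subtype.val hi
  let d : T.C := (⟨F.f, F.f_C⟩ ^ i)⁻¹ * c
  have hdQ : (d : G) ∈ T.Q := (T.ρker d).1 ⟨by rw [map_mul, map_inv, hi', inv_mul_cancel], by
    rw [map_mul, map_inv, map_zpow, T.η_cube (n := 1) (Subtype.ext (by simpa using F.f_cube) : _ = (1 : T.C)), hη]
    simp⟩
  have hdeq : (d : G) = (F.f ^ i)⁻¹ * c := by simp [d]
  have hdn : Commute (d : G) F.n := by
    rw [hdeq]; exact (((show Commute F.f F.n from F.f_n).zpow_left i).inv_left).mul_left hn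
  have hdr : Commute (d : G) F.r := by
    rw [hdeq]; exact (((show Commute F.f F.r from F.f_r).zpow_left i).inv_left).mul_left hr
  rw [show (c : G) = F.f ^ i * d by rw [hdeq]; group]
  exact mul_mem (Subgroup.zpow_mem _ (F.el_f ▸ F.el_mem _) _) (F.mem_E_of_Q hdQ hdn.eq hdr.eq)

end Frame

end Loc

end Cfsg.Agent.Spor.OmegaEightThree
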