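import Cfsg.Agent.Lib.Spor.OmegaEightThree.XConf
import Cfsg.Agent.Lib.Spor.OmegaEightThree.X.Glue
import Cfsg.Agent.Lib.Fusion.Cores
import Cfsg.Agent.S3345

/-!
The recognition when `C/Q ≅ SL(2,3)`: the subgroup of index three is `Ω⁺₈(2)`.
-/

set_option autoImplicit false
set_option linter.unusedSectionVars false
set_option linter.style.haveILetI false
set_option maxHeartbeats 1000000
set_option maxRecDepth 100000

namespace Cfsg.Agent.Spor.OmegaEightThree

open X (Vec wt mono dot)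
open Subgroup (centralizer normalizer)

theorem dot_sep : ∀ v : Vec, (∀ h : Vec, wt h = 3 → dot h v = 0) → v = 0 := by decide +kernel

theorem dot_moved : ∀ h : Vec, wt h = 3 → ∃ v : Vec, dot h v ≠ 0 := by decide +kernel

namespace Loc

namespace Level

variable {G : Type*} [Group G] [Finite G] {T : Loc G} (L : Level T)

/-- The subgroup generated by the elements of odd order of the subgroup of index three. -/
def Od : Subgroup G := Subgroup.closure {g : G | L.φ g = 1 ∧ Nat.Coprime (orderOf g) 2}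

instance Od_normal : L.Od.Normal where
  conj_mem x hx g := by
    have h : L.Od.map (MulAut.conj g).toMonoidHom ≤ L.Od := by
      rw [Od, MonoidHom.map_closure, Subgroup.closure_le]
      rintro _ ⟨y, ⟨h1, h2⟩, rfl⟩
      refine Subgroup.subset_closure ⟨?_, ?_⟩
      · show L.φ (g * y * g⁻¹) = 1
        rw [map_mul, map_mul, map_inv, h1, mul_one, mul_inv_cancel]
      · rwa [orderOf_injective (MulAut.conj g).toMonoidHom (MulAut.conj g).injective y]
    exact h ⟨x, hx, rfl⟩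

theorem el_Od (v : Four) : L.F.el v ∈ L.Od :=
  Subgroup.subset_closure ⟨L.φE v, (by norm_num : Nat.Coprime 3 2).coprime_dvd_left
    (orderOf_dvd_of_pow_eq_one (L.F.el_cube v))⟩

theorem t_ne' : L.F.t ≠ 1 := fun e => L.conf.t_ne (L.val_inj (e.trans (map_one _).symm))

theorem R_Od {h : Vec} (hh : wt h = 3) : L.R h ≤ L.Od := by
  classical
  obtain ⟨v, hv⟩ := dot_moved h hh
  set D : Subgroup G := L.R h ⊓ L.Od with hD
  have hcom : ∀ x ∈ L.R h, L.F.ea v * x * (L.F.ea v)⁻¹ * x⁻¹ ∈ D := fun x hx => by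
    refine Subgroup.mem_inf.2 ⟨mul_mem (L.R_norm v hh hx) (inv_mem hx), ?_⟩
    rw [show L.F.ea v * x * (L.F.ea v)⁻¹ * x⁻¹ = L.F.ea v * (x * (L.F.ea v)⁻¹ * x⁻¹) by group]
    exact mul_mem (L.el_Od _) (L.Od_normal.conj_mem _ (inv_mem (L.el_Od _ : L.F.ea v ∈ L.Od)) x)
  have hDn : ∀ y ∈ D, L.F.ea v * y * (L.F.ea v)⁻¹ ∈ D := fun y hy =>
    ⟨L.R_norm v hh hy.1, L.Od_normal.conj_mem _ hy.2 _⟩
  have htne : L.F.t ≠ 1 := L.t_ne'
  -- an element of order four
  obtain ⟨x, hx, hx1, hxt⟩ : ∃ x ∈ L.R h, x ≠ 1 ∧ x ≠ L.F.t := by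
    by_contra hc
    push Not at hc
    have : Nat.card (L.R h) ≤ Nat.card (Subgroup.zpowers L.F.t) := by
      refine Subgroup.card_le_of_le fun x hx => ?_
      by_cases e : x = 1
      · rw [e]; exact one_mem _
      · rw [hc x hx e]; exact Subgroup.mem_zpowers _
    rw [L.card_R hh, Nat.card_zpowers, orderOf_eq_prime (by rw [pow_two, L.F.ht.sq]) htne] at this
    omega
  set y := L.F.ea v * x * (L.F.ea v)⁻¹ * x⁻¹ with hy
  have hy1 : y ≠ 1 := fun e => (L.R_move hh hv hx (mul_inv_eq_iff_eq_mul.1 (mul_inv_eq_one.1 e))).elim hx1 hxt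
  have hyt : y ≠ L.F.t := by
    intro e
    have e1 : L.F.ea v * x * (L.F.ea v)⁻¹ = L.F.t * x := by rw [← e, hy, inv_mul_cancel_right]
    have hta : Commute (L.F.ea v) L.F.t := (Frame.ea_comm_t v).symm
    have e2 : L.F.ea v ^ 2 * x * (L.F.ea v ^ 2)⁻¹ = x := by
      rw [pow_two, show L.F.ea v * L.F.ea v * x * (L.F.ea v * L.F.ea v)⁻¹ =
        L.F.ea v * (L.F.ea v * x * (L.F.ea v)⁻¹) * (L.F.ea v)⁻¹ by group, e1, ← mul_assoc, hta.eq,
        show L.F.t * L.F.ea v * x * (L.F.ea v)⁻¹ = L.F.t * (L.F.ea v * x * (L.F.ea v)⁻¹) by group, e1, ← mul_assoc,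
        L.F.ht.sq, one_mul]
    have e3 : L.F.ea v * x * (L.F.ea v)⁻¹ = x := by
      have e4 : L.F.ea v = (L.F.ea v ^ 2)⁻¹ := eq_inv_of_mul_eq_one_left (by rw [← pow_succ']; exact L.F.el_cube _)
      conv_lhs => rw [e4, inv_inv]
      conv_lhs => arg 1; arg 2; rw [← e2]
      group
    exact htne (right_eq_mul.1 (e3.symm.trans e1))
  have hyR : y ∈ L.R h := (hcom x hx).1
  have hy2 := L.R_involution hh hyR hy1 hyt
  -- the subgroup is everything
  have hdvd : Nat.card D ∣ 2 ^ 3 := by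
    rw [show (2 : ℕ) ^ 3 = 8 from rfl, ← L.card_R hh]
    exact Subgroup.card_dvd_of_le inf_le_left
  have hy4 : orderOf y = 4 := by
    haveI : Fact (Nat.Prime 2) := ⟨Nat.prime_two⟩
    refine orderOf_eq_prime_pow (p := 2) (n := 1) ?_ ?_
    · rw [pow_one, pow_two, hy2]; exact htne
    · rw [show 2 ^ (1 + 1) = 2 * 2 from rfl, pow_mul, pow_two y, hy2, pow_two, L.F.ht.sq]
  have h4 : 4 ≤ Nat.card D := by
    have := Subgroup.card_le_of_le (Subgroup.zpowers_le.2 (hcom x hx))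
    rwa [Nat.card_zpowers, hy4] at this
  have h8 : Nat.card D = 8 := by
    obtain ⟨k, hk, e⟩ := (Nat.dvd_prime_pow Nat.prime_two).1 hdvd
    rcases (show k = 0 ∨ k = 1 ∨ k = 2 ∨ k = 3 by omega) with rfl | rfl | rfl | rfl
    · omega
    · omega
    · exfalso
      have hzp : Subgroup.zpowers y = D := Subgroup.eq_of_le_of_card_ge (Subgroup.zpowers_le.2 (hcom x hx))
        (by rw [Nat.card_zpowers, hy4, e]; norm_num)
      have hmem := hDn y (hcom x hx)
      rw [← hzp, Subgroup.mem_zpowers_iff] at hmem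
      obtain ⟨i, hi⟩ := hmem
      have hi' : y ^ i = 1 ∨ y ^ i = y ∨ y ^ i = L.F.t ∨ y ^ i = L.F.t * y := by
        obtain ⟨j, hj⟩ := Int.eq_ofNat_of_zero_le (Int.emod_nonneg i (show (4 : ℤ) ≠ 0 by norm_num))
        rw [← zpow_mod_orderOf, hy4]
        have : j < 4 := by
          have := Int.emod_lt_of_pos i (show (0 : ℤ) < 4 by norm_num)
          omega
        rw [show ((4 : ℕ) : ℤ) = 4 from rfl, hj, zpow_natCast]
        interval_cases j <;> simp [pow_succ, hy2]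
      rw [hi] at hi'
      rcases hi' with c | c | c | c
      · exact hy1 (conj_eq_one_iff.1 c)
      · exact (L.R_move hh hv hyR (mul_inv_eq_iff_eq_mul.1 c)).elim hy1 hyt
      · refine hyt ?_
        rw [← mul_right_inj (L.F.ea v), ← mul_left_inj (L.F.ea v)⁻¹, c, (Frame.ea_comm_t v).symm, mul_inv_cancel_right]
      · have hta : Commute (L.F.ea v) L.F.t := (Frame.ea_comm_t v).symm
        have e2 : L.F.ea v ^ 2 * y * (L.F.ea v ^ 2)⁻¹ = y := by
          rw [pow_two, show L.F.ea v * L.F.ea v * y * (L.F.ea v * L.F.ea v)⁻¹ =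
            L.F.ea v * (L.F.ea v * y * (L.F.ea v)⁻¹) * (L.F.ea v)⁻¹ by group, c, ← mul_assoc, hta.eq,
            show L.F.t * L.F.ea v * y * (L.F.ea v)⁻¹ = L.F.t * (L.F.ea v * y * (L.F.ea v)⁻¹) by group, c, ← mul_assoc,
            L.F.ht.sq, one_mul]
        have e4 : L.F.ea v = (L.F.ea v ^ 2)⁻¹ := eq_inv_of_mul_eq_one_left (by rw [← pow_succ']; exact L.F.el_cube _)
        have e3 : L.F.ea v * y * (L.F.ea v)⁻¹ = y := by
          conv_lhs => rw [e4, inv_inv]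
          conv_lhs => arg 1; arg 2; rw [← e2]
          group
        exact (L.R_move hh hv hyR (mul_inv_eq_iff_eq_mul.1 e3)).elim hy1 hyt
    · rw [e]; norm_num
  have : D = L.R h := Subgroup.eq_of_le_of_card_ge inf_le_left (by rw [L.card_R hh, h8])
  exact this ▸ inf_le_right

theorem t_Od : L.F.t ∈ L.Od := L.R_Od dot_vr.2.2.1 (L.t_mem dot_vr.2.2.1)

theorem flip_Od (i : Fin 3) (u : (ZMod 3)ˣ) :
    ∃ k ∈ L.Od, k * L.F.t = L.F.t * k ∧ L.F.ActA k (mono 1 fun j => if j = i then u else 1) := by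
  rcases unit_cases u with rfl | rfl
  · refine ⟨1, one_mem _, by simp, fun v => ?_⟩
    rw [mono_one v _ fun j => by split <;> rfl]
    simp
  · obtain ⟨a, ha⟩ := L.hF.exists_refl (pts_facts i).1
    obtain ⟨g, hg⟩ := ha.conj
    refine ⟨a, hg ▸ L.Od_normal.conj_mem _ L.t_Od g,
      (L.hF.refl_commute L.F.t_refl ha (pts_facts i).2.2.1 (pts_facts i).2.1).symm, fun v => ?_⟩
    show a * L.F.el (ePt v) * a⁻¹ = _
    rw [ha.act, refl_ePt]
    rfl

theorem XC_Od (x : L.XC) : L.val x ∈ L.Od := by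
  have hle : (⊤ : Subgroup L.XC) ≤ L.Od.comap L.val := by
    rw [← X.Conf.top L.conf]
    refine sup_le (iSup₂_le fun h hh x hx => L.R_Od hh hx) fun k hk => ?_
    obtain ⟨ε, hε, -⟩ := L.conf.auto k hk
    obtain ⟨a, ha, hat, haA⟩ := L.flip_Od 0 (ε 0)
    obtain ⟨b, hb, hbt, hbA⟩ := L.flip_Od 1 (ε 1)
    obtain ⟨c, hc, hct, hcA⟩ := L.flip_Od 2 (ε 2)
    have hwA : L.F.ActA (a * (b * c)) (mono 1 ε) := fun v => by
      rw [(haA.mul (hbA.mul hcA)) v]
      simp only [Function.comp_apply, sign_prod]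
    have hwt : Commute (a * (b * c)) L.F.t :=
      (show Commute a L.F.t from hat).mul_left ((show Commute b L.F.t from hbt).mul_left hct)
    have hw : a * (b * c) ∈ L.Od := mul_mem ha (mul_mem hb hc)
    obtain ⟨v, hv⟩ := L.cent_axis (g := (a * (b * c))⁻¹ * L.val k)
      (hwt.inv_left.mul_left (L.val_comm k)).eq fun v => by
      have h1 : L.val k * L.F.ea v * (L.val k)⁻¹ = L.F.ea (mono 1 ε v) := by
        have := congrArg L.val (hε v)
        rwa [map_mul, map_mul, map_inv] at this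
      refine mul_inv_eq_iff_eq_mul.1 ?_
      rw [show (a * (b * c))⁻¹ * L.val k * L.F.ea v * ((a * (b * c))⁻¹ * L.val k)⁻¹ =
        (a * (b * c))⁻¹ * (L.val k * L.F.ea v * (L.val k)⁻¹) * (a * (b * c)) by group, h1, ← hwA]
      group
    show L.val k ∈ L.Od
    rw [← mul_inv_cancel_left (a * (b * c)) (L.val k)]
    refine mul_mem hw ?_
    rcases hv with e | e <;> rw [e]
    · exact L.el_Od _
    · exact mul_mem (L.el_Od _) L.t_Od
  exact hle (Subgroup.mem_top x)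

theorem Od_le_residual {g : L.Hs} (hg : (g : G) ∈ L.Od) : g ∈ Cfsg.pResidual 2 L.Hs := by
  have hle : L.Od ≤ (Cfsg.pResidual 2 L.Hs).map L.Hs.subtype := by
    rw [Od, Subgroup.closure_le]
    rintro x ⟨h1, h2⟩
    refine ⟨⟨x, h1⟩, Subgroup.subset_closure ?_, rfl⟩
    show Nat.Coprime (orderOf (⟨x, h1⟩ : L.Hs)) 2
    rwa [← Subgroup.orderOf_coe]
  obtain ⟨y, hy, e⟩ := hle hg
  rwa [show y = g from Subtype.ext e] at hy

theorem residual_top : Cfsg.pResidual 2 L.Hs = ⊤ := by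
  classical
  haveI : Fact (Nat.Prime 2) := ⟨Nat.prime_two⟩
  have hY : IsPGroup 2 L.conf.Y := IsPGroup.of_card (n := 9) (by rw [X.Conf.card_Y]; norm_num)
  obtain ⟨P₀, hP₀⟩ := hY.exists_le_sylow
  obtain ⟨P, hP⟩ := ((P₀.isPGroup').map L.XC.subtype).exists_le_sylow
  have hPX : (P : Subgroup L.Hs) ≤ L.XC := by
    set S₀ : Subgroup L.Hs := (P₀ : Subgroup L.XC).map L.XC.subtype with hS₀
    suffices h : (P : Subgroup L.Hs) ≤ S₀ from h.trans (Subgroup.map_subtype_le _)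
    by_contra hne
    haveI : Group.IsNilpotent P := P.isPGroup'.isNilpotent
    have hlt : S₀.subgroupOf P < ⊤ := lt_top_iff_ne_top.2 fun e => hne (Subgroup.subgroupOf_eq_top.1 e)
    obtain ⟨g, hg, hgn⟩ := SetLike.exists_of_lt (Group.normalizerCondition_of_isNilpotent _ hlt)
    have hnorm : ∀ s ∈ S₀, (g : L.Hs) * s * (g : L.Hs)⁻¹ ∈ S₀ := fun s hs => by
      have := (Subgroup.mem_normalizer_iff.1 hg ⟨s, hP hs⟩).1 hs
      exact this
    have hnorm' : ∀ s ∈ S₀, (g : L.Hs)⁻¹ * s * g ∈ S₀ := fun s hs => by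
      have := Subgroup.mem_subgroupOf.1 ((Subgroup.mem_normalizer_iff.1 (inv_mem hg) ⟨s, hP hs⟩).1 hs)
      simpa using this
    -- the centre is `⟨t⟩`
    have hcentre : ∀ s ∈ S₀, (∀ u ∈ S₀, s * u = u * s) → s = 1 ∨ s = L.tH := by
      rintro _ ⟨s, hs, rfl⟩ hc
      have h1 : s ∈ centralizer (L.conf.Y : Set L.XC) := Subgroup.mem_centralizer_iff.2 fun u hu =>
        (Subtype.ext (hc _ ⟨u, hP₀ hu, rfl⟩) : s * u = u * s).symm
      rw [X.Conf.cent_Y] at h1
      rcases (X.Conf.mem_Z L.conf).1 h1 with e | e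
      · exact Or.inl (by rw [e]; rfl)
      · exact Or.inr (by rw [e]; rfl)
    have htS : L.tH ∈ S₀ :=
      ⟨L.conf.t, hP₀ (le_iSup₂ (f := fun (h : Vec) (_ : wt h = 3) => L.conf.R h) vz dot_vr.2.2.1
        (L.conf.t_mem vz dot_vr.2.2.1)), rfl⟩
    have hgt : (g : L.Hs) * L.tH * (g : L.Hs)⁻¹ = L.tH := by
      refine (hcentre _ (hnorm _ htS) fun u hu => ?_).resolve_left fun e => ?_
      · have hu' := hnorm' u hu
        obtain ⟨u₀, -, hu₀⟩ := hu'
        have hc : Commute L.tH ((g : L.Hs)⁻¹ * u * g) :=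
          hu₀ ▸ (Subgroup.mem_centralizer_singleton_iff.1 u₀.2).symm
        have h2 := (Commute.conj_iff (g : L.Hs)).2 hc
        rwa [show (g : L.Hs) * ((g : L.Hs)⁻¹ * u * g) * (g : L.Hs)⁻¹ = u by group] at h2
      · exact L.conf.t_ne (Subtype.ext (conj_eq_one_iff.1 e))
    have hgX : (g : L.Hs) ∈ L.XC :=
      Subgroup.mem_centralizer_singleton_iff.2 (mul_inv_eq_iff_eq_mul.1 hgt)
    have heq : (P : Subgroup L.Hs).comap L.XC.subtype = P₀ :=
      P₀.is_maximal' (P.isPGroup'.comap_of_injective _ L.XC.subtype_injective)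
        fun s hs => hP ⟨s, hs, rfl⟩
    exact hgn ⟨⟨g, hgX⟩, heq ▸ g.2, rfl⟩
  have hle : (P : Subgroup L.Hs) ≤ Cfsg.pResidual 2 L.Hs := fun x hx =>
    L.Od_le_residual (L.XC_Od ⟨x, hPX hx⟩)
  haveI : (Cfsg.pResidual 2 L.Hs).Normal := Subgroup.Normal.mk fun x hx g => by
    have h : (Cfsg.pResidual 2 L.Hs).map (MulAut.conj g).toMonoidHom ≤ Cfsg.pResidual 2 L.Hs := by
      rw [Cfsg.pResidual, MonoidHom.map_closure, Subgroup.closure_le]
      rintro _ ⟨y, hy, rfl⟩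
      refine Subgroup.subset_closure ?_
      show Nat.Coprime (orderOf _) 2
      rw [orderOf_injective (MulAut.conj g).toMonoidHom (MulAut.conj g).injective y]
      exact hy
    exact h ⟨x, hx, rfl⟩
  rw [← Subgroup.index_eq_one]
  obtain ⟨k, hk⟩ := IsPGroup.iff_card.1 (Fusion.isPGroup_quotient_pResidual (p := 2) (G := L.Hs))
  rw [← Subgroup.index_eq_card] at hk
  rcases Nat.eq_zero_or_pos k with rfl | hk0
  · rw [hk, pow_zero]
  · exact absurd ((dvd_pow_self 2 hk0.ne').trans (hk ▸ Subgroup.index_dvd_of_le hle)) P.not_dvd_index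

theorem not_central : ¬ ∀ g : L.Hs, g * L.tH * g⁻¹ * L.tH⁻¹ ∈ Cfsg.oddCore L.Hs := by
  intro hall
  have hodd : (Nat.card (Cfsg.pPrimeCore 2 L.Hs)).Coprime 2 := Fusion.card_pPrimeCore_coprime 2 L.Hs
  haveI hnD : (Cfsg.pPrimeCore 2 L.Hs).Normal := inferInstance
  have hone : ∀ d : L.XC, (d : L.Hs) ∈ Cfsg.pPrimeCore 2 L.Hs → d = 1 := by
    intro d hd
    have hord : (orderOf d).Coprime 2 := by
      rw [← Subgroup.orderOf_coe]
      exact hodd.coprime_dvd_left (Subgroup.orderOf_dvd_natCard _ hd)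
    have hc : d ∈ centralizer (L.conf.Y : Set L.XC) := by
      refine Subgroup.mem_centralizer_iff.2 fun y hy => ?_
      have h1 : ((d * y * d⁻¹ * y⁻¹ : L.XC) : L.Hs) ∈ Cfsg.pPrimeCore 2 L.Hs := by
        push_cast
        rw [show (d : L.Hs) * y * (d : L.Hs)⁻¹ * (y : L.Hs)⁻¹ = d * (y * (d : L.Hs)⁻¹ * (y : L.Hs)⁻¹) by group]
        exact mul_mem hd (hnD.conj_mem _ (inv_mem hd) _)
      have h2 : d * y * d⁻¹ * y⁻¹ ∈ L.conf.Y :=
        mul_mem ((X.Conf.normal_Y L.conf).conj_mem y hy d) (inv_mem hy)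
      have e1 := Subgroup.orderOf_dvd_natCard _ h1
      rw [Subgroup.orderOf_coe] at e1
      have e2 := Subgroup.orderOf_dvd_natCard _ h2
      rw [X.Conf.card_Y, show 512 = 2 ^ 9 from rfl] at e2
      have e3 := Nat.dvd_gcd e1 e2
      rw [(hodd.pow_right 9).gcd_eq_one, Nat.dvd_one, orderOf_eq_one_iff] at e3
      exact (mul_inv_eq_iff_eq_mul.1 (mul_inv_eq_one.1 e3)).symm
    rw [X.Conf.cent_Y] at hc
    rcases (X.Conf.mem_Z L.conf).1 hc with e | e
    · exact e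
    · exfalso
      haveI : Fact (Nat.Prime 2) := ⟨Nat.prime_two⟩
      rw [e, orderOf_eq_prime (by rw [pow_two, L.conf.t_sq]) L.conf.t_ne] at hord
      norm_num at hord
  obtain ⟨q₁, hq₁, hU⟩ := L.hF.exists_U
  set ne : L.Hs := ⟨L.F.n, by rw [MonoidHom.mem_ker, ← L.F.el_n, L.φE]⟩ with hne
  set ze : L.Hs := ⟨T.z, by rw [MonoidHom.mem_ker, ← L.F.el_z, L.φE]⟩ with hze
  have hn : ne ∈ Cfsg.pPrimeCore 2 L.Hs := by
    have h2 : ne * L.tH * ne⁻¹ * L.tH⁻¹ = ne ^ 2 := Subtype.ext (by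
      show L.F.n * L.F.t * L.F.n⁻¹ * L.F.t⁻¹ = L.F.n ^ 2
      rw [show L.F.n * L.F.t * L.F.n⁻¹ * L.F.t⁻¹ = L.F.n * (L.F.t * L.F.n * L.F.t⁻¹)⁻¹ by group, L.F.t_n,
        show (![0, -1, 0, 0] : Four) = -![0, 1, 0, 0] by simp, L.F.el_neg, inv_inv, L.F.el_n, pow_two])
    have h3 : ne = (ne ^ 2) ^ 2 := Subtype.ext (by
      show L.F.n = (L.F.n ^ 2) ^ 2
      rw [← pow_mul, show 2 * 2 = 3 + 1 from rfl, pow_succ, T.exp _ L.F.n_mem, one_mul])
    rw [h3, ← h2]
    exact pow_mem (hall ne) 2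
  have hz : ze ∈ Cfsg.pPrimeCore 2 L.Hs := by
    have h1 := mul_mem (hnD.conj_mem _ hn (⟨q₁, L.φ_U hq₁ hU L.φE⟩ : L.Hs)) (inv_mem hn)
    refine (congrArg (· ∈ Cfsg.pPrimeCore 2 L.Hs) (Subtype.ext ?_ : ze = _)).mpr h1
    show T.z = q₁ * L.F.n * q₁⁻¹ * L.F.n⁻¹
    have := hU ![0, 1, 0, 0]
    rw [translate_moves.1, L.F.el_mul, L.F.el_z, L.F.el_n] at this
    rw [this, mul_inv_cancel_right]
  have := hone ⟨ze, Subgroup.mem_centralizer_singleton_iff.2 (Subtype.ext L.F.t_z.symm)⟩ hz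
  exact T.z_ne (congrArg (fun x : L.XC => ((x : L.Hs) : G)) this)

theorem cent_Hs : centralizer (L.Hs : Set G) = ⊥ := by
  rw [Subgroup.eq_bot_iff_forall]
  intro c hc
  have hcom : ∀ x, L.φ x = 1 → c * x = x * c := fun x hx => (Subgroup.mem_centralizer_iff.1 hc x hx).symm
  obtain ⟨x, rfl⟩ := L.F.mem_E_iff.1 (L.hF.cent_E fun v => hcom _ (L.φE v))
  have h := mul_inv_eq_iff_eq_mul.2 (hcom _ (L.φ_invol L.F.ht.sq)).symm
  rw [L.F.conj_t] at h
  obtain ⟨v, rfl⟩ := ePt_surj x ((show ∀ a : ZMod 3, -a = a → a = 0 by decide) _ (congrFun (L.F.el_inj h) 1))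
  suffices hv : v = 0 by
    rw [hv, show ePt 0 = 0 by simp [ePt], L.F.el_zero]
  refine dot_sep v fun h hh => ?_
  by_contra hd
  have hle : L.R h ≤ Subgroup.zpowers L.F.t := fun y hy => by
    rcases L.R_move hh hd hy (hcom y (L.φ_four ((L.mem_R hh).1 hy).2.2)) with e | e <;> rw [e]
    · exact one_mem _
    · exact Subgroup.mem_zpowers _
  have hc8 := Subgroup.card_le_of_le hle
  haveI : Fact (Nat.Prime 2) := ⟨Nat.prime_two⟩
  rw [L.card_R hh, Nat.card_zpowers,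
    orderOf_eq_prime (by rw [pow_two, L.F.ht.sq]) L.t_ne'] at hc8
  omega

include L in
/-- The recognition. -/
theorem recognition : ∃ N : Subgroup G, N.Normal ∧
    Nonempty (N ≃* Cfsg.Omega (ZMod 2) (Cfsg.quadFormPlus 4 (ZMod 2))) ∧
    centralizer (N : Set G) = ⊥ ∧ N.index = 3 := by
  haveI : Fact (Nat.Prime 3) := ⟨Nat.prime_three⟩
  haveI : Fact (Nat.Prime 2) := ⟨Nat.prime_two⟩
  obtain ⟨hex, hcard, ⟨e⟩, hcore, hcc⟩ := X.Conf.glue L.conf
  have ht : orderOf L.tH = 2 := orderOf_eq_prime (by rw [pow_two]; exact Subtype.ext L.F.ht.sq)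
    fun e => L.conf.t_ne (Subtype.ext e)
  have hcc' : centralizer (((Cfsg.pCore 2 L.XC).map L.XC.subtype : Subgroup L.Hs) : Set L.Hs) ≤
      (Cfsg.pCore 2 L.XC).map L.XC.subtype := by
    intro g hg
    have hgt : g * L.tH = L.tH * g := (Subgroup.mem_centralizer_iff.1 hg _ ⟨L.conf.t, by
      rw [hcore]
      exact le_iSup₂ (f := fun (h : Vec) (_ : wt h = 3) => L.conf.R h) vz dot_vr.2.2.1
        (L.conf.t_mem vz dot_vr.2.2.1), rfl⟩).symm
    refine ⟨⟨g, Subgroup.mem_centralizer_singleton_iff.2 hgt⟩, hcc ?_, rfl⟩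
    exact Subgroup.mem_centralizer_iff.2 fun y hy =>
      Subtype.ext (Subgroup.mem_centralizer_iff.1 hg _ ⟨y, hy, rfl⟩)
  refine ⟨L.Hs, inferInstance, (Cfsg.Agent.S3345.result L.residual_top L.tH ht L.XC rfl hex hcard e hcc').resolve_left
    L.not_central, L.cent_Hs, ?_⟩
  rw [Subgroup.index_ker]
  have hd : Nat.card L.φ.range ∣ 3 := by
    have hd := Subgroup.card_subgroup_dvd_card L.φ.range
    rwa [Nat.card_eq_fintype_card (α := Multiplicative (ZMod 3)), Fintype.card_multiplicative, ZMod.card] at hd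
  rcases (Nat.dvd_prime Nat.prime_three).1 hd with h | h
  · exact absurd (Subgroup.mem_bot.1 ((Subgroup.card_eq_one.1 h) ▸ (⟨L.q₀, rfl⟩ : L.φ L.q₀ ∈ L.φ.range))) L.hφ
  · exact h

end Level

end Loc

end Cfsg.Agent.Spor.OmegaEightThree
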