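import Cfsg.Agent.Lib.Spor.OmegaEightThree.Line

/-!
The fixed points on `Q/Z` of an element of order three of `SL₂(3)`, and the plane `⟨n, r⟩` cut out by a
`3`-element of `C ∩ Q^g`.
-/

set_option autoImplicit false
set_option linter.unusedSectionVars false
set_option maxHeartbeats 800000

namespace Cfsg.Agent.Spor.OmegaEightThree

open Cfsg.Agent.Spor.PSLFourThree (com normal_avoids_center)

local notation "SL2" => Matrix.SpecialLinearGroup (Fin 2) (ZMod 3)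

theorem sl2_cases : ∀ g : SL2, g ^ 3 = 1 ∨ g = -1 ∨ g * g = -1 ∨ g * g * g = -1 := by decide +kernel

namespace Loc

variable {G : Type*} [Group G] [Finite G] (T : Loc G)

theorem act_neg_minus {v : T.V} (hv : v ∈ T.minus) : T.act (-1) v = v⁻¹ := hv

theorem minus_faithful {γ : SL2} (h : ∀ v ∈ T.minus, T.act γ v = v) : γ = 1 := by
  by_contra hne
  let N : Subgroup SL2 :=
    { carrier := {g | ∀ v ∈ T.minus, T.act g v = v}
      one_mem' := fun v _ => T.act_one v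
      mul_mem' := fun {a b} ha hb v hv => by rw [T.act_mul, hb v hv, ha v hv]
      inv_mem' := fun {a} ha v hv => by
        conv_lhs => rw [← ha v hv]
        rw [← T.act_mul, inv_mul_cancel, T.act_one] }
  have hconj : ∀ g a, a ∈ N → g * a * g⁻¹ ∈ N := fun g a ha v hv => by
    rw [T.act_mul, T.act_mul, ha _ (T.act_minus g⁻¹ hv), ← T.act_mul, mul_inv_cancel, T.act_one]
  obtain ⟨g, hg⟩ := normal_avoids_center γ hne
  have hg' : γ⁻¹ * (g * γ * g⁻¹) ∈ N := mul_mem (inv_mem h) (hconj g γ h)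
  have hneg : (-1 : SL2) ∈ N := by
    rcases hg with e | e | e | e
    · rw [← e]; exact h
    · rw [← e]; exact mul_mem (show γ ∈ N from h) h
    · rw [← e]; exact mul_mem (mul_mem (show γ ∈ N from h) h) h
    · rw [← e]; exact mul_mem hg' hg'
  obtain ⟨⟨v, hv⟩, hv1⟩ : ∃ v : T.minus, v ≠ 1 := by
    haveI : Nontrivial T.minus := Finite.one_lt_card_iff_nontrivial.1 (by rw [T.card_minus]; norm_num)
    exact exists_ne 1
  exact hv1 (Subtype.ext (T.inv_eq_self ((T.act_neg_minus hv).symm.trans (hneg v hv))))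

theorem stab_minus {γ : SL2} {v : T.V} (hv : v ∈ T.minus) (hv1 : v ≠ 1) (h : T.act γ v = v) : γ ^ 3 = 1 := by
  have hno : ∀ δ : SL2, T.act δ v = v → δ ≠ -1 := fun δ hδ e => by
    subst e
    exact hv1 (T.inv_eq_self ((T.act_neg_minus hv).symm.trans hδ))
  rcases sl2_cases γ with e | e | e | e
  · exact e
  · exact absurd e (hno γ h)
  · exact absurd e (hno _ (by rw [T.act_mul, h, h]))
  · exact absurd e (hno _ (by rw [T.act_mul, T.act_mul, h, h, h]))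

theorem card_three_of_between {U W : Subgroup T.V} (hle : U ≤ W) (hW : Nat.card W = 9) (hU : U ≠ ⊥)
    (hne : U ≠ W) : Nat.card U = 3 := by
  obtain ⟨k, hk, hk'⟩ := (Nat.dvd_prime_pow Nat.prime_three).1
    (show Nat.card U ∣ 3 ^ 2 by rw [show (3 : ℕ) ^ 2 = 9 from rfl, ← hW]; exact Subgroup.card_dvd_of_le hle)
  interval_cases k
  · exact absurd (Subgroup.eq_bot_of_card_eq U hk') hU
  · exact hk'
  · exact absurd (Subgroup.eq_of_le_of_card_ge hle (by rw [hW, hk']; norm_num)) hne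

theorem eq_zpowers_of_card {U : Subgroup T.V} (hU : Nat.card U = 3) {v : T.V} (hv : v ∈ U) (hv1 : v ≠ 1) :
    U = Subgroup.zpowers v := by
  haveI : Fact (Nat.Prime 3) := ⟨Nat.prime_three⟩
  exact (Subgroup.eq_of_le_of_card_ge (Subgroup.zpowers_le.2 hv)
    (by rw [hU, Nat.card_zpowers, orderOf_eq_prime (T.V_cube v) hv1])).symm

variable {T} {t : G} (ht : T.toPre.IsT t)

include ht

/-- The fixed points of a `3`-element on `Q/Z`. -/
theorem fixed_plane {g : G} (hg : T.IsPair g) {n r : G} (hn : n ∈ T.Q) (hr : r ∈ T.Q)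
    (he : g * T.z * g⁻¹ = n * r) (hn1 : t * n * t⁻¹ * n ∈ T.Z) (hr0 : t * r = r * t) {γ : SL2}
    (hγ : γ ^ 3 = 1) (hγ1 : γ ≠ 1) (hγn : T.act γ (T.bar ⟨n, hn⟩) = T.bar ⟨n, hn⟩) {v : T.V}
    (hv : T.act γ v = v) :
    v ∈ Subgroup.zpowers (T.bar ⟨r, hr⟩) ⊔ Subgroup.zpowers (T.bar ⟨n, hn⟩) := by
  obtain ⟨hnZ, hrZ, hline, δ, hδ3, w, hw, hδw⟩ := pair_comp ht hg hn hr he hn1 hr0
  obtain ⟨⟨⟨p, hp⟩, ⟨m, hm⟩⟩, rfl⟩ := T.splitEquiv.surjective v
  have hv' : T.act γ p * T.act γ m = p * m := by rw [← map_mul]; exact hv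
  have e : p⁻¹ * T.act γ p = m * (T.act γ m)⁻¹ := by
    rw [inv_mul_eq_iff_eq_mul, ← mul_assoc, ← hv', mul_inv_cancel_right]
  have h1 := T.plus_minus (mul_mem (inv_mem hp) (T.act_plus γ hp))
    (e ▸ mul_mem hm (inv_mem (T.act_minus γ hm)))
  have hpfix : T.act γ p = p := (inv_mul_eq_one.1 h1).symm
  have hmfix : T.act γ m = m := (mul_inv_eq_one.1 (e ▸ h1)).symm
  have hnm : T.bar ⟨n, hn⟩ ∈ T.minus := (ht.minus_iff hn).2 hn1
  refine Subgroup.mul_mem _ (Subgroup.mem_sup_left ?_) (Subgroup.mem_sup_right ?_)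
  · have hL : Nat.card T.line = 3 := by
      refine T.card_three_of_between (fun x hx => hx.1) T.card_plus ?_ ?_
      · intro h0
        exact hrZ (T.bar_eq_one.1 (Subgroup.mem_bot.1 (h0 ▸ hline)))
      · intro h0
        exact hδw (((h0.symm ▸ hw : w ∈ T.line)).2 δ)
    rw [← T.eq_zpowers_of_card hL hline (fun h => hrZ (T.bar_eq_one.1 h))]
    exact ⟨hp, T.act_of_three hγ hγ1 hp hpfix⟩
  · let F : Subgroup T.V :=
      { carrier := {x | x ∈ T.minus ∧ T.act γ x = x}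
        one_mem' := ⟨one_mem _, map_one _⟩
        mul_mem' := fun {a b} ha hb => ⟨mul_mem ha.1 hb.1, by rw [map_mul, ha.2, hb.2]⟩
        inv_mem' := fun {a} ha => ⟨inv_mem ha.1, by rw [map_inv, ha.2]⟩ }
    have hF : Nat.card F = 3 := by
      refine T.card_three_of_between (fun x hx => hx.1) T.card_minus ?_ ?_
      · intro h0
        have hmem : T.bar ⟨n, hn⟩ ∈ F := ⟨hnm, hγn⟩
        rw [h0] at hmem
        exact hnZ (T.bar_eq_one.1 (Subgroup.mem_bot.1 hmem))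
      · intro h0
        exact hγ1 (T.minus_faithful fun x hx => (h0.symm ▸ hx : x ∈ F).2)
    rw [← T.eq_zpowers_of_card hF (⟨hnm, hγn⟩ : _ ∈ F) (fun h => hnZ (T.bar_eq_one.1 h))]
    exact ⟨hm, hmfix⟩

/-- The components of a conjugate of `z` are fixed by the `3`-elements fixing it. -/
theorem comps_fixed {g : G} (hg : T.IsPair g) {n r : G} (hn : n ∈ T.Q) (hr : r ∈ T.Q)
    (he : g * T.z * g⁻¹ = n * r) (hn1 : t * n * t⁻¹ * n ∈ T.Z) (hr0 : t * r = r * t) {γ : SL2}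
    (hγ : T.act γ (T.bar ⟨_, hg.1⟩) = T.bar ⟨_, hg.1⟩) :
    T.act γ (T.bar ⟨n, hn⟩) = T.bar ⟨n, hn⟩ := by
  obtain ⟨hnZ, hrZ, hline, -⟩ := pair_comp ht hg hn hr he hn1 hr0
  have hy : T.bar ⟨_, hg.1⟩ = T.bar ⟨n, hn⟩ * T.bar ⟨r, hr⟩ := by
    rw [← Pre.bar_mul]; exact congrArg T.bar (Subtype.ext he)
  rw [hy, map_mul, hline.2 γ] at hγ
  exact mul_right_cancel hγ

/-- An element of `Q^g` commuting with `n` falls into the plane of the back pair. -/
theorem back_plane {g : G} (hg : T.IsPair g) {n r : G} (hn : n ∈ T.Q) (hr : r ∈ T.Q)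
    (he : g * T.z * g⁻¹ = n * r) (hn1 : t * n * t⁻¹ * n ∈ T.Z) (hr0 : t * r = r * t)
    (hnD : n ∉ T.Qc g) {n' r' : G} (hn' : n' ∈ T.Q) (hr' : r' ∈ T.Q) (he' : g⁻¹ * T.z * g⁻¹⁻¹ = n' * r')
    (hn1' : t * n' * t⁻¹ * n' ∈ T.Z) (hr0' : t * r' = r' * t) {u : G} (hu : u ∈ T.Qc g)
    (hun : com n u = 1) :
    T.bar ⟨g⁻¹ * u * g, T.mem_Qc.1 hu⟩ ∈
      Subgroup.zpowers (T.bar ⟨r', hr'⟩) ⊔ Subgroup.zpowers (T.bar ⟨n', hn'⟩) := by
  have hg' := (T.basic hg).2.1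
  have hny : n * (g * T.z * g⁻¹) = g * T.z * g⁻¹ * n := by
    rw [← Pre.com_eq_one_iff, he, T.com_mul_right hn hn hr, Pre.com_self, one_mul, ht.com_parts hn hr hn1 hr0]
  have hxC : g⁻¹ * n * g ∈ T.C := T.mem_C.2 (by
    calc g⁻¹ * n * g * T.z = g⁻¹ * (n * (g * T.z * g⁻¹)) * g := by group
      _ = g⁻¹ * (g * T.z * g⁻¹ * n) * g := by rw [hny]
      _ = T.z * (g⁻¹ * n * g) := by group)
  let x : T.C := ⟨g⁻¹ * n * g, hxC⟩
  have hx3 : x ^ 3 = 1 := Subtype.ext (by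
    rw [Subgroup.coe_pow]
    show (g⁻¹ * n * g) ^ 3 = 1
    calc (g⁻¹ * n * g) ^ 3 = g⁻¹ * n ^ 3 * g := by simp [pow_succ, mul_assoc]
      _ = 1 := by rw [T.exp n hn]; group)
  have hη : T.η x = 1 := T.η_cube (n := 1) (by rw [pow_one]; exact hx3)
  have hρ : T.ρ x ≠ 1 := fun h => hnD (T.mem_Qc.2 ((T.ρker x).1 ⟨h, hη⟩))
  have hfix : ∀ (w : G) (hw : g⁻¹ * w * g ∈ T.Q), n * w = w * n →
      T.act (T.ρ x) (T.bar ⟨_, hw⟩) = T.bar ⟨_, hw⟩ := fun w hw h => by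
    rw [T.act_bar hη]
    refine congrArg T.bar (Subtype.ext ?_)
    show g⁻¹ * n * g * (g⁻¹ * w * g) * (g⁻¹ * n * g)⁻¹ = g⁻¹ * w * g
    calc g⁻¹ * n * g * (g⁻¹ * w * g) * (g⁻¹ * n * g)⁻¹ = g⁻¹ * (n * w) * n⁻¹ * g := by group
      _ = g⁻¹ * w * g := by rw [h]; group
  have hnz : n * T.z = T.z * n := T.Z_central (T.Q_le_C hn) T.z_mem
  have hzQ : g⁻¹ * T.z * g ∈ T.Q := by simpa using hg'.1
  have h0 : T.act (T.ρ x) (T.bar ⟨_, hg'.1⟩) = T.bar ⟨_, hg'.1⟩ := by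
    have := hfix T.z hzQ hnz
    simpa using this
  exact fixed_plane ht hg' hn' hr' he' hn1' hr0' (by rw [← map_pow, hx3, map_one]) hρ
    (comps_fixed ht hg' hn' hr' he' hn1' hr0' h0) (hfix u (T.mem_Qc.1 hu) (Pre.com_eq_one_iff.1 hun))

end Loc

end Cfsg.Agent.Spor.OmegaEightThree
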