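import Cfsg.Agent.Lib.Spor.OmegaEightThree.Fixed

/-!
The frame `t, n, r, f`: a conjugate `n r` of `z` in `Q` with `n` inverted and `r` centralised by the
involution `t`, and a conjugate `f` of `z^{±1}` outside `Q` centralised by `t, n, r`.
-/

set_option autoImplicit false
set_option linter.unusedSectionVars false
set_option maxHeartbeats 1600000

namespace Cfsg.Agent.Spor.OmegaEightThree

open Cfsg.Agent.Spor.PSLFourThree (com)

local notation "SL2" => Matrix.SpecialLinearGroup (Fin 2) (ZMod 3)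

theorem three_sq : ∀ a b : ZMod 3, a ≠ 0 → a * -(b * a) - -b = 0 := by decide

namespace Loc

variable {G : Type*} [Group G] [Finite G] (T : Loc G)

/-- Conjugate to `z` or to `z⁻¹`. -/
def IsZ (x : G) : Prop := ∃ g : G, g * T.z * g⁻¹ = x ∨ g * T.z⁻¹ * g⁻¹ = x

variable {T}

theorem IsZ.conj {x : G} (h : T.IsZ x) (k : G) : T.IsZ (k * x * k⁻¹) := by
  obtain ⟨g, h | h⟩ := h <;> exact ⟨k * g, by subst h; first | (left; group; done) | (right; group; done)⟩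

theorem IsZ.inv {x : G} (h : T.IsZ x) : T.IsZ x⁻¹ := by
  obtain ⟨g, h | h⟩ := h
  · exact ⟨g, Or.inr (by subst h; group)⟩
  · exact ⟨g, Or.inl (by subst h; group)⟩

theorem isZ_z : T.IsZ T.z := ⟨1, Or.inl (by group)⟩

theorem isZ_of_bar {g : G} (hg : T.IsPair g) {q : G} (hq : q ∈ T.Q)
    (h : T.bar ⟨_, hg.1⟩ = T.bar ⟨q, hq⟩) : T.IsZ q := by
  set y := g * T.z * g⁻¹ with hy
  obtain ⟨c, hc, hcy⟩ := T.exists_com_eq hg
  have hk : y⁻¹ * q ∈ T.Z := T.bar_eq.1 h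
  have key : ∀ (d : G), d * y * d⁻¹ = y * (y⁻¹ * q) → T.IsZ q := fun d hd => by
    rw [mul_inv_cancel_left] at hd
    exact hd ▸ IsZ.conj ⟨g, Or.inl rfl⟩ d
  have hzy : y * T.z = T.z * y := T.mem_C.1 (T.Q_le_C hg.1)
  have h1 : c * y * c⁻¹ = y * T.z := by
    rw [show c * y * c⁻¹ = com c y * y by simp [com], hy, hcy, ← hy, hzy]
  have h2 : c * T.z * c⁻¹ = T.z := T.conj_Z (T.Q_le_C hc) T.z_mem
  rcases T.z_pow_cases hk with e | e | e
  · exact key 1 (by rw [e]; group)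
  · exact key c (by rw [e, h1])
  · refine key (c * c) ?_
    have h3 : c * c * y * (c * c)⁻¹ = y * T.z * T.z := by
      calc c * c * y * (c * c)⁻¹ = c * (c * y * c⁻¹) * c⁻¹ := by group
        _ = c * (y * T.z) * c⁻¹ := by rw [h1]
        _ = c * y * c⁻¹ * (c * T.z * c⁻¹) := by group
        _ = y * T.z * T.z := by rw [h1, h2]
    rw [e, h3, mul_assoc, ← T.inv_eq_sq T.hzQ]

theorem line_of_comm {B : Subgroup T.V} (hB : Nat.card B = 9)
    (hnon : ∃ a b : T.Q, T.bar a ∈ B ∧ T.bar b ∈ B ∧ com (a : G) b ≠ 1) {a n : T.Q} (ha : T.bar a ∈ B)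
    (hn : T.bar n ∈ B) (hn1 : T.bar n ≠ 1) (h : com (a : G) n = 1) : T.bar a ∈ Subgroup.zpowers (T.bar n) := by
  by_contra hspan
  haveI : Fact (Nat.Prime 3) := ⟨Nat.prime_three⟩
  have hP : (Subgroup.zpowers (T.bar n) ⊔ Subgroup.zpowers (T.bar a) : Subgroup T.V) = B :=
    Subgroup.eq_of_le_of_card_ge (sup_le (Subgroup.zpowers_le.2 hn) (Subgroup.zpowers_le.2 ha))
      (by rw [hB, PSLFourThree.pair_card T.V_cube hn1 hspan])
  have key : ∀ p : T.Q, T.bar p ∈ B → ∀ x : G, x ∈ T.Q → com (n : G) x = 1 → com (a : G) x = 1 →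
      com (p : G) x = 1 := by
    intro p hp x hx hnx hax
    rw [← hP, Subgroup.mem_sup] at hp
    obtain ⟨_, ⟨i, rfl⟩, _, ⟨k, rfl⟩, hik⟩ := hp
    let q : T.Q := n ^ i * a ^ k
    have hq : T.bar q = T.bar p := by rw [← hik]; rfl
    have hw := T.bar_eq.1 hq
    rw [show (p : G) = q * ((q : G)⁻¹ * p) by group, T.com_mul_left q.2 (T.Z_le hw) hx,
      show com ((q : G)⁻¹ * p) x = 1 by rw [Pre.com_inv, T.com_Z_right hx hw, inv_one], mul_one]
    refine Pre.com_eq_one_iff.2 ?_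
    simp only [q, Subgroup.coe_mul, Subgroup.coe_zpow]
    exact (Commute.mul_left ((show Commute (n : G) x from Pre.com_eq_one_iff.1 hnx).zpow_left i)
      ((show Commute (a : G) x from Pre.com_eq_one_iff.1 hax).zpow_left k)).eq
  obtain ⟨p, p', hp, hp', hne⟩ := hnon
  have h' : com (n : G) a = 1 := by rw [Pre.com_inv, h, inv_one]
  have e1 : com (p : G) n = 1 := key p hp n n.2 Pre.com_self h
  have e2 : com (p : G) a = 1 := key p hp a a.2 h' Pre.com_self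
  refine hne ?_
  rw [Pre.com_inv, key p' hp' p p.2 (by rw [Pre.com_inv, e1, inv_one]) (by rw [Pre.com_inv, e2, inv_one]),
    inv_one]

variable (T)

/-- The components of a pair with `n` inverted exactly. -/
structure Comps (t g n r : G) : Prop where
  hn : n ∈ T.Q
  hr : r ∈ T.Q
  he : g * T.z * g⁻¹ = n * r
  inv : t * n * t⁻¹ = n⁻¹
  cent : t * r = r * t

variable {T} {t : G}

theorem Comps.hn1 {g n r : G} (h : T.Comps t g n r) : t * n * t⁻¹ * n ∈ T.Z := by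
  rw [h.inv, inv_mul_cancel]; exact one_mem _

theorem exists_comps (ht : T.toPre.IsT t) {g : G} (hg : T.IsPair g) : ∃ n r, T.Comps t g n r := by
  obtain ⟨a, b, ha, hb, hab, hb0, ha1⟩ := ht.decomp hg.1
  set k := t * a * t⁻¹ * a with hk
  refine ⟨a * k, k⁻¹ * b, mul_mem ha (T.Z_le ha1), mul_mem (inv_mem (T.Z_le ha1)) hb, by rw [hab]; group, ?_, ?_⟩
  · have e : t * (a * k) * t⁻¹ = t * a * t⁻¹ * (t * k * t⁻¹) := by group
    rw [e, T.conj_Z ht.mem ha1, show t * a * t⁻¹ = k * a⁻¹ by rw [hk]; group, mul_assoc,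
      T.Z_central (T.Q_le_C (inv_mem ha)) ha1, ← mul_assoc, ← T.inv_eq_sq (T.Z_le ha1)]
    group
  · rw [← mul_assoc, T.Z_central ht.mem (inv_mem ha1), mul_assoc, hb0, mul_assoc]

theorem Comps.comm {g n r : G} (ht : T.toPre.IsT t) (h : T.Comps t g n r) : n * r = r * n :=
  Pre.com_eq_one_iff.1 (ht.com_parts h.hn h.hr h.hn1 h.cent)

/-- `n` is not in `Q^g`. -/
theorem Comps.notMem (ht : T.toPre.IsT t) {g n r : G} (hg : T.IsPair g) (h : T.Comps t g n r) :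
    n ∉ T.Qc g := by
  classical
  intro hnD
  obtain ⟨hnZ, hrZ, -⟩ := pair_comp ht hg h.hn h.hr h.he h.hn1 h.cent
  obtain ⟨x, hxc, hxη, hx3, hx1, d, hd, hne⟩ := T.exists_x hg
  obtain ⟨-, -, hD, hab, -⟩ := T.basic hg
  set y := g * T.z * g⁻¹ with hy
  have hxy : (x : G) * y = y * x := T.Qc_comm_y hxc
  have hcomps : T.act (T.ρ x) (T.bar ⟨n, h.hn⟩) = T.bar ⟨n, h.hn⟩ := by
    refine comps_fixed ht hg h.hn h.hr h.he h.hn1 h.cent ?_
    rw [T.act_bar hxη]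
    refine congrArg T.bar (Subtype.ext ?_)
    show (x : G) * y * (x : G)⁻¹ = y
    rw [hxy, mul_inv_cancel_right]
  have hxn : com (x : G) n = 1 := by
    refine T.y_notMem_pow hg ?_ (T.com_Qc hxc hnD)
    rw [T.act_bar hxη] at hcomps
    have hz := T.bar_eq.1 hcomps.symm
    push_cast at hz
    have e : com (x : G) n = n * (n⁻¹ * ((x : G) * n * (x : G)⁻¹)) * n⁻¹ := by simp only [com]; group
    rw [e, T.conj_Z (T.Q_le_C h.hn) hz]
    exact hz
  let P : Subgroup G := T.toPre.Z ⊔ Subgroup.zpowers y ⊔ Subgroup.zpowers n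
  have hPD : P ≤ T.Q ⊓ T.Qc g := sup_le (sup_le
    (Subgroup.zpowers_le.2 ⟨T.hzQ, (T.basic hg).1⟩)
    (Subgroup.zpowers_le.2 ⟨hg.1, T.conj_mem_Qc T.hzQ⟩))
    (Subgroup.zpowers_le.2 ⟨h.hn, hnD⟩)
  have hPeq : P = T.Q ⊓ T.Qc g := by
    haveI : Fact (Nat.Prime 3) := ⟨Nat.prime_three⟩
    refine Subgroup.eq_of_le_of_card_ge hPD ?_
    rw [hD]
    have hsub : P.subgroupOf T.Q ⊔ T.toPre.Z.subgroupOf T.Q = P.subgroupOf T.Q :=
      sup_eq_left.2 (Subgroup.comap_mono (le_sup_left.trans le_sup_left))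
    let I : Subgroup T.V := (P.subgroupOf T.Q).map (QuotientGroup.mk' _)
    have hI : 9 ≤ Nat.card I := by
      have hyI : T.bar ⟨y, hg.1⟩ ∈ I :=
        ⟨⟨y, hg.1⟩, Subgroup.mem_subgroupOf.2 (Subgroup.mem_sup_left (Subgroup.mem_sup_right (Subgroup.mem_zpowers y))), rfl⟩
      have hnI : T.bar ⟨n, h.hn⟩ ∈ I :=
        ⟨⟨n, h.hn⟩, Subgroup.mem_subgroupOf.2 (Subgroup.mem_sup_right (Subgroup.mem_zpowers n)), rfl⟩
      refine le_trans (le_of_eq (PSLFourThree.pair_card T.V_cube (v := T.bar ⟨n, h.hn⟩) (w := T.bar ⟨y, hg.1⟩)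
        (fun e => hnZ (T.bar_eq_one.1 e)) ?_).symm)
        (Subgroup.card_le_of_le (sup_le (Subgroup.zpowers_le.2 hnI) (Subgroup.zpowers_le.2 hyI)))
      rintro ⟨i, hi⟩
      refine hrZ (T.bar_eq_one.1 (T.plus_minus ((ht.plus_iff h.hr).2 h.cent) ?_))
      have hrb : T.bar ⟨r, h.hr⟩ = (T.bar ⟨n, h.hn⟩)⁻¹ * T.bar ⟨y, hg.1⟩ := by
        rw [← Pre.bar_inv, ← Pre.bar_mul]
        exact congrArg T.bar (Subtype.ext (by show r = n⁻¹ * y; rw [hy, h.he]; group))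
      have hnm : T.bar ⟨n, h.hn⟩ ∈ T.minus := (ht.minus_iff h.hn).2 h.hn1
      rw [hrb, ← hi]
      exact mul_mem (inv_mem hnm) (Subgroup.zpow_mem _ hnm i)
    have e1 : Nat.card P = Nat.card (P.subgroupOf T.Q) :=
      (Nat.card_congr (Subgroup.subgroupOfEquivOfLe (hPD.trans inf_le_left)).toEquiv).symm
    let φ : P.subgroupOf T.Q →* T.V := (QuotientGroup.mk' _).comp (P.subgroupOf T.Q).subtype
    have h2 := φ.ker.card_eq_card_quotient_mul_card_subgroup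
    have hr' : φ.range = I := by rw [MonoidHom.range_comp, Subgroup.range_subtype]
    have hker : 3 ≤ Nat.card φ.ker := by
      have hzP : T.z ∈ P := Subgroup.mem_sup_left (Subgroup.mem_sup_left T.z_mem)
      let zP : P.subgroupOf T.Q := ⟨⟨T.z, T.hzQ⟩, Subgroup.mem_subgroupOf.2 hzP⟩
      have hmem : zP ∈ φ.ker := MonoidHom.mem_ker.2 (T.bar_eq_one.2 T.z_mem)
      have ho : orderOf zP = 3 := by
        rw [← T.hz, ← Subgroup.orderOf_coe, ← Subgroup.orderOf_coe]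
      exact ho ▸ Nat.le_of_dvd Nat.card_pos (Subgroup.orderOf_dvd_natCard φ.ker hmem)
    rw [Nat.card_congr (QuotientGroup.quotientKerEquivRange φ).toEquiv, hr'] at h2
    rw [e1, h2]
    exact le_trans (by norm_num) (Nat.mul_le_mul hI hker)
  have hall : P ≤ Subgroup.centralizer {(x : G)} := sup_le (sup_le
    (Subgroup.zpowers_le.2 (Subgroup.mem_centralizer_singleton_iff.2 (T.mem_C.1 x.2).symm))
    (Subgroup.zpowers_le.2 (Subgroup.mem_centralizer_singleton_iff.2 hxy.symm)))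
    (Subgroup.zpowers_le.2 (Subgroup.mem_centralizer_singleton_iff.2 (Pre.com_eq_one_iff.1 hxn).symm))
  exact hne (Pre.com_eq_one_iff.2 (Subgroup.mem_centralizer_singleton_iff.1 (hall (hPeq ▸ hd))).symm)

/-- The frame. -/
structure Frame (T : Loc G) where
  t : G
  g : G
  n : G
  r : G
  f : G
  ht : T.toPre.IsT t
  hg : T.IsPair g
  comps : T.Comps t g n r
  f_C : f ∈ T.C
  f_notQ : f ∉ T.Q
  f_cube : f ^ 3 = 1
  f_n : f * n = n * f
  f_r : f * r = r * f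
  f_t : t * f = f * t
  f_Z : T.IsZ f

/-- A conjugate of `z^{±1}` in `C \ Q` centralising `n, r`. -/
theorem exists_v (ht : T.toPre.IsT t) {g n r : G} (hg : T.IsPair g) (h : T.Comps t g n r) :
    ∃ v : T.C, (v : G) ∉ T.Q ∧ (v : G) ^ 3 = 1 ∧ (v : G) * n = n * v ∧ (v : G) * r = r * v ∧ T.IsZ (v : G) := by
  classical
  obtain ⟨hz, hg', hD, hab, -⟩ := T.basic hg
  obtain ⟨hnZ, hrZ, -⟩ := pair_comp ht hg h.hn h.hr h.he h.hn1 h.cent
  have hnD := h.notMem ht hg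
  set y := g * T.z * g⁻¹ with hy
  let H : Subgroup G := (T.Hy g⁻¹).map (MulAut.conj g).toMonoidHom
  have hH : Nat.card H = 81 := by
    rw [Subgroup.card_map_of_injective (MulAut.conj g).injective, T.card_Hy hg']
  have hHle : ∀ x ∈ H, x ∈ T.Qc g ∧ x ∈ T.C ∧ x ^ 3 = 1 := by
    rintro _ ⟨a, ha, rfl⟩
    obtain ⟨h1, h2⟩ := T.mem_Hy.1 ha
    refine ⟨T.conj_mem_Qc h1, T.mem_C.2 ?_, ?_⟩
    · have h' := Pre.com_eq_one_iff.1 h2
      rw [inv_inv] at h'
      show g * a * g⁻¹ * T.z = T.z * (g * a * g⁻¹)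
      calc g * a * g⁻¹ * T.z = g * (a * (g⁻¹ * T.z * g)) * g⁻¹ := by group
        _ = g * (g⁻¹ * T.z * g * a) * g⁻¹ := by rw [h']
        _ = T.z * (g * a * g⁻¹) := by group
    · show (g * a * g⁻¹) ^ 3 = 1
      rw [conj_pow, T.exp a h1, mul_one, mul_inv_cancel]
  have hmem : ∀ (c : H), com (c : G) n ∈ T.toPre.Z := by
    intro c
    obtain ⟨hcq, hcC, hc3⟩ := hHle c c.2
    have hη : T.η ⟨(c : G), hcC⟩ = 1 := T.η_cube (n := 1) (by rw [pow_one]; exact Subtype.ext hc3)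
    have hfix : T.act (T.ρ ⟨(c : G), hcC⟩) (T.bar ⟨n, h.hn⟩) = T.bar ⟨n, h.hn⟩ := by
      refine comps_fixed ht hg h.hn h.hr h.he h.hn1 h.cent ?_
      rw [T.act_bar hη]
      refine congrArg T.bar (Subtype.ext ?_)
      show (c : G) * y * (c : G)⁻¹ = y
      rw [T.Qc_comm_y hcq, mul_inv_cancel_right]
    rw [T.act_bar hη] at hfix
    have hz := T.bar_eq.1 hfix.symm
    push_cast at hz
    have e : com (c : G) n = n * (n⁻¹ * ((c : G) * n * (c : G)⁻¹)) * n⁻¹ := by simp only [com]; group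
    rw [e, T.conj_Z (T.Q_le_C h.hn) hz]
    exact hz
  let χ : H →* T.toPre.Z := MonoidHom.mk' (fun c => ⟨com (c : G) n, hmem c⟩) fun a b => by
    refine Subtype.ext ?_
    show com ((a : G) * b) n = com (a : G) n * com (b : G) n
    have e : com ((a : G) * b) n = ((a : G) * com (b : G) n * (a : G)⁻¹) * com (a : G) n := by
      simp only [com]; group
    rw [e, T.conj_Z (hHle a a.2).2.1 (hmem b)]
    exact T.Z_central (T.Q_le_C (T.Z_le (hmem b))) (hmem a)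
  obtain ⟨f, hfχ, hfQ⟩ : ∃ f : H, χ f = 1 ∧ (f : G) ∉ T.Q := by
    by_contra hcon
    push Not at hcon
    have hle : χ.ker.map H.subtype ≤ T.Q ⊓ T.Qc g := by
      rintro _ ⟨c, hc, rfl⟩
      exact ⟨hcon c (MonoidHom.mem_ker.1 hc), (hHle c c.2).1⟩
    have h2 := χ.ker.card_eq_card_quotient_mul_card_subgroup
    rw [hH, Nat.card_congr (QuotientGroup.quotientKerEquivRange χ).toEquiv] at h2
    have h3 : Nat.card χ.range ≤ 3 := T.card_Z ▸ Subgroup.card_le_card_group _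
    have h4 : 27 ≤ Nat.card χ.ker := by nlinarith [Nat.card_pos (α := χ.ker)]
    have heq : χ.ker.map H.subtype = T.Q ⊓ T.Qc g := Subgroup.eq_of_le_of_card_ge hle (by
      rw [hD, Subgroup.card_map_of_injective H.subtype_injective]; exact h4)
    have hcomm : ∀ d ∈ T.Q ⊓ T.Qc g, d * n = n * d := fun d hd => by
      rw [← heq] at hd
      obtain ⟨c, hc, rfl⟩ := hd
      exact Pre.com_eq_one_iff.1 (congrArg Subtype.val (MonoidHom.mem_ker.1 hc))
    let A : Subgroup G := Subgroup.closure ((T.Q ⊓ T.Qc g : Subgroup G) ∪ {n} : Set G)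
    have hA : ∀ a ∈ A, ∀ b ∈ A, a * b = b * a := by
      intro a ha b hb
      refine Subgroup.closure_induction₂ (p := fun a b _ _ => a * b = b * a) ?_ ?_ ?_ ?_ ?_ ?_ ?_ ha hb
      · intro a b ha hb
        rcases ha with ha | ha <;> rcases hb with hb | hb
        · exact hab a ha b hb
        · rw [Set.mem_singleton_iff.1 hb]; exact hcomm a ha
        · rw [Set.mem_singleton_iff.1 ha]; exact (hcomm b hb).symm
        · rw [Set.mem_singleton_iff.1 ha, Set.mem_singleton_iff.1 hb]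
      · intros; simp
      · intros; simp
      · intro a b c _ _ _ h1 h2
        exact Commute.mul_left h1 h2
      · intro a b c _ _ _ h1 h2
        exact Commute.mul_right h1 h2
      · intro a b _ _ h1
        exact Commute.inv_left h1
      · intro a b _ _ h1
        exact Commute.inv_right h1
    have hAQ : A ≤ T.Q := (Subgroup.closure_le _).2 (Set.union_subset (fun a ha => ha.1)
      (Set.singleton_subset_iff.2 h.hn))
    have hle' : T.Q ⊓ T.Qc g ≤ A := fun a ha => Subgroup.subset_closure (Or.inl ha)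
    have hAeq : T.Q ⊓ T.Qc g = A :=
      Subgroup.eq_of_le_of_card_ge hle' (by rw [hD]; exact T.comm_card_le A hAQ hA)
    exact hnD ((hAeq ▸ Subgroup.subset_closure (Or.inr rfl) : n ∈ T.Q ⊓ T.Qc g)).2
  obtain ⟨hfc, hfC, hf3⟩ := hHle f f.2
  have hfn : (f : G) * n = n * f := Pre.com_eq_one_iff.1 (congrArg Subtype.val hfχ)
  have hfy : (f : G) * y = y * f := T.Qc_comm_y hfc
  -- back to `Q`
  obtain ⟨n', r', h'⟩ := exists_comps ht hg'
  have hplane := back_plane ht hg h.hn h.hr h.he h.hn1 h.cent hnD h'.hn h'.hr h'.he h'.hn1 h'.cent hfc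
    (Pre.com_eq_one_iff.2 hfn.symm)
  obtain ⟨_, ⟨b, rfl⟩, _, ⟨a, rfl⟩, hab'⟩ := Subgroup.mem_sup.1 hplane
  let f' : T.Q := ⟨g⁻¹ * f * g, T.mem_Qc.1 hfc⟩
  let N' : T.Q := ⟨n', h'.hn⟩
  let R' : T.Q := ⟨r', h'.hr⟩
  let Y' : T.Q := ⟨_, hg'.1⟩
  have hY' : T.bar Y' = T.bar N' * T.bar R' := by
    rw [← Pre.bar_mul]; exact congrArg T.bar (Subtype.ext h'.he)
  -- the conjugate pair `(t g⁻¹)`
  have hpair' : T.IsPair (t * g⁻¹) := by
    have e : t * g⁻¹ * T.z * (t * g⁻¹)⁻¹ = t * (g⁻¹ * T.z * g⁻¹⁻¹) * t⁻¹ := by group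
    refine ⟨e ▸ T.conj_Q ht.mem hg'.1, fun hz' => hg'.2 ?_⟩
    rw [e] at hz'
    rw [show g⁻¹ * T.z * g⁻¹⁻¹ = t⁻¹ * (t * (g⁻¹ * T.z * g⁻¹⁻¹) * t⁻¹) * t⁻¹⁻¹ by group,
      T.conj_Z (inv_mem ht.mem) hz']
    exact hz'
  have hW : T.bar ⟨_, hpair'.1⟩ = (T.bar N')⁻¹ * T.bar R' := by
    rw [← Pre.bar_inv, ← Pre.bar_mul]
    refine congrArg T.bar (Subtype.ext ?_)
    show t * g⁻¹ * T.z * (t * g⁻¹)⁻¹ = n'⁻¹ * r'
    rw [show t * g⁻¹ * T.z * (t * g⁻¹)⁻¹ = t * (g⁻¹ * T.z * g⁻¹⁻¹) * t⁻¹ by group, h'.he,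
      show t * (n' * r') * t⁻¹ = t * n' * t⁻¹ * (t * r' * t⁻¹) by group, h'.inv, h'.cent,
      mul_inv_cancel_right]
  have hR : T.bar R' ^ (3 : ℤ) = 1 := by exact_mod_cast T.V_cube (T.bar R')
  have hN : T.bar N' ^ (3 : ℤ) = 1 := by exact_mod_cast T.V_cube (T.bar N')
  have hf' : T.bar f' = T.bar R' ^ b * T.bar N' ^ a := hab'.symm
  let q : T.Q := f' * Y' ^ (a + b)
  have hq : T.bar q = (T.bar ⟨_, hpair'.1⟩) ^ (a - b) := by
    show T.bar f' * T.bar Y' ^ (a + b) = _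
    rw [hf', hW, hY', mul_zpow, mul_zpow, inv_zpow']
    calc T.bar R' ^ b * T.bar N' ^ a * (T.bar N' ^ (a + b) * T.bar R' ^ (a + b))
        = T.bar N' ^ (-(a - b) + 3 * a) * T.bar R' ^ ((a - b) + 3 * b) := by
          rw [show -(a - b) + 3 * a = a + (a + b) by ring, show (a - b) + 3 * b = b + (a + b) by ring,
            zpow_add (T.bar N') a (a + b), zpow_add (T.bar R') b (a + b)]
          ac_rfl
      _ = T.bar N' ^ (-(a - b)) * T.bar R' ^ (a - b) := by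
          rw [zpow_add _ _ (3 * a), zpow_mul, hN, one_zpow, mul_one, zpow_add _ _ (3 * b), zpow_mul, hR,
            one_zpow, mul_one]
  have hgY : g * ((Y' : T.Q) : G) * g⁻¹ = T.z := by
    show g * (g⁻¹ * T.z * g⁻¹⁻¹) * g⁻¹ = T.z
    group
  have hv : g * (q : G) * g⁻¹ = f * T.z ^ (a + b) := by
    rw [← hgY, conj_zpow]
    simp only [q, f', Subgroup.coe_mul, Subgroup.coe_zpow]
    group
  set e := a - b with hedef
  have h3 : ∀ x : T.V, x ^ e = x ^ (e % 3) := fun x => by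
    conv_lhs => rw [← Int.emod_add_mul_ediv e 3]
    rw [zpow_add, zpow_mul, show x ^ (3 : ℤ) = 1 by exact_mod_cast T.V_cube x, one_zpow, mul_one]
  have hne : e % 3 ≠ 0 := by
    intro h0
    rw [h3, h0, zpow_zero] at hq
    have hz' := T.bar_eq_one.1 hq
    apply hfQ
    obtain ⟨k, hk⟩ := Subgroup.mem_zpowers_iff.1 hz'
    have e1 : (f : G) * T.z ^ (a + b) = y ^ k := by
      rw [← hv, ← hk, hy, conj_zpow]
    rw [eq_mul_inv_of_mul_eq e1]
    exact mul_mem (Subgroup.zpow_mem _ hg.1 k) (inv_mem (Subgroup.zpow_mem _ T.hzQ _))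
  have hZ : T.IsZ (q : G) := by
    have h0 := Int.emod_nonneg e (show (3 : ℤ) ≠ 0 by norm_num)
    have h1 := Int.emod_lt_of_pos e (show (0 : ℤ) < 3 by norm_num)
    rw [h3] at hq
    obtain h | h : e % 3 = 1 ∨ e % 3 = 2 := by omega
    · rw [h, zpow_one] at hq
      exact isZ_of_bar hpair' q.2 hq.symm
    · rw [h] at hq
      have hi : T.bar (q⁻¹) = T.bar ⟨_, hpair'.1⟩ := by
        rw [Pre.bar_inv, hq, ← zpow_neg]
        calc T.bar ⟨_, hpair'.1⟩ ^ (-2 : ℤ) = T.bar ⟨_, hpair'.1⟩ ^ (-3 : ℤ) * T.bar ⟨_, hpair'.1⟩ := by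
              rw [← zpow_add_one]; norm_num
          _ = _ := by
              rw [zpow_neg, show T.bar ⟨_, hpair'.1⟩ ^ (3 : ℤ) = 1 by exact_mod_cast T.V_cube _, inv_one, one_mul]
      have := (isZ_of_bar hpair' (q⁻¹).2 hi.symm).inv
      simpa using this
  refine ⟨⟨(f : G) * T.z ^ (a + b), mul_mem hfC (T.Q_le_C (Subgroup.zpow_mem _ T.hzQ _))⟩, ?_, ?_, ?_, ?_, ?_⟩
  · exact fun h' => hfQ ((Subgroup.mul_mem_cancel_right _ (Subgroup.zpow_mem _ T.hzQ _)).1 h')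
  · show ((f : G) * T.z ^ (a + b)) ^ 3 = 1
    rw [← hv, conj_pow, T.exp _ q.2, mul_one, mul_inv_cancel]
  · show (f : G) * T.z ^ (a + b) * n = n * (f * T.z ^ (a + b))
    have hzn : Commute (T.z ^ (a + b)) n :=
      (T.Z_central (T.Q_le_C h.hn) (Subgroup.zpow_mem _ T.z_mem _)).symm
    exact (Commute.mul_left (show Commute (f : G) n from hfn) hzn).eq
  · show (f : G) * T.z ^ (a + b) * r = r * (f * T.z ^ (a + b))
    have hzr : Commute (T.z ^ (a + b)) r :=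
      (T.Z_central (T.Q_le_C h.hr) (Subgroup.zpow_mem _ T.z_mem _)).symm
    have hfr : Commute (f : G) r := by
      have e' : r = n⁻¹ * y := by rw [hy, h.he]; group
      rw [e']
      exact Commute.mul_right (Commute.inv_right hfn) hfy
    exact (Commute.mul_left hfr hzr).eq
  · show T.IsZ ((f : G) * T.z ^ (a + b))
    rw [← hv]
    exact hZ.conj g

/-- A frame exists as soon as `Q` contains a conjugate of `z` outside `Z`. -/
theorem exists_frame (hT : ∃ g, T.IsPair g) : Nonempty (Frame T) := by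
  classical
  obtain ⟨t, ht⟩ := T.exists_t
  obtain ⟨g, hg⟩ := hT
  obtain ⟨n, r, h⟩ := exists_comps ht hg
  obtain ⟨hnZ, hrZ, hline, -⟩ := pair_comp ht hg h.hn h.hr h.he h.hn1 h.cent
  obtain ⟨v, hvQ, hv3, hvn, hvr, hvZ⟩ := exists_v ht hg h
  have hη : T.η v = 1 := T.η_cube (n := 1) (by rw [pow_one]; exact Subtype.ext hv3)
  have hρ3 : T.ρ v ^ 3 = 1 := by rw [← map_pow, show v ^ 3 = 1 from Subtype.ext hv3, map_one]
  have hρ1 : T.ρ v ≠ 1 := fun e => hvQ ((T.ρker v).1 ⟨e, hη⟩)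
  have hnfix : T.act (T.ρ v) (T.bar ⟨n, h.hn⟩) = T.bar ⟨n, h.hn⟩ := by
    rw [T.act_bar hη]
    refine congrArg T.bar (Subtype.ext ?_)
    show (v : G) * n * (v : G)⁻¹ = n
    rw [hvn, mul_inv_cancel_right]
  have hnm : T.bar ⟨n, h.hn⟩ ∈ T.minus := (ht.minus_iff h.hn).2 h.hn1
  have hnb : T.bar ⟨n, h.hn⟩ ≠ 1 := fun e => hnZ (T.bar_eq_one.1 e)
  have hrp : T.bar ⟨r, h.hr⟩ ∈ T.plus := (ht.plus_iff h.hr).2 h.cent
  have hrb : T.bar ⟨r, h.hr⟩ ≠ 1 := fun e => hrZ (T.bar_eq_one.1 e)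
  -- `t v t⁻¹ v⁻¹`
  let tC : T.C := ⟨t, ht.mem⟩
  let w : T.C := tC * v * tC⁻¹ * v⁻¹
  have hwQ : (w : G) ∈ T.Q := by
    refine (T.ρker w).1 ⟨?_, ?_⟩
    · show T.ρ (tC * v * tC⁻¹ * v⁻¹) = 1
      rw [map_mul, map_mul, map_mul, map_inv, map_inv, show T.ρ tC = -1 from ht.rho, neg_one_central,
        mul_inv_cancel_right, mul_inv_cancel]
    · show T.η (tC * v * tC⁻¹ * v⁻¹) = 1
      rw [map_mul, map_mul, map_mul, map_inv, map_inv, show T.η tC = 1 from ht.eta, hη]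
      simp
  have hwn : com (w : G) n = 1 := by
    refine Pre.com_eq_one_iff.2 ?_
    have c1 : Commute ((tC * v * tC⁻¹ : T.C) : G) n := by
      show t * v * t⁻¹ * n = n * (t * v * t⁻¹)
      have e : n = t * n⁻¹ * t⁻¹ := by
        calc n = (n⁻¹)⁻¹ := (inv_inv n).symm
          _ = (t * n * t⁻¹)⁻¹ := by rw [h.inv]
          _ = t * n⁻¹ * t⁻¹ := by group
      rw [e, show t * v * t⁻¹ * (t * n⁻¹ * t⁻¹) = t * (v * n⁻¹) * t⁻¹ by group,
        (show Commute (v : G) n from hvn).inv_right.eq]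
      group
    have : Commute (w : G) n := by
      show Commute (((tC * v * tC⁻¹ : T.C) : G) * (v : G)⁻¹) n
      exact c1.mul_left (show Commute (v : G) n from hvn).inv_left
    exact this.eq
  have hwr : com (w : G) r = 1 := by
    refine Pre.com_eq_one_iff.2 ?_
    have hct : Commute t r := h.cent
    have hcv : Commute (v : G) r := hvr
    show Commute (t * (v : G) * t⁻¹ * (v : G)⁻¹) r
    exact ((hct.mul_left hcv).mul_left hct.inv_left).mul_left hcv.inv_left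
  -- its bar lies in the plane of `n` and `r`
  obtain ⟨a1, a0, ha1, ha0, hwa, ha0c, ha1m⟩ := ht.decomp hwQ
  have hsn : com a1 n = 1 := by
    have e := hwn
    rw [hwa, T.com_mul_left ha1 ha0 h.hn, Pre.com_inv (a := n) (b := a0), ht.com_parts h.hn ha0 h.hn1 ha0c,
      inv_one, mul_one] at e
    exact e
  have hsr : com a0 r = 1 := by
    have e := hwr
    rw [hwa, T.com_mul_left ha1 ha0 h.hr, ht.com_parts ha1 h.hr ha1m h.cent, one_mul] at e
    exact e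
  have hl1 := line_of_comm T.card_minus (minus_noncomm ht) (a := ⟨a1, ha1⟩) (n := ⟨n, h.hn⟩)
    ((ht.minus_iff ha1).2 ha1m) hnm hnb hsn
  have hl0 := line_of_comm T.card_plus (plus_noncomm ht) (a := ⟨a0, ha0⟩) (n := ⟨r, h.hr⟩)
    ((ht.plus_iff ha0).2 ha0c) hrp hrb hsr
  obtain ⟨β, hβ⟩ := Subgroup.mem_zpowers_iff.1 hl1
  obtain ⟨γ, hγ⟩ := Subgroup.mem_zpowers_iff.1 hl0
  have hwbar : T.bar ⟨(w : G), hwQ⟩ = T.bar ⟨n, h.hn⟩ ^ β * T.bar ⟨r, h.hr⟩ ^ γ := by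
    rw [hβ, hγ, ← Pre.bar_mul]
    exact congrArg T.bar (Subtype.ext hwa)
  -- an inverted element moved by `v`
  obtain ⟨m, hm, hvm⟩ : ∃ m ∈ T.minus, T.act (T.ρ v) m ≠ m := by
    by_contra hcon
    push Not at hcon
    exact hρ1 (T.minus_faithful hcon)
  obtain ⟨q, rfl⟩ := T.bar_surj m
  let p : T.Q := ⟨com (q : G) v, by
    have e : com (q : G) v = q * ((v : G) * (q : G)⁻¹ * (v : G)⁻¹) := by simp only [com]; group
    rw [e]
    exact mul_mem q.2 (T.conj_Q v.2 (inv_mem q.2))⟩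
  have hpbar : T.bar p = T.bar q * (T.act (T.ρ v) (T.bar q))⁻¹ := by
    rw [T.act_bar hη, ← Pre.bar_inv, ← Pre.bar_mul]
    refine congrArg T.bar (Subtype.ext ?_)
    show com (q : G) v = (q : G) * ((v : G) * q * (v : G)⁻¹)⁻¹
    simp only [com]; group
  have hp1 : T.bar p ≠ 1 := by rw [hpbar]; exact fun e => hvm (mul_inv_eq_one.1 e).symm
  have hpm : T.bar p ∈ T.minus := by rw [hpbar]; exact mul_mem hm (inv_mem (T.act_minus _ hm))
  obtain ⟨i, hi⟩ : ∃ i : ℤ, T.bar ⟨n, h.hn⟩ ^ i = T.bar p := by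
    refine Subgroup.mem_zpowers_iff.1 (line_of_comm T.card_minus (minus_noncomm ht) (a := p) (n := ⟨n, h.hn⟩)
      hpm hnm hnb ?_)
    show com (com (q : G) v) n = 1
    refine Pre.com_eq_one_iff.2 ?_
    have hqn := T.com_mem' q.2 h.hn
    set k := com (q : G) n with hk
    have e1 : (q : G) * n * (q : G)⁻¹ = k * n := by rw [hk]; simp only [com]; group
    have e2 : (v : G)⁻¹ * n * v = n := by rw [mul_assoc, ← hvn]; group
    have e3 : (q : G)⁻¹ * n * q = k⁻¹ * n := by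
      calc (q : G)⁻¹ * n * q = (q : G)⁻¹ * k⁻¹ * q * ((q : G)⁻¹ * (k * n) * q) := by group
        _ = k⁻¹ * n := by
          rw [← e1, show (q : G)⁻¹ * k⁻¹ * q = k⁻¹ by
            have := T.conj_Z (inv_mem (T.Q_le_C q.2)) (inv_mem hqn)
            rwa [inv_inv] at this]
          group
    show com (q : G) v * n = n * com (q : G) v
    have e4 : com (q : G) v * n * (com (q : G) v)⁻¹ = n := by
      have ev : ∀ x, x ∈ T.toPre.Z → (v : G) * x * (v : G)⁻¹ = x := fun x hx => T.conj_Z v.2 hx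
      have evi : ∀ x, x ∈ T.toPre.Z → (v : G)⁻¹ * x * v = x := fun x hx => by
        have := T.conj_Z (inv_mem v.2) hx
        rwa [inv_inv] at this
      calc com (q : G) v * n * (com (q : G) v)⁻¹
          = q * ((v : G) * ((q : G)⁻¹ * ((v : G)⁻¹ * n * v) * q) * (v : G)⁻¹) * (q : G)⁻¹ := by
            simp only [com]; group
        _ = q * ((v : G) * (k⁻¹ * n) * (v : G)⁻¹) * (q : G)⁻¹ := by rw [e2, e3]
        _ = q * ((v : G) * k⁻¹ * (v : G)⁻¹) * ((v : G) * n * (v : G)⁻¹) * (q : G)⁻¹ := by group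
        _ = (q : G) * k⁻¹ * (q : G)⁻¹ * ((q : G) * n * (q : G)⁻¹) := by
            rw [ev _ (inv_mem hqn), hvn, mul_inv_cancel_right]; group
        _ = n := by rw [T.conj_Z (T.Q_le_C q.2) (inv_mem hqn), e1, inv_mul_cancel_left]
    calc com (q : G) v * n = com (q : G) v * n * (com (q : G) v)⁻¹ * com (q : G) v := by group
      _ = n * com (q : G) v := by rw [e4]
  have hi3 : ((i : ZMod 3)) ≠ 0 := by
    intro h0
    obtain ⟨k, rfl⟩ := (ZMod.intCast_zmod_eq_zero_iff_dvd i 3).1 h0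
    refine hp1 ?_
    rw [← hi, zpow_mul, show T.bar ⟨n, h.hn⟩ ^ ((3 : ℕ) : ℤ) = 1 by rw [zpow_natCast]; exact T.V_cube _, one_zpow]
  set k : ℤ := -(β * i) with hk
  let c : T.Q := ⟨com ((q : G) ^ k) v, by
    have e : com ((q : G) ^ k) v = (q : G) ^ k * ((v : G) * ((q : G) ^ k)⁻¹ * (v : G)⁻¹) := by
      simp only [com]; group
    rw [e]
    exact mul_mem (Subgroup.zpow_mem _ q.2 k) (T.conj_Q v.2 (inv_mem (Subgroup.zpow_mem _ q.2 k)))⟩
  have hcbar : T.bar c = T.bar ⟨n, h.hn⟩ ^ (-β) := by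
    have e : T.bar c = T.bar (q ^ k) * (T.act (T.ρ v) (T.bar (q ^ k)))⁻¹ := by
      rw [T.act_bar hη, ← Pre.bar_inv, ← Pre.bar_mul]
      refine congrArg T.bar (Subtype.ext ?_)
      show com ((q : G) ^ k) v = ((q ^ k : T.Q) : G) * ((v : G) * ((q ^ k : T.Q) : G) * (v : G)⁻¹)⁻¹
      simp only [com, Subgroup.coe_zpow]; group
    rw [e, show T.bar (q ^ k) = T.bar q ^ k from rfl, map_zpow, ← inv_zpow, ← mul_zpow, ← hpbar, ← hi,
      ← zpow_mul]
    have h3 : T.bar ⟨n, h.hn⟩ ^ ((3 : ℕ) : ℤ) = 1 := by rw [zpow_natCast]; exact T.V_cube _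
    have hd : ((3 : ℕ) : ℤ) ∣ i * k - -β := by
      refine (ZMod.intCast_zmod_eq_zero_iff_dvd _ 3).1 ?_
      push_cast [hk]
      exact three_sq _ _ hi3
    obtain ⟨j, hj⟩ := hd
    rw [show i * k = ((3 : ℕ) : ℤ) * j + -β by omega, zpow_add, zpow_mul, h3, one_zpow, one_mul]
  set f : G := (q : G) ^ k * v * ((q : G) ^ k)⁻¹ with hfdef
  have hfv : f = (c : G) * v := by
    show (q : G) ^ k * v * ((q : G) ^ k)⁻¹ = com ((q : G) ^ k) v * v
    simp only [com]; group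
  -- `t` fixes `f`
  let u : T.Q := ⟨t * (c : G) * t⁻¹, T.conj_Q ht.mem c.2⟩ * ⟨(w : G), hwQ⟩ * c⁻¹
  have huf : t * f * t⁻¹ = (u : G) * f := by
    show t * f * t⁻¹ = t * (c : G) * t⁻¹ * (t * (v : G) * t⁻¹ * (v : G)⁻¹) * (c : G)⁻¹ * f
    rw [hfv]; group
  have hubar : T.bar u = T.bar ⟨r, h.hr⟩ ^ γ := by
    show T.bar ⟨t * (c : G) * t⁻¹, _⟩ * T.bar ⟨(w : G), hwQ⟩ * (T.bar c)⁻¹ = _
    rw [← ht.bar_conj c.2, hwbar]
    show T.act (-1) (T.bar c) * _ * _ = _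
    rw [hcbar, map_zpow, show T.act (-1) (T.bar ⟨n, h.hn⟩) = (T.bar ⟨n, h.hn⟩)⁻¹ from hnm, inv_zpow', neg_neg,
      ← zpow_neg, neg_neg]
    calc T.bar ⟨n, h.hn⟩ ^ β * (T.bar ⟨n, h.hn⟩ ^ β * T.bar ⟨r, h.hr⟩ ^ γ) * T.bar ⟨n, h.hn⟩ ^ β
        = (T.bar ⟨n, h.hn⟩ ^ β) ^ 3 * T.bar ⟨r, h.hr⟩ ^ γ := by rw [pow_succ, pow_two]; ac_rfl
      _ = _ := by rw [T.V_cube, one_mul]
  have hut : t * (u : G) = u * t := (ht.plus_iff u.2).1 (by
    show T.bar u ∈ T.plus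
    rw [hubar]
    exact Subgroup.zpow_mem _ hrp γ)
  have hu1 : (u : G) = 1 := by
    have e1 : t * (t * f * t⁻¹) * t⁻¹ = f := by
      rw [show t * (t * f * t⁻¹) * t⁻¹ = t * t * f * (t * t)⁻¹ by group, ht.sq]; group
    rw [huf, show t * ((u : G) * f) * t⁻¹ = t * u * t⁻¹ * (t * f * t⁻¹) by group, hut, mul_inv_cancel_right,
      huf, ← mul_assoc, mul_eq_right] at e1
    have e3 := T.cube_iff u.2
    rwa [e1, one_mul] at e3
  have hqC : (q : G) ^ k ∈ T.C := Subgroup.zpow_mem _ (T.Q_le_C q.2) k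
  have hcn : Commute (c : G) n ∧ Commute (c : G) r := by
    have hz := T.bar_eq.1 (show T.bar (⟨n, h.hn⟩ ^ (-β)) = T.bar c by rw [hcbar]; rfl)
    set z' := ((⟨n, h.hn⟩ ^ (-β) : T.Q) : G)⁻¹ * (c : G) with hz'
    have e : (c : G) = n ^ (-β) * z' := by rw [hz']; simp
    rw [e]
    exact ⟨Commute.mul_left ((Commute.refl n).zpow_left _) (T.Z_central (T.Q_le_C h.hn) hz).symm,
      Commute.mul_left ((show Commute n r from h.comm ht).zpow_left _) (T.Z_central (T.Q_le_C h.hr) hz).symm⟩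
  refine ⟨⟨t, g, n, r, f, ht, hg, h, ?_, ?_, ?_, ?_, ?_, ?_, hvZ.conj _⟩⟩
  · exact mul_mem (mul_mem hqC v.2) (inv_mem hqC)
  · intro hfQ
    rw [hfv] at hfQ
    exact hvQ ((Subgroup.mul_mem_cancel_left _ c.2).1 hfQ)
  · rw [hfdef, conj_pow, hv3, mul_one, mul_inv_cancel]
  · rw [hfv]; exact (hcn.1.mul_left hvn).eq
  · rw [hfv]; exact (hcn.2.mul_left hvr).eq
  · rw [hu1, one_mul] at huf
    exact (mul_inv_eq_iff_eq_mul.1 huf)

end Loc

end Cfsg.Agent.Spor.OmegaEightThree
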