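import Cfsg.Agent.Lib.Spor.OmegaEightThree.Split
import Cfsg.Agent.Lib.Spor.OmegaEightThree.Module
import Cfsg.Agent.Lib.Fusion.Cores

/-!
The local data from the hypotheses of the recognition theorem: exactly one nontrivial chief factor
makes the eigenspaces of the central involution two planes.
-/

set_option autoImplicit false
set_option linter.unusedSectionVars false
set_option maxHeartbeats 1600000

namespace Cfsg.Agent.Spor.OmegaEightThree

open Cfsg
open Cfsg.Agent.Spor.PSLFourThree (com x2 i2 x2_cube rel_x2_i2 gen_induction)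
open scoped commutatorElement

local notation "SL2" => Matrix.SpecialLinearGroup (Fin 2) (ZMod 3)
local notation "C2" => Multiplicative (ZMod 2)

theorem eq_one_of_self_inv {M : Type*} [CommGroup M] (h3 : ∀ m : M, m ^ 3 = 1) {B : Subgroup M} {b : M}
    (h : b * b ∈ B) : b ∈ B := by
  have e : b = (b * b) * (b * b) := by
    calc b = b ^ 3 * b := by rw [h3, one_mul]
      _ = _ := by rw [pow_succ, pow_two]; ac_rfl
  rw [e]
  exact mul_mem h h

/-- The elements of odd order of `SL₂(3) × 2` generate `SL₂(3)`. -/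
theorem mem_residual {H : Type*} [Group H] (ρ : H →* SL2) (η : H →* C2)
    (hinj : ∀ q, ρ q = 1 → η q = 1 → q = 1) (hsurj : ∀ g, ∃ q, ρ q = g ∧ η q = 1) (q : H) :
    q ∈ Cfsg.pResidual 2 H ↔ η q = 1 := by
  constructor
  · intro h
    refine (Subgroup.closure_le η.ker).2 (fun g hg => ?_) h
    refine MonoidHom.mem_ker.2 (orderOf_eq_one_iff.1 (Nat.eq_one_of_dvd_coprimes hg (orderOf_map_dvd η g) ?_))
    have := orderOf_dvd_natCard (η g)
    rwa [Nat.card_eq_fintype_card, Fintype.card_multiplicative, ZMod.card] at this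
  · intro hq
    have hcop : ∀ g : SL2, g ^ 3 = 1 → ∀ q, ρ q = g → η q = 1 → q ∈ Cfsg.pResidual 2 H := by
      intro g hg q hρ hη
      refine Subgroup.subset_closure ?_
      show Nat.Coprime (orderOf q) 2
      have h3 : q ^ 3 = 1 := hinj _ (by rw [map_pow, hρ, hg]) (by rw [map_pow, hη, one_pow])
      exact Nat.Coprime.coprime_dvd_left (orderOf_dvd_of_pow_eq_one h3) (by norm_num)
    have uniq : ∀ q q', ρ q = ρ q' → η q = η q' → q = q' := fun q q' h1 h2 =>
      mul_inv_eq_one.1 (hinj _ (by rw [map_mul, map_inv, h1, mul_inv_cancel])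
        (by rw [map_mul, map_inv, h2, mul_inv_cancel]))
    refine gen_induction (p := fun g => ∀ q, ρ q = g → η q = 1 → q ∈ Cfsg.pResidual 2 H)
      (hcop _ x2_cube) ?_ ?_ ?_ ?_ (ρ q) q rfl hq
    · intro q hρ hη
      obtain ⟨a, ha, ha'⟩ := hsurj x2
      obtain ⟨b, hb, hb'⟩ := hsurj (i2 * x2 * i2⁻¹)
      rw [uniq q (a * b * a) (by rw [map_mul, map_mul, ha, hb, hρ, rel_x2_i2])
        (by rw [map_mul, map_mul, ha', hb', hη, one_mul, one_mul])]
      have hc : (i2 * x2 * i2⁻¹) ^ 3 = 1 := by rw [conj_pow, x2_cube, mul_one, mul_inv_cancel]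
      exact mul_mem (mul_mem (hcop _ x2_cube a ha ha') (hcop _ hc b hb hb')) (hcop _ x2_cube a ha ha')
    · intro q hρ hη
      rw [hinj q hρ hη]
      exact one_mem _
    · intro a b pa pb q hρ hη
      obtain ⟨c, hc, hc'⟩ := hsurj a
      rw [show q = c * (c⁻¹ * q) by group]
      exact mul_mem (pa c hc hc') (pb _ (by rw [map_mul, map_inv, hρ, hc, inv_mul_cancel_left])
        (by rw [map_mul, map_inv, hη, hc', inv_one, one_mul]))
    · intro a pa q hρ hη
      rw [show q = (q⁻¹)⁻¹ by group]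
      exact inv_mem (pa _ (by rw [map_inv, hρ, inv_inv]) (by rw [map_inv, hη, inv_one]))

theorem card_sl2 : Nat.card SL2 = 24 := by
  rw [Nat.card_eq_fintype_card]
  decide +kernel

variable {G : Type*} [Group G] [Finite G]

/-- The two projections of `C/Q`. -/
theorem exists_split (C : Subgroup G)
    (e : Nonempty (C ⧸ Cfsg.pCore 3 C ≃* SL2) ∨ Nonempty (C ⧸ Cfsg.pCore 3 C ≃* SL2 × C2)) :
    ∃ (ρ : C ⧸ Cfsg.pCore 3 C →* SL2) (η : C ⧸ Cfsg.pCore 3 C →* C2),
      (∀ q, ρ q = 1 → η q = 1 → q = 1) ∧ (∀ g, ∃ q, ρ q = g ∧ η q = 1) := by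
  rcases e with ⟨⟨e⟩⟩ | ⟨⟨e⟩⟩
  · exact ⟨e.toMonoidHom, 1, fun q h _ => e.injective (h.trans (map_one e).symm),
      fun g => ⟨e.symm g, e.apply_symm_apply g, rfl⟩⟩
  · refine ⟨(MonoidHom.fst SL2 C2).comp e.toMonoidHom, (MonoidHom.snd SL2 C2).comp e.toMonoidHom,
      fun q h1 h2 => e.injective ?_, fun g => ⟨e.symm (g, 1), by simp, by simp⟩⟩
    rw [map_one]
    exact Prod.ext h1 h2

theorem exists_pre (S : Sylow 3 G) (Z : Subgroup G)
    (hZ : Z = (S : Subgroup G) ⊓ Subgroup.centralizer ((S : Subgroup G) : Set G))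
    (C : Subgroup G) (hCZ : C = Subgroup.centralizer (Z : Set G))
    (Q : Subgroup G) (hQ : Q = (Cfsg.pCore 3 C).map C.subtype)
    (hQex : Cfsg.IsExtraspecial 3 Q) (hQcard : Nat.card Q = 3 ^ 5) (hQexp : ∀ a ∈ Q, a ^ 3 = 1)
    (hCQ : Subgroup.centralizer (Q : Set G) ≤ Q)
    (K : Subgroup G)
    (hK : K = ((Cfsg.pResidual 2 (C ⧸ Cfsg.pCore 3 C)).comap (QuotientGroup.mk' (Cfsg.pCore 3 C))).map C.subtype)
    (e : Nonempty (C ⧸ Cfsg.pCore 3 C ≃* SL2) ∨ Nonempty (C ⧸ Cfsg.pCore 3 C ≃* SL2 × C2)) :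
    ∃ T : Pre G, T.Z = Z ∧ T.Q = Q ∧ ∀ g, g ∈ K ↔ ∃ h : g ∈ T.C, T.η ⟨g, h⟩ = 1 := by
  classical
  haveI : Fact (Nat.Prime 3) := ⟨Nat.prime_three⟩
  obtain ⟨ρ, η, hinj, hsurj⟩ := exists_split C e
  have hSC : (S : Subgroup G) ≤ C := by
    intro s hs
    rw [hCZ, Subgroup.mem_centralizer_iff]
    intro x hx
    rw [hZ] at hx
    exact ((Subgroup.mem_centralizer_iff.1 hx.2) s hs).symm
  have hQC : Q ≤ C := hQ ▸ Subgroup.map_subtype_le _
  have hQS : Q ≤ (S : Subgroup G) := by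
    rintro x hx
    rw [hQ] at hx
    obtain ⟨y, hy, rfl⟩ := hx
    exact Subgroup.mem_subgroupOf.1 (Fusion.pCore_le_sylow (S.subtype hSC) hy)
  have hZQ : Z ≤ Q := fun x hx => hCQ (by
    rw [hZ] at hx
    exact Subgroup.centralizer_le (SetLike.coe_subset_coe.2 hQS) hx.2)
  have hZne : Z ≠ ⊥ := by
    haveI : Nontrivial (S : Subgroup G) := by
      refine Finite.one_lt_card_iff_nontrivial.1 ?_
      have h1 : Nat.card Q ≤ Nat.card (S : Subgroup G) :=
        Nat.le_of_dvd Nat.card_pos (Subgroup.card_dvd_of_le hQS)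
      rw [hQcard] at h1
      omega
    obtain ⟨⟨⟨x, hxS⟩, hxc⟩, hx1⟩ := @exists_ne _ S.isPGroup'.center_nontrivial 1
    intro h
    have hxZ : x ∈ Z := by
      rw [hZ]
      refine ⟨hxS, Subgroup.mem_centralizer_iff.2 fun s hs => ?_⟩
      exact congrArg Subtype.val (Subgroup.mem_center_iff.1 hxc ⟨s, hs⟩)
    rw [h, Subgroup.mem_bot] at hxZ
    exact hx1 (Subtype.ext (Subtype.ext hxZ))
  obtain ⟨⟨-, -, hcomm⟩, hcenter⟩ := hQex
  have hsub : Z.subgroupOf Q ≤ Subgroup.center Q := fun x hx => by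
    rw [Subgroup.mem_center_iff]
    intro y
    rw [Subgroup.mem_subgroupOf, hZ] at hx
    exact Subtype.ext ((Subgroup.mem_centralizer_iff.1 hx.2) y (hQS y.2))
  have hZcard : Nat.card Z = 3 := by
    have h1 : Nat.card Z ∣ 3 := by
      rw [← hcenter, ← Nat.card_congr (Subgroup.subgroupOfEquivOfLe hZQ).toEquiv]
      exact Subgroup.card_dvd_of_le hsub
    exact (Nat.prime_three.eq_one_or_self_of_dvd _ h1).resolve_left
      (fun h => hZne (Subgroup.eq_bot_of_card_eq Z h))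
  have hZcenter : Z.subgroupOf Q = Subgroup.center Q :=
    Subgroup.eq_of_le_of_card_ge hsub
      (by rw [hcenter, Nat.card_congr (Subgroup.subgroupOfEquivOfLe hZQ).toEquiv, hZcard])
  obtain ⟨⟨z, hzZ⟩, hz1'⟩ := Z.ne_bot_iff_exists_ne_one.1 hZne
  have hz1 : z ≠ 1 := fun h => hz1' (Subtype.ext h)
  have hord : orderOf z = 3 := orderOf_eq_prime (hQexp z (hZQ hzZ)) hz1
  have hzeq : Subgroup.zpowers z = Z :=
    Subgroup.eq_of_le_of_card_ge (Subgroup.zpowers_le.2 hzZ) (by rw [Nat.card_zpowers, hord, hZcard])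
  have hCz : Subgroup.centralizer ({z} : Set G) = C := by
    rw [hCZ, ← hzeq, Subgroup.zpowers_eq_closure, Subgroup.centralizer_closure]
  let ι : ↥(Subgroup.centralizer ({z} : Set G)) ≃* C := MulEquiv.subgroupCongr hCz
  let mk := QuotientGroup.mk' (Cfsg.pCore 3 C)
  have hker : ∀ c : C, ρ (mk c) = 1 ∧ η (mk c) = 1 ↔ (c : G) ∈ Q := fun c => by
    rw [show (ρ (mk c) = 1 ∧ η (mk c) = 1) ↔ mk c = 1 from
      ⟨fun h => hinj _ h.1 h.2, fun h => by simp [h]⟩]
    show (QuotientGroup.mk c : C ⧸ Cfsg.pCore 3 C) = 1 ↔ _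
    rw [QuotientGroup.eq_one_iff, hQ, Subgroup.mem_map]
    exact ⟨fun h => ⟨c, h, rfl⟩, fun ⟨y, hy, hyc⟩ => Subtype.ext hyc ▸ hy⟩
  have hcardQ : Nat.card (Cfsg.pCore 3 C) = 243 := by
    rw [← Subgroup.card_map_of_injective (f := C.subtype) C.subtype_injective, ← hQ, hQcard]
    norm_num
  have hcardC : Nat.card C ∣ 3 ^ 6 * 16 := by
    rw [Subgroup.card_eq_card_quotient_mul_card_subgroup (Cfsg.pCore 3 C), hcardQ]
    refine dvd_trans (Nat.mul_dvd_mul_right ?_ 243) (by norm_num : (24 * 2) * 243 ∣ 3 ^ 6 * 16)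
    have hi : Function.Injective (ρ.prod η) := (injective_iff_map_eq_one _).2 fun q h =>
      hinj q (congrArg Prod.fst h) (congrArg Prod.snd h)
    have h := Subgroup.card_dvd_of_injective _ hi
    rwa [Nat.card_prod, card_sl2, Nat.card_eq_fintype_card (α := C2), Fintype.card_multiplicative,
      ZMod.card] at h
  refine ⟨{
    z := z
    Q := Q
    ρ := (ρ.comp mk).comp ι.toMonoidHom
    η := (η.comp mk).comp ι.toMonoidHom
    hz := hord
    hzQ := hZQ hzZ
    card_Q := by rw [hQcard]; norm_num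
    exp := hQexp
    center := fun a ha h => by
      have hmem : (⟨a, ha⟩ : Q) ∈ Subgroup.center Q :=
        Subgroup.mem_center_iff.2 fun b => Subtype.ext (h b b.2).symm
      rw [← hZcenter, Subgroup.mem_subgroupOf] at hmem
      rwa [hzeq]
    com_mem := fun a ha b hb => by
      have hmem : ⁅(⟨a, ha⟩ : Q), ⟨b, hb⟩⁆ ∈ commutator Q :=
        Subgroup.commutator_mem_commutator (Subgroup.mem_top _) (Subgroup.mem_top _)
      rw [hcomm, ← hZcenter, Subgroup.mem_subgroupOf] at hmem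
      rw [hzeq]
      simpa [commutatorElement_def, com] using hmem
    normQ := by
      rw [hCz, hQ]
      intro c hc
      rw [Subgroup.mem_normalizer_iff]
      intro x
      constructor
      · rintro ⟨y, hy, rfl⟩
        exact ⟨⟨c, hc⟩ * y * ⟨c, hc⟩⁻¹, (inferInstance : (Cfsg.pCore 3 C).Normal).conj_mem y hy _, rfl⟩
      · rintro ⟨y, hy, hyx⟩
        refine ⟨⟨c, hc⟩⁻¹ * y * ⟨c, hc⟩, ?_, ?_⟩
        · simpa using (inferInstance : (Cfsg.pCore 3 C).Normal).conj_mem y hy (⟨c, hc⟩⁻¹)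
        · simp only [Subgroup.subtype_apply] at hyx ⊢
          push_cast
          rw [hyx]; group
    QC := hCz ▸ hQC
    self := hCQ
    ρsurj := fun g => by
      obtain ⟨q, hq1, hq2⟩ := hsurj g
      obtain ⟨c, rfl⟩ := QuotientGroup.mk'_surjective _ q
      exact ⟨ι.symm c, by simpa [mk] using hq1, by simpa [mk] using hq2⟩
    ρker := fun c => hker (ι c)
    sylow := fun P hP => by
      obtain ⟨S', hS'⟩ := hP.exists_le_sylow
      refine (Nat.le_of_dvd Nat.card_pos (Subgroup.card_dvd_of_le hS')).trans ?_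
      rw [S'.card_eq_multiplicity, ← S.card_eq_multiplicity]
      obtain ⟨n, hn⟩ := IsPGroup.iff_card.1 S.isPGroup'
      have h1 : (3 : ℕ) ^ n ∣ 3 ^ 6 * 16 := hn ▸ (Subgroup.card_dvd_of_le hSC).trans hcardC
      rw [hn]
      exact Nat.le_of_dvd (by norm_num) ((Nat.Coprime.pow_left n (by norm_num)).dvd_of_dvd_mul_right h1) },
    hzeq, rfl, fun g => ?_⟩
  rw [hK, Subgroup.mem_map]
  constructor
  · rintro ⟨c, hc, rfl⟩
    refine ⟨?_, (mem_residual ρ η hinj hsurj _).1 hc⟩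
    show (c : G) ∈ Subgroup.centralizer {z}
    exact hCz.symm ▸ c.2
  · rintro ⟨h, hη⟩
    exact ⟨ι ⟨g, h⟩, (mem_residual ρ η hinj hsurj _).2 hη, rfl⟩

/-- The local data of the recognition theorem. -/
theorem exists_loc (S : Sylow 3 G) (Z : Subgroup G)
    (hZ : Z = (S : Subgroup G) ⊓ Subgroup.centralizer ((S : Subgroup G) : Set G))
    (C : Subgroup G) (hCZ : C = Subgroup.centralizer (Z : Set G))
    (Q : Subgroup G) (hQ : Q = (Cfsg.pCore 3 C).map C.subtype)
    (hQex : Cfsg.IsExtraspecial 3 Q) (hQcard : Nat.card Q = 3 ^ 5) (hQexp : ∀ a ∈ Q, a ^ 3 = 1)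
    (hCQ : Subgroup.centralizer (Q : Set G) ≤ Q)
    (K : Subgroup G) (hK : K = ((Cfsg.pResidual 2 (C ⧸ Cfsg.pCore 3 C)).comap (QuotientGroup.mk' (Cfsg.pCore 3 C))).map C.subtype)
    (r : ℕ) (A : Fin (r + 1) → Subgroup G) (hA0 : A 0 = Z) (hAr : A (Fin.last r) = Q)
    (hmono : ∀ i : Fin r, A i.castSucc < A i.succ)
    (hinv : ∀ i : Fin (r + 1), ∀ k ∈ K, ∀ a ∈ A i, k * a * k⁻¹ ∈ A i)
    (hmax : ∀ i : Fin r, ∀ B : Subgroup G, A i.castSucc < B → B < A i.succ → ∃ k ∈ K, ∃ b ∈ B, k * b * k⁻¹ ∉ B)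
    (e : Nonempty (C ⧸ Cfsg.pCore 3 C ≃* SL2) ∨ Nonempty (C ⧸ Cfsg.pCore 3 C ≃* SL2 × C2))
    (hone : ∃! i : Fin r, (∃ k ∈ K, ∃ a ∈ A i.succ, k * a * k⁻¹ * a⁻¹ ∉ A i.castSucc)) :
    ∃ T : Loc G, T.toPre.Z = Z ∧ T.Q = Q := by
  classical
  obtain ⟨T, hTZ, hTQ, hTK⟩ := exists_pre S Z hZ C hCZ Q hQ hQex hQcard hQexp hCQ K hK e
  obtain ⟨l0, -, huniq⟩ := hone
  have hstrict : StrictMono A := Fin.strictMono_iff_lt_succ.2 hmono
  have hZA : ∀ i, T.Z ≤ A i := fun i => hTZ.trans hA0.symm ▸ hstrict.monotone (Fin.zero_le i)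
  have hAQ : ∀ i, A i ≤ T.Q := fun i => hTQ.trans hAr.symm ▸ hstrict.monotone (Fin.le_last i)
  let W : Fin (r + 1) → Subgroup T.V := fun i => ((A i).subgroupOf T.Q).map (QuotientGroup.mk' _)
  have hWmem : ∀ i (a : T.Q), T.bar a ∈ W i ↔ (a : G) ∈ A i := by
    intro i a
    constructor
    · rintro ⟨b, hb, hab⟩
      have h := T.bar_eq.1 hab
      rw [SetLike.mem_coe, Subgroup.mem_subgroupOf] at hb
      have := mul_mem hb (hZA i h)
      simpa [mul_assoc] using this
    · intro ha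
      exact ⟨a, Subgroup.mem_subgroupOf.2 ha, rfl⟩
  have hKlift : ∀ g : SL2, ∃ c : T.C, T.ρ c = g ∧ T.η c = 1 ∧ (c : G) ∈ K := fun g => by
    obtain ⟨c, hc, hc'⟩ := T.ρsurj g
    exact ⟨c, hc, hc', (hTK c).2 ⟨c.2, hc'⟩⟩
  have hWinv : ∀ i g, ∀ b ∈ W i, T.act g b ∈ W i := by
    intro i g b hb
    obtain ⟨a, rfl⟩ := T.bar_surj b
    obtain ⟨c, rfl, hc, hcK⟩ := hKlift g
    rw [T.act_bar hc, hWmem]
    exact hinv i c hcK a ((hWmem i a).1 hb)
  have hWle : ∀ {i j}, i ≤ j → W i ≤ W j := fun h =>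
    Subgroup.map_mono (Subgroup.comap_mono (hstrict.monotone h))
  have hW0 : ∀ v ∈ W 0, v = 1 := fun v hv => by
    obtain ⟨a, rfl⟩ := T.bar_surj v
    have := (hWmem 0 a).1 hv
    rw [hA0, ← hTZ] at this
    exact T.bar_eq_one.2 this
  have hWlast : ∀ v, v ∈ W (Fin.last r) := fun v => by
    obtain ⟨a, rfl⟩ := T.bar_surj v
    rw [hWmem, hAr, ← hTQ]
    exact a.2
  have htriv : ∀ l : Fin r, l ≠ l0 → ∀ g, ∀ v ∈ W l.succ, T.act g v * v⁻¹ ∈ W l.castSucc := by
    intro l hl g v hv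
    obtain ⟨a, rfl⟩ := T.bar_surj v
    obtain ⟨c, rfl, hc, hcK⟩ := hKlift g
    rw [T.act_bar hc, ← Pre.bar_inv, ← Pre.bar_mul, hWmem]
    by_contra h
    exact hl (huniq l ⟨c, hcK, a, (hWmem _ a).1 hv, h⟩)
  have hirr : ∀ B : Subgroup T.V, W l0.castSucc ≤ B → B ≤ W l0.succ →
      (∀ g, ∀ v ∈ B, T.act g v ∈ B) → B = W l0.castSucc ∨ B = W l0.succ := by
    intro B h1 h2 h3
    let B' : Subgroup G := (B.comap (QuotientGroup.mk' _)).map T.Q.subtype
    have hmem : ∀ a : T.Q, (a : G) ∈ B' ↔ T.bar a ∈ B := fun a =>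
      ⟨fun ⟨b, hb, hba⟩ => Subtype.ext hba ▸ hb, fun h => ⟨a, h, rfl⟩⟩
    have hlo : A l0.castSucc ≤ B' := fun x hx =>
      (hmem ⟨x, hAQ _ hx⟩).2 (h1 ((hWmem _ ⟨x, hAQ _ hx⟩).2 hx))
    have hhi : B' ≤ A l0.succ := fun x hx => by
      have hxQ : x ∈ T.Q := by obtain ⟨b, -, rfl⟩ := hx; exact b.2
      exact (hWmem _ ⟨x, hxQ⟩).1 (h2 ((hmem ⟨x, hxQ⟩).1 hx))
    rcases hlo.lt_or_eq with e1 | e1
    · rcases hhi.lt_or_eq with e2 | e2
      · obtain ⟨k, hk, b, hb, hkb⟩ := hmax l0 B' e1 e2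
        obtain ⟨hkC, hkη⟩ := (hTK k).1 hk
        have hbQ : b ∈ T.Q := by obtain ⟨a, -, rfl⟩ := hb; exact a.2
        refine absurd ((hmem ⟨k * b * k⁻¹, T.conj_Q hkC hbQ⟩).2 ?_) hkb
        have := h3 (T.ρ ⟨k, hkC⟩) _ ((hmem ⟨b, hbQ⟩).1 hb)
        rwa [T.act_bar hkη] at this
      · refine Or.inr (le_antisymm h2 fun v hv => ?_)
        obtain ⟨a, rfl⟩ := T.bar_surj v
        exact (hmem a).1 (e2 ▸ (hWmem _ a).1 hv)
    · refine Or.inl (le_antisymm (fun v hv => ?_) h1)
      obtain ⟨a, rfl⟩ := T.bar_surj v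
      exact (hWmem _ a).2 (e1 ▸ (hmem a).2 hv)
  have hn : ∃ v, T.act (-1) v ≠ v := by
    by_contra h
    push Not at h
    obtain ⟨c, hc, hc'⟩ := T.ρsurj (-1)
    have h2 : ((c : G) ^ 2) ∈ T.Q := (T.ρker (c ^ 2)).1
      ⟨by rw [map_pow, hc]; decide +kernel, by rw [map_pow, hc', one_pow]⟩
    have h6 : (c : G) ^ 6 = 1 := by rw [show (6 : ℕ) = 2 * 3 from rfl, pow_mul]; exact T.exp _ h2
    let u : G := (c : G) ^ 3
    have huC : u ∈ T.C := pow_mem c.2 3
    have huρ : T.ρ (c ^ 3) = -1 := by rw [map_pow, hc]; decide +kernel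
    have huη : T.η (c ^ 3) = 1 := by rw [map_pow, hc', one_pow]
    have hcent : u ∈ Subgroup.centralizer (T.Q : Set G) := by
      refine Subgroup.mem_centralizer_iff.2 fun a ha => ?_
      have e1 := h (T.bar ⟨a, ha⟩)
      rw [← huρ, T.act_bar huη] at e1
      obtain ⟨q, hq, he⟩ : ∃ q ∈ T.Z, u * a * u⁻¹ = q * a := by
        refine ⟨u * a * u⁻¹ * a⁻¹, ?_, by group⟩
        have h' := T.bar_eq.1 e1.symm
        push_cast at h'
        have h'' := T.conj_Z (T.Q_le_C ha) h'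
        have hu' : u = ((c ^ 3 : T.C) : G) := by simp [u]
        have e2 : u * a * u⁻¹ * a⁻¹ = a⁻¹ * (((c ^ 3 : T.C) : G) * a * ((c ^ 3 : T.C) : G)⁻¹) := by
          rw [hu']
          simp only [Subgroup.coe_pow] at h'' ⊢
          conv_rhs => rw [← h'']
          group
        rw [e2]
        simpa using h'
      have h1 := PSLFourThree.fixes_of_stab (n := 1) (by rw [← pow_mul]; exact h6) he
        (T.conj_Z huC hq) (T.exp q (T.Z_le hq))
      rw [h1, one_mul, mul_inv_eq_iff_eq_mul] at he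
      exact he.symm
    have huQ := T.self hcent
    have := (T.ρker (c ^ 3)).2 (by simpa [u] using huQ)
    rw [huρ] at this
    exact absurd this.1 (by decide +kernel)
  -- the fixed points of the central involution avoid the nontrivial factor
  have hp0 : ∀ v ∈ W l0.succ, v ∈ T.plus → v ∈ W l0.castSucc := by
    have hB := hirr (W l0.castSucc ⊔ (W l0.succ ⊓ T.plus)) le_sup_left
      (sup_le (hWle (Fin.castSucc_lt_succ).le) inf_le_left) (fun g v hv => by
        obtain ⟨a, ha, b, hb, rfl⟩ := Subgroup.mem_sup.1 hv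
        rw [map_mul]
        exact mul_mem (Subgroup.mem_sup_left (hWinv _ g a ha))
          (Subgroup.mem_sup_right ⟨hWinv _ g b hb.1, T.act_plus g hb.2⟩))
    rcases hB with hB | hB
    · exact fun v h1 h2 => hB ▸ Subgroup.mem_sup_right ⟨h1, h2⟩
    exfalso
    have hall : ∀ l : Fin r, ∀ v ∈ W l.succ, T.act (-1) v * v⁻¹ ∈ W l.castSucc := by
      intro l v hv
      by_cases hl : l = l0
      · subst hl
        rw [← hB] at hv
        obtain ⟨a, ha, b, hb, rfl⟩ := Subgroup.mem_sup.1 hv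
        rw [map_mul, T.mem_plus.1 hb.2, mul_inv, show T.act (-1) a * b * (a⁻¹ * b⁻¹) =
          T.act (-1) a * a⁻¹ * (b * b⁻¹) by ac_rfl, mul_inv_cancel, mul_one]
        exact mul_mem (hWinv _ _ a ha) (inv_mem ha)
      · exact htriv l hl _ v hv
    have hfix : ∀ i : Fin (r + 1), ∀ v ∈ W i, T.act (-1) v = v := by
      intro i
      induction i using Fin.induction with
      | zero => intro v hv; rw [hW0 v hv, map_one]
      | succ l ih =>
        intro v hv
        set d := T.act (-1) v * v⁻¹ with hd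
        have hdl := ih d (hall l v hv)
        have e1 : T.act (-1) v = d * v := by rw [hd, inv_mul_cancel_right]
        have e2 := T.act_neg_neg v
        rw [e1, map_mul, hdl, e1, ← mul_assoc, mul_eq_right] at e2
        rw [e1, T.sq_inj e2, one_mul]
    obtain ⟨v, hv⟩ := hn
    exact hv (hfix _ v (hWlast v))
  have hquat : ∀ γ : SL2, γ ^ 8 = 1 → ∀ i : Fin (r + 1), ∀ v ∈ W i, v ∈ T.plus → T.act γ v = v := by
    intro γ hγ i
    induction i using Fin.induction with
    | zero => intro v hv _; rw [hW0 v hv, map_one]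
    | succ l ih =>
      intro v hv hp
      by_cases hl : l = l0
      · subst hl; exact ih v (hp0 v hv hp) hp
      obtain ⟨d, hd⟩ : ∃ d, d = T.act γ v * v⁻¹ := ⟨_, rfl⟩
      have hdl := ih d (hd ▸ htriv l hl γ v hv) (hd ▸ mul_mem (T.act_plus γ hp) (inv_mem hp))
      have e1 : T.act γ v = d * v := by rw [hd, inv_mul_cancel_right]
      have key : ∀ k : ℕ, T.act (γ ^ k) v = d ^ k * v := by
        intro k
        induction k with
        | zero => rw [pow_zero, pow_zero, T.act_one, one_mul]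
        | succ k ihk => rw [pow_succ', T.act_mul, ihk, map_mul, map_pow, hdl, e1, pow_succ, mul_assoc]
      have h8 := key 8
      rw [hγ, T.act_one] at h8
      have hd8 : d ^ 8 = 1 := by
        have := h8.symm
        rwa [mul_eq_right] at this
      have hd1 : d = 1 := by
        have e : d = (d ^ 3) ^ 3 * (d ^ 8)⁻¹ := by
          rw [← pow_mul, show (3 * 3 : ℕ) = 8 + 1 from rfl, pow_succ, mul_comm (d ^ 8), mul_inv_cancel_right]
        rw [e, T.V_cube, hd8, inv_one]; simp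
      rw [e1, hd1, one_mul]
  -- the inverted elements are a complement of the nontrivial factor
  have hstep : ∀ l : Fin r, l ≠ l0 → ∀ v ∈ W l.succ, v ∈ T.minus → v ∈ W l.castSucc := by
    intro l hl v hv hm
    have h := htriv l hl (-1) v hv
    rw [T.mem_minus.1 hm, ← mul_inv] at h
    exact eq_one_of_self_inv T.V_cube (inv_mem_iff.1 h)
  have hlow : ∀ i : Fin (r + 1), i ≤ l0.castSucc → ∀ v ∈ W i, v ∈ T.minus → v = 1 := by
    intro i
    induction i using Fin.induction with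
    | zero => intro _ v hv _; exact hW0 v hv
    | succ l ih =>
      intro hle v hv hm
      have hl : l ≠ l0 := fun e => by subst e; simp [Fin.le_def] at hle
      exact ih (le_trans (Fin.castSucc_lt_succ).le hle) v (hstep l hl v hv hm) hm
  have hhigh : ∀ i : Fin (r + 1), ∀ v ∈ W i, v ∈ T.minus → v ∈ W l0.succ := by
    intro i
    induction i using Fin.induction with
    | zero => intro v hv _; rw [hW0 v hv]; exact one_mem _
    | succ l ih =>
      intro v hv hm
      by_cases hl : l = l0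
      · subst hl; exact hv
      exact ih v (hstep l hl v hv hm) hm
  have hM : ∀ v ∈ T.minus, v ∈ W l0.succ := fun v hm => hhigh _ v (hWlast v) hm
  have hminus : Nat.card T.minus = 9 := by
    let f : SL2 →* MulAut T.minus :=
      { toFun := fun g =>
          { toFun := fun v => ⟨T.act g v, T.act_minus g v.2⟩
            invFun := fun v => ⟨T.act g⁻¹ v, T.act_minus g⁻¹ v.2⟩
            left_inv := fun v => Subtype.ext (by dsimp only; rw [← T.act_mul, inv_mul_cancel, T.act_one])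
            right_inv := fun v => Subtype.ext (by dsimp only; rw [← T.act_mul, mul_inv_cancel, T.act_one])
            map_mul' := fun a b => Subtype.ext (map_mul (T.act g) (a : T.V) b) }
        map_one' := MulEquiv.ext fun v => Subtype.ext (T.act_one v)
        map_mul' := fun g h => MulEquiv.ext fun v => Subtype.ext (T.act_mul g h v) }
    have hne : Nontrivial T.minus := by
      obtain ⟨v, hv⟩ := hn
      refine ⟨⟨⟨v * (T.act (-1) v)⁻¹, ?_⟩, 1, fun h => hv ?_⟩⟩
      · rw [T.mem_minus, map_mul, map_inv, T.act_neg_neg, mul_inv, inv_inv, mul_comm]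
      · exact (mul_inv_eq_one.1 (congrArg Subtype.val h)).symm
    obtain ⟨U, hU, hUinv⟩ := exists_nine f (fun v => Subtype.ext (by simpa using T.V_cube v))
      (fun v => Subtype.ext v.2) hne
    let U' : Subgroup T.V := U.map T.minus.subtype
    have hU' : U' ≤ T.minus := Subgroup.map_subtype_le U
    have hUc : Nat.card U' = 9 := by rw [Subgroup.card_map_of_injective T.minus.subtype_injective, hU]
    have hB := hirr (W l0.castSucc ⊔ U') le_sup_left
      (sup_le (hWle (Fin.castSucc_lt_succ).le) fun v hv => hM v (hU' hv)) (fun g v hv => by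
        obtain ⟨a, ha, b, ⟨b', hb, rfl⟩, rfl⟩ := Subgroup.mem_sup.1 hv
        rw [map_mul]
        exact mul_mem (Subgroup.mem_sup_left (hWinv _ g a ha))
          (Subgroup.mem_sup_right ⟨f g b', hUinv g b' hb, rfl⟩))
    rcases hB with hB | hB
    · have hbot : U' = ⊥ := by
        rw [Subgroup.eq_bot_iff_forall]
        exact fun v hv => hlow _ le_rfl v (hB ▸ Subgroup.mem_sup_right hv) (hU' hv)
      rw [hbot, Subgroup.card_bot] at hUc
      norm_num at hUc
    · rw [← hUc]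
      congr 1
      congr 1
      refine le_antisymm (fun v hv => ?_) hU'
      obtain ⟨a, ha, b, hb, rfl⟩ := Subgroup.mem_sup.1 (hB ▸ hM v hv)
      have ha' : a ∈ T.minus := (Subgroup.mul_mem_cancel_right _ (hU' hb)).1 hv
      rw [hlow _ le_rfl a ha ha', one_mul]
      exact hb
  refine ⟨⟨T, ?_, hminus, fun γ hγ v hv => hquat γ hγ _ v (hWlast v) hv⟩, hTZ, hTQ⟩
  have := T.card_split
  rw [hminus] at this
  omega

end Cfsg.Agent.Spor.OmegaEightThree
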