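import Cfsg.Agent.Lib.Spor.OmegaEightThree.Classify

/-!
Every elementary abelian subgroup of order `81` of `C` is conjugate in `C` to `E`; so `N(E)` is
transitive on the conjugates of `z^{±1}` in `E`.
-/

set_option autoImplicit false
set_option linter.unusedSectionVars false
set_option maxHeartbeats 1600000

namespace Cfsg.Agent.Spor.OmegaEightThree

open Cfsg.Agent.Spor.PSLFourThree (com)

local notation "SL2" => Matrix.SpecialLinearGroup (Fin 2) (ZMod 3)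

namespace Loc

variable {G : Type*} [Group G] [Finite G] {T : Loc G}

namespace Frame

variable (F : Frame T)

theorem E_comm {a b : G} (ha : a ∈ F.E) (hb : b ∈ F.E) : a * b = b * a := by
  obtain ⟨v, rfl⟩ := F.mem_E_iff.1 ha
  obtain ⟨w, rfl⟩ := F.mem_E_iff.1 hb
  exact F.el_comm v w

theorem z_mem_E : T.z ∈ F.E := F.el_z ▸ F.el_mem _

theorem n_mem_E : F.n ∈ F.E := F.el_n ▸ F.el_mem _

theorem r_mem_E : F.r ∈ F.E := F.el_r ▸ F.el_mem _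

theorem f_mem_E : F.f ∈ F.E := F.el_f ▸ F.el_mem _

/-- An elementary abelian subgroup of order `81` of `C` is conjugate into `E` inside `O^2(C)`. -/
theorem conj_into_E {E' : Subgroup G} (hC : E' ≤ T.C) (hcard : Nat.card E' = 81)
    (hab : ∀ a ∈ E', ∀ b ∈ E', a * b = b * a) (hexp : ∀ a ∈ E', a ^ 3 = 1) :
    ∃ k : T.C, T.η k = 1 ∧ E'.map (MulAut.conj (k : G)).toMonoidHom = F.E := by
  classical
  haveI : Fact (Nat.Prime 3) := ⟨Nat.prime_three⟩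
  have hη : ∀ (a : G) (ha : a ∈ E'), T.η ⟨a, hC ha⟩ = 1 := fun a ha =>
    T.η_cube (n := 1) (Subtype.ext (by rw [pow_one, Subgroup.coe_pow]; exact hexp a ha))
  obtain ⟨c, hc, hcQ⟩ : ∃ c ∈ E', c ∉ T.Q := by
    by_contra h
    push Not at h
    have := T.comm_card_le E' h hab
    omega
  set γ := T.ρ ⟨c, hC hc⟩ with hγdef
  have hγ3 : γ ^ 3 = 1 := by
    rw [hγdef, ← map_pow, show (⟨c, hC hc⟩ : T.C) ^ 3 = 1 from Subtype.ext (hexp c hc), map_one]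
  have hγ1 : γ ≠ 1 := fun h => hcQ ((T.ρker ⟨c, hC hc⟩).1 ⟨h, hη c hc⟩)
  set σ := T.ρ ⟨F.f, F.f_C⟩ with hσdef
  have hσ3 : σ ^ 3 = 1 := by
    rw [hσdef, ← map_pow, show (⟨F.f, F.f_C⟩ : T.C) ^ 3 = 1 from Subtype.ext F.f_cube, map_one]
  have hσ1 : σ ≠ 1 := F.ρ_f_ne
  obtain ⟨P, hP⟩ : ∃ P : SL2, P * γ * P⁻¹ = σ ∨ P * γ * P⁻¹ = σ⁻¹ := by
    obtain ⟨A, hA⟩ := PSLFourThree.exists_conj_x2 γ hγ3 hγ1
    obtain ⟨B, hB⟩ := PSLFourThree.exists_conj_x2 σ hσ3 hσ1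
    refine ⟨B * A⁻¹, ?_⟩
    rcases hA with hA | hA <;> rcases hB with hB | hB <;> rw [hA, hB]
    · left; group
    · right; group
    · right; group
    · left; group
  obtain ⟨k, hk, hk'⟩ := T.ρsurj P
  refine ⟨k, hk', ?_⟩
  set E'' := E'.map (MulAut.conj (k : G)).toMonoidHom with hE''
  have hE''card : Nat.card E'' = 81 := by
    rw [hE'', Subgroup.card_map_of_injective (MulAut.conj (k : G)).injective, hcard]
  have hE''ab : ∀ a ∈ E'', ∀ b ∈ E'', a * b = b * a := by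
    rintro _ ⟨a, ha, rfl⟩ _ ⟨b, hb, rfl⟩
    rw [← map_mul, ← map_mul, hab a ha b hb]
  have hE''C : E'' ≤ T.C := by
    rintro _ ⟨a, ha, rfl⟩
    exact mul_mem (mul_mem k.2 (hC ha)) (inv_mem k.2)
  have hE''exp : ∀ a ∈ E'', a ^ 3 = 1 := by
    rintro _ ⟨a, ha, rfl⟩
    rw [← map_pow, hexp a ha, map_one]
  have hη'' : ∀ (a : G) (ha : a ∈ E''), T.η ⟨a, hE''C ha⟩ = 1 := fun a ha =>
    T.η_cube (n := 1) (Subtype.ext (by rw [pow_one, Subgroup.coe_pow]; exact hE''exp a ha))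
  let c' : T.C := k * ⟨c, hC hc⟩ * k⁻¹
  have hc' : (c' : G) ∈ E'' := ⟨c, hc, rfl⟩
  have hρc' : T.ρ c' = σ ∨ T.ρ c' = σ⁻¹ := by
    rw [map_mul, map_mul, map_inv, hk]; exact hP
  have hσn : ∀ v, T.act (T.ρ c') v = v → T.act σ v = v := by
    intro v hv
    rcases hρc' with e | e <;> rw [e] at hv
    · exact hv
    · conv_lhs => rw [← hv]
      rw [← T.act_mul, mul_inv_cancel, T.act_one]
  -- `E'' ∩ Q` lies in the plane of `n` and `r`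
  have hQE : ∀ a ∈ E'', a ∈ T.Q → a * F.n = F.n * a ∧ a * F.r = F.r * a := by
    intro a ha haQ
    have hfix : T.act σ (T.bar ⟨a, haQ⟩) = T.bar ⟨a, haQ⟩ := by
      refine hσn _ ?_
      rw [T.act_bar (hη'' (c' : G) hc' : T.η c' = 1)]
      refine congrArg T.bar (Subtype.ext ?_)
      show (c' : G) * a * (c' : G)⁻¹ = a
      rw [hE''ab _ hc' a ha, mul_inv_cancel_right]
    obtain ⟨_, ⟨i, rfl⟩, _, ⟨j, rfl⟩, hij⟩ := Subgroup.mem_sup.1 (fixed_plane F.ht F.hg F.comps.hn F.comps.hr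
      F.comps.he F.comps.hn1 F.comps.cent hσ3 hσ1 F.act_f_n hfix)
    obtain ⟨l, hl⟩ := Subgroup.mem_zpowers_iff.1 (T.bar_eq.1
      (show T.bar ((⟨F.r, F.r_mem⟩ : T.Q) ^ i * ⟨F.n, F.n_mem⟩ ^ j) = T.bar ⟨a, haQ⟩ from hij))
    have haE : a ∈ F.E := by
      rw [show a = F.r ^ i * F.n ^ j * ((F.r ^ i * F.n ^ j)⁻¹ * a) by group]
      refine mul_mem (mul_mem (Subgroup.zpow_mem _ F.r_mem_E _) (Subgroup.zpow_mem _ F.n_mem_E _)) ?_
      push_cast at hl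
      rw [← hl]
      exact Subgroup.zpow_mem _ F.z_mem_E _
    exact ⟨F.E_comm haE F.n_mem_E, F.E_comm haE F.r_mem_E⟩
  let S : Subgroup G := E'' ⊓ T.Q
  let ψ : E'' →* SL2 := T.ρ.comp (Subgroup.inclusion hE''C)
  have hψker : ψ.ker.map E''.subtype = S := by
    ext x
    constructor
    · rintro ⟨a, ha, rfl⟩
      exact ⟨a.2, (T.ρker ⟨a, hE''C a.2⟩).1 ⟨MonoidHom.mem_ker.1 ha, hη'' a a.2⟩⟩
    · rintro ⟨hx, hxQ⟩
      exact ⟨⟨x, hx⟩, MonoidHom.mem_ker.2 ((T.ρker ⟨x, hE''C hx⟩).2 hxQ).1, rfl⟩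
  have hScard : 27 ≤ Nat.card S := by
    rw [← hψker, Subgroup.card_map_of_injective E''.subtype_injective]
    have h := ψ.ker.card_eq_card_quotient_mul_card_subgroup
    rw [hE''card, Nat.card_congr (QuotientGroup.quotientKerEquivRange ψ).toEquiv] at h
    have h3 : Nat.card ψ.range ≤ 3 := by
      have hd : Nat.card ψ.range ∣ 81 := hE''card ▸ Subgroup.card_range_dvd ψ
      have hd' : Nat.card ψ.range ∣ 24 := by
        have h := Subgroup.card_subgroup_dvd_card ψ.range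
        rwa [Nat.card_eq_fintype_card (α := SL2), show Fintype.card SL2 = 24 by decide +kernel] at h
      exact Nat.le_of_dvd (by norm_num) (Nat.dvd_gcd hd hd')
    nlinarith [Nat.card_pos (α := ψ.ker)]
  have hSE : S = F.E ⊓ T.Q := by
    refine Subgroup.eq_of_le_of_card_ge (fun a ha =>
      ⟨F.mem_E_of_Q ha.2 (hQE a ha.1 ha.2).1 (hQE a ha.1 ha.2).2, ha.2⟩) ?_
    have h27 := T.comm_card_le (F.E ⊓ T.Q) inf_le_right fun a ha b hb => F.E_comm ha.1 hb.1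
    omega
  have hnS : F.n ∈ S := hSE ▸ ⟨F.n_mem_E, F.n_mem⟩
  have hrS : F.r ∈ S := hSE ▸ ⟨F.r_mem_E, F.r_mem⟩
  refine Subgroup.eq_of_le_of_card_ge (fun a ha => F.mem_E_of_C (c := ⟨a, hE''C ha⟩) (hη'' a ha)
    (hE''ab a ha _ hnS.1) (hE''ab a ha _ hrS.1)) ?_
  rw [F.card_E, hE''card]

/-- `N(E)` is transitive on the conjugates of `z^{±1}` in `E`. -/
theorem exists_norm_to {x : G} (hx : x ∈ F.E) (hxZ : T.IsZ x) :
    ∃ k ∈ Subgroup.normalizer (F.E : Set G), k * T.z * k⁻¹ = x ∨ k * T.z * k⁻¹ = x⁻¹ := by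
  classical
  obtain ⟨h, hh⟩ := hxZ.cases
  obtain ⟨y, hyE, hy, hy'⟩ : ∃ y, y ∈ F.E ∧ h * T.z * h⁻¹ = y ∧ (y = x ∨ y = x⁻¹) := by
    rcases hh with hh | hh
    · exact ⟨x, hx, hh, Or.inl rfl⟩
    · exact ⟨x⁻¹, inv_mem hx, hh, Or.inr rfl⟩
  let E' := F.E.map (MulAut.conj h⁻¹).toMonoidHom
  have hC : E' ≤ T.C := by
    rintro _ ⟨a, ha, rfl⟩
    refine T.mem_C.2 ?_
    show h⁻¹ * a * h⁻¹⁻¹ * T.z = T.z * (h⁻¹ * a * h⁻¹⁻¹)
    calc h⁻¹ * a * h⁻¹⁻¹ * T.z = h⁻¹ * (a * y) * h := by rw [← hy]; group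
      _ = h⁻¹ * (y * a) * h := by rw [F.E_comm ha hyE]
      _ = T.z * (h⁻¹ * a * h⁻¹⁻¹) := by rw [← hy]; group
  obtain ⟨k, -, hk⟩ := F.conj_into_E (E' := E') hC
    (by rw [Subgroup.card_map_of_injective (MulAut.conj h⁻¹).injective, F.card_E])
    (by rintro _ ⟨a, ha, rfl⟩ _ ⟨b, hb, rfl⟩; rw [← map_mul, ← map_mul, F.E_comm ha hb])
    (by rintro _ ⟨a, ha, rfl⟩; obtain ⟨v, rfl⟩ := F.mem_E_iff.1 ha; rw [← map_pow, F.el_cube, map_one])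
  have hnorm : (k : G) * h⁻¹ ∈ Subgroup.normalizer (F.E : Set G) := by
    refine Subgroup.mem_normalizer_fintype fun a ha => ?_
    have : (MulAut.conj (k : G)).toMonoidHom ((MulAut.conj h⁻¹).toMonoidHom a) ∈ F.E :=
      hk ▸ ⟨_, ⟨a, ha, rfl⟩, rfl⟩
    rw [SetLike.mem_coe]
    simpa [MulAut.conj_apply, mul_assoc] using this
  refine ⟨((k : G) * h⁻¹)⁻¹, inv_mem hnorm, ?_⟩
  have e : ((k : G) * h⁻¹)⁻¹ * T.z * ((k : G) * h⁻¹)⁻¹⁻¹ = y := by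
    rw [← hy, show ((k : G) * h⁻¹)⁻¹ * T.z * ((k : G) * h⁻¹)⁻¹⁻¹ = h * ((k : G)⁻¹ * T.z * (k : G)⁻¹⁻¹) * h⁻¹ by group,
      T.conj_Z (inv_mem k.2) T.z_mem]
  rw [e]
  exact hy'

end Frame

end Loc

end Cfsg.Agent.Spor.OmegaEightThree
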