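import Cfsg.Agent.Lib.Spor.OmegaEightThree.Axis
import Cfsg.Agent.Lib.Spor.OmegaEightThree.QuatGroup

/-!
The level of the subgroup of index three: the four quaternion groups of `C_G(t)` and the centraliser of a
singular point.
-/

set_option autoImplicit false
set_option linter.unusedSectionVars false
set_option maxHeartbeats 1000000
set_option maxRecDepth 100000

namespace Cfsg.Agent.Spor.OmegaEightThree

open Cfsg.Agent.Spor.PSLFourThree (com)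
open X (Vec wt mono dot)

local notation "SL2" => Matrix.SpecialLinearGroup (Fin 2) (ZMod 3)
local notation "C3" => Multiplicative (ZMod 3)

theorem c3_four : ∀ x : C3, x ^ 4 = 1 → x = 1 := by decide

namespace Loc

theorem dot_bil : ∀ h v : Vec, bil (ePt v) (ePt h) = 2 * dot h v := by decide +kernel

theorem dot_mono : ∀ (ε : Fin 3 → (ZMod 3)ˣ) (h v : Vec), dot (mono 1 ε h) (mono 1 ε v) = dot h v := by
  decide +kernel

theorem wt_mono : ∀ (ε : Fin 3 → (ZMod 3)ˣ) (v : Vec), wt (mono 1 ε v) = wt v := by decide +kernel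

theorem mono_neg : ∀ (ε : Fin 3 → (ZMod 3)ˣ) (v : Vec), mono 1 ε (-v) = -mono 1 ε v := by decide +kernel

theorem ePt_neg : ∀ v : Vec, ePt (-v) = -ePt v := by decide +kernel

theorem conjU_t : ∀ a b c d : ZMod 3, Frame.mU
    ![(Frame.mU ![a, -b, c, d]) 0, -(Frame.mU ![a, -b, c, d]) 1, (Frame.mU ![a, -b, c, d]) 2,
      (Frame.mU ![a, -b, c, d]) 3] = ![a, b, c, d] := by decide +kernel

variable {G : Type*} [Group G] [Finite G]

/-- The data at the level of the subgroup of index three. -/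
structure Level (T : Loc G) where
  F : Frame T
  hF : F.Classified
  hS : T.Single
  φ : G →* C3
  q₀ : G
  q₀Q : q₀ ∈ T.Q
  q₀t : F.t * q₀ = q₀ * F.t
  hV : F.Act q₀ Frame.mV
  hφ : φ q₀ ≠ 1

variable {T : Loc G}

theorem exists_level {F : Frame T} (hF : F.Classified) (hS : T.Single) : Nonempty (Level T) := by
  obtain ⟨φ, q, hq, hqt, hV, hφ⟩ := hF.exists_index_three hS
  exact ⟨⟨F, hF, hS, φ, q, hq, hqt, hV, hφ⟩⟩

namespace Level

variable (L : Level T)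

theorem φ_invol {g : G} (h : g * g = 1) : L.φ g = 1 := c3_two _ (by rw [← map_mul, h, map_one])

theorem φ_four {g : G} (h : g ^ 4 = 1) : L.φ g = 1 := c3_four _ (by rw [← map_pow, h, map_one])

theorem φ_U {q : G} (hq : q ∈ T.Q) (hU : L.F.Act q Frame.mU) (hE : ∀ v, L.φ (L.F.el v) = 1) : L.φ q = 1 := by
  have hA := hU.mul ((L.F.act_t.mul hU).mul L.F.act_t)
  have hx : q * (L.F.t * q * L.F.t) ∈ L.F.E := L.hF.cent_E fun v => mul_inv_eq_iff_eq_mul.1 (by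
    rw [hA]
    simp only [Function.comp_apply]
    congr 1
    rw [conjU_t]
    exact (four_eta v).symm)
  obtain ⟨y, hy⟩ := L.F.mem_E_iff.1 hx
  have h := congrArg L.φ hy
  rw [hE, map_mul, map_mul, map_mul, L.φ_invol L.F.ht.sq, one_mul, mul_one] at h
  exact c3_two _ h.symm

theorem φE (v : Four) : L.φ (L.F.el v) = 1 := by
  obtain ⟨q₁, -, hU⟩ := L.hF.exists_U
  have hz : L.φ T.z = 1 := by
    have h := congrArg L.φ (hU ![0, 1, 0, 0])
    rw [translate_moves.1, L.F.el_mul, L.F.el_z, map_mul, map_mul, map_inv, mul_comm (L.φ q₁),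
      mul_inv_cancel_right, map_mul] at h
    exact left_eq_mul.1 (h.trans (mul_comm _ _))
  have hmove : ∀ (g : G) (ψ : Four → Four), L.F.Act g ψ → ∀ u : Four, ψ ![0, 0, 0, 1] = u + ![0, 0, 0, 1] →
      L.φ (L.F.el u) = 1 := by
    intro g ψ hg u hu
    have h := congrArg L.φ (hg ![0, 0, 0, 1])
    rw [hu, L.F.el_mul, map_mul, map_mul, map_inv, mul_comm (L.φ g), mul_inv_cancel_right, map_mul] at h
    exact right_eq_mul.1 h
  have hn : L.φ L.F.n = 1 := by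
    have h := hmove _ _ hU ![-1, 1, 0, 0] (by funext i; fin_cases i <;> simp [Frame.mU])
    rw [Frame.el, map_mul, map_mul, map_mul, map_pow, map_pow, map_pow, map_pow, hz] at h
    simpa [ZMod.val_one] using h
  have hr : L.φ L.F.r = 1 := by
    have h := hmove _ _ L.hV ![1, 0, -1, 0] (by funext i; fin_cases i <;> simp [Frame.mV])
    rw [Frame.el, map_mul, map_mul, map_mul, map_pow, map_pow, map_pow, map_pow, hz,
      show ((![1, 0, -1, 0] : Four) 2).val = 2 from rfl] at h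
    simp at h
    exact c3_two _ (by rw [← pow_two]; exact h)
  have hf : L.φ L.F.f = 1 := by
    obtain ⟨g, hg | hg⟩ := L.F.f_Z
    · rw [← hg, map_mul, map_mul, map_inv, hz, mul_one, mul_inv_cancel]
    · rw [← hg, map_mul, map_mul, map_inv, map_inv, hz, inv_one, mul_one, mul_inv_cancel]
  simp [Frame.el, hz, hn, hr, hf]

theorem sign (ε : Fin 3 → (ZMod 3)ˣ) :
    ∃ g : G, g * L.F.t = L.F.t * g ∧ g * g = 1 ∧ L.φ g = 1 ∧ L.F.ActA g (mono 1 ε) := by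
  obtain ⟨g, h1, h2, h3⟩ := L.hF.exists_sign ε
  exact ⟨g, h1, h2, L.φ_invol h2, h3⟩

/-- The elements generating the quaternion group at a point. -/
def QuatAt (v : Vec) : Set G := {g | g * L.F.t = L.F.t * g ∧ g * L.F.ea v = L.F.ea v * g ∧ g ^ 4 = 1}

/-- The quaternion group at a point. -/
def R (v : Vec) : Subgroup G := Subgroup.closure (L.QuatAt v)

theorem ea_vz : L.F.ea vz = T.z := by rw [Frame.ea, ePt_vz, L.F.el_z]

theorem quatAt_vz : L.QuatAt vz = T.Quat L.F.t := by rw [QuatAt, L.ea_vz]; rfl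

theorem R_vz : L.R vz = quatGroup L.F.ht L.hS := by
  rw [R, L.quatAt_vz]
  exact Subgroup.closure_eq (quatGroup L.F.ht L.hS)

theorem quatAt_conj {g : G} (hgt : g * L.F.t = L.F.t * g) {f : Vec → Vec} (hg : L.F.ActA g f) {v : Vec} {x : G}
    (hx : x ∈ L.QuatAt v) : g * x * g⁻¹ ∈ L.QuatAt (f v) := by
  refine ⟨?_, ?_, by rw [conj_pow, hx.2.2, mul_one, mul_inv_cancel]⟩
  · have h := (Commute.conj_iff g).2 (show Commute x L.F.t from hx.1)
    rwa [hgt, mul_inv_cancel_right] at h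
  · rw [← hg]
    exact ((Commute.conj_iff g).2 (show Commute x (L.F.ea v) from hx.2.1)).eq

theorem R_map_le {g : G} (hgt : g * L.F.t = L.F.t * g) {f : Vec → Vec} (hg : L.F.ActA g f) (v : Vec) :
    (L.R v).map (MulAut.conj g).toMonoidHom ≤ L.R (f v) := by
  rw [R, MonoidHom.map_closure, Subgroup.closure_le]
  rintro _ ⟨x, hx, rfl⟩
  exact Subgroup.subset_closure (L.quatAt_conj hgt hg hx)

theorem R_map {g : G} (hgt : g * L.F.t = L.F.t * g) {ε : Fin 3 → (ZMod 3)ˣ} (hg : L.F.ActA g (mono 1 ε)) (v : Vec) :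
    (L.R v).map (MulAut.conj g).toMonoidHom = L.R (mono 1 ε v) := by
  refine le_antisymm (L.R_map_le hgt hg v) fun x hx => ⟨g⁻¹ * x * g, ?_, by simp; group⟩
  have hgi : L.F.ActA g⁻¹ (mono 1 ε) := fun w => by
    conv_lhs => rw [← sign_twice ε w, ← hg]
    group
  have h := L.R_map_le (show Commute g L.F.t from hgt).inv_left.eq hgi _ ⟨x, hx, rfl⟩
  rwa [sign_twice, show (MulAut.conj g⁻¹).toMonoidHom x = g⁻¹ * x * g by simp] at h

theorem exists_to_vz {v : Vec} (hv : wt v = 3) : ∃ g ε, g * L.F.t = L.F.t * g ∧ g * g = 1 ∧ L.φ g = 1 ∧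
    L.F.ActA g (mono 1 ε) ∧ mono 1 ε v = vz ∧ (L.R v).map (MulAut.conj g).toMonoidHom = L.R vz := by
  obtain ⟨ε, hε⟩ := to_vz v hv
  obtain ⟨g, h1, h2, h3, h4⟩ := L.sign ε
  exact ⟨g, ε, h1, h2, h3, h4, hε, hε ▸ L.R_map h1 h4 v⟩

theorem card_R {v : Vec} (hv : wt v = 3) : Nat.card (L.R v) = 8 := by
  obtain ⟨g, ε, -, -, -, -, -, h⟩ := L.exists_to_vz hv
  rw [Nat.card_congr ((L.R v).equivMapOfInjective (MulAut.conj g).toMonoidHom (MulAut.conj g).injective).toEquiv,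
    h, R_vz]
  exact card_quat L.F.ht L.hS

theorem mem_R {v : Vec} (hv : wt v = 3) {x : G} : x ∈ L.R v ↔ x ∈ L.QuatAt v := by
  refine ⟨fun hx => ?_, fun hx => Subgroup.subset_closure hx⟩
  obtain ⟨g, ε, hgt, hg2, -, hg, hε, h⟩ := L.exists_to_vz hv
  have h1 : g * x * g⁻¹ ∈ L.QuatAt vz := by
    rw [L.quatAt_vz]
    have : g * x * g⁻¹ ∈ L.R vz := h ▸ ⟨x, hx, rfl⟩
    rwa [L.R_vz] at this
  have h2 := L.quatAt_conj hgt hg h1
  rw [← hε, sign_twice, inv_eq_of_mul_eq_one_right hg2,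
    show g * (g * x * g) * g = (g * g) * x * (g * g) by group, hg2, one_mul, mul_one] at h2
  exact h2

theorem R_neg {v : Vec} : L.R (-v) = L.R v := by
  have key : ∀ w : Vec, L.QuatAt w ⊆ L.QuatAt (-w) := fun w x hx => ⟨hx.1, by
    rw [Frame.ea, ePt_neg, L.F.el_neg]
    exact (show Commute x (L.F.ea w) from hx.2.1).inv_right.eq, hx.2.2⟩
  rw [R, R]
  refine congrArg Subgroup.closure (Set.Subset.antisymm ?_ (key v))
  have := key (-v)
  rwa [neg_neg] at this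

theorem t_mem {v : Vec} (hv : wt v = 3) : L.F.t ∈ L.R v := (L.mem_R hv).2
  ⟨rfl, Frame.ea_comm_t v, by rw [show 4 = 2 * 2 from rfl, pow_mul, pow_two L.F.t, L.F.ht.sq, one_pow]⟩

theorem R_sq {v : Vec} (hv : wt v = 3) {x : G} (hx : x ∈ L.R v) : x * x = 1 ∨ x * x = L.F.t := by
  obtain ⟨g, ε, hgt, -, -, -, -, h⟩ := L.exists_to_vz hv
  have h1 : g * x * g⁻¹ ∈ L.R vz := h ▸ ⟨x, hx, rfl⟩
  rw [L.R_vz] at h1
  have h2 := quat_sq L.F.ht L.hS h1
  rw [conj_mul] at h2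
  refine h2.imp (fun e => conj_eq_one_iff.1 e) fun e => ?_
  rw [← mul_right_inj g, ← mul_left_inj g⁻¹, e, hgt, mul_inv_cancel_right]

theorem R_involution {v : Vec} (hv : wt v = 3) {x : G} (hx : x ∈ L.R v) (h1 : x ≠ 1) (ht : x ≠ L.F.t) :
    x * x = L.F.t := by
  refine (L.R_sq hv hx).resolve_left fun h => ?_
  obtain ⟨g, ε, hgt, -, -, -, -, hm⟩ := L.exists_to_vz hv
  have hm1 : g * x * g⁻¹ ∈ L.R vz := hm ▸ ⟨x, hx, rfl⟩
  rw [L.R_vz] at hm1
  have hC := T.mem_C.2 hm1.2.1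
  have e : T.ρ ⟨g * x * g⁻¹, hC⟩ * T.ρ ⟨g * x * g⁻¹, hC⟩ = 1 := by
    rw [← map_mul, show (⟨g * x * g⁻¹, hC⟩ : T.C) * ⟨g * x * g⁻¹, hC⟩ = 1 from Subtype.ext (by
      show g * x * g⁻¹ * (g * x * g⁻¹) = 1
      rw [conj_mul, h, mul_one, mul_inv_cancel]), map_one]
  rcases sq_one_cases _ e with e | e
  · refine h1 (conj_eq_one_iff.1 (quat_inj L.F.ht L.hS hm1 ⟨by simp, by simp, one_pow _⟩ ?_))
    rw [e]; exact (map_one T.ρ).symm
  · refine ht ?_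
    have h2 := quat_inj L.F.ht L.hS hm1 (t_quat L.F.ht L.hS) (by rw [e]; exact L.F.ht.rho.symm)
    rw [← mul_right_inj g, ← mul_left_inj g⁻¹, h2, hgt, mul_inv_cancel_right]

theorem R_norm {h : Vec} (v : Vec) (hh : wt h = 3) {x : G} (hx : x ∈ L.R h) :
    L.F.ea v * x * (L.F.ea v)⁻¹ ∈ L.R h := by
  refine L.R_map_le (f := id) (Frame.ea_comm_t v).symm (fun w => ?_) h ⟨x, hx, rfl⟩
  rw [show L.F.ea v * L.F.ea w = L.F.ea w * L.F.ea v from L.F.el_comm _ _, mul_inv_cancel_right]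
  rfl

theorem R_fix_z {x : G} (hx : x ∈ L.R vz) {y : Four} (hy3 : y 3 = 0) (hy1 : y 1 = 0) :
    L.F.el y * x = x * L.F.el y := by
  rw [L.R_vz] at hx
  refine (fixed_comm L.F.ht hx.2.1 hx.2.2 (L.hS _) (L.F.el_mem_Q hy3) ?_).symm
  obtain ⟨u, rfl⟩ := ePt_surj y hy1
  exact Frame.ea_comm_t u

theorem R_fix {h v : Vec} (hh : wt h = 3) (hv : dot h v = 0) {x : G} (hx : x ∈ L.R h) :
    L.F.ea v * x = x * L.F.ea v := by
  obtain ⟨g, ε, hgt, -, -, hg, hε, hm⟩ := L.exists_to_vz hh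
  have h1 : g * x * g⁻¹ ∈ L.R vz := hm ▸ ⟨x, hx, rfl⟩
  have h3 : (ePt (mono 1 ε v)) 3 = 0 := by
    have e := dot_bil vz (mono 1 ε v)
    rw [← hε, dot_mono, hv, mul_zero, hε, ePt_vz, bil_eq] at e
    simpa using e
  have h2 := L.R_fix_z h1 h3 (ePt_one _)
  rw [← Frame.ea, ← hg] at h2
  exact (Commute.conj_iff g).1 h2

theorem R_move_z {x : G} (hx : x ∈ L.R vz) {y : Four} (hy : y 3 ≠ 0) (hc : L.F.el y * x = x * L.F.el y) :
    x = 1 ∨ x = L.F.t := by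
  rw [L.R_vz] at hx
  have hC := T.mem_C.2 hx.2.1
  set σ := T.ρ ⟨L.F.el y, L.F.el_C y⟩ with hσdef
  have hσ3 : σ ^ 3 = 1 := by
    rw [hσdef, ← map_pow, show (⟨L.F.el y, L.F.el_C y⟩ : T.C) ^ 3 = 1 from Subtype.ext (L.F.el_cube y), map_one]
  have hσ1 : σ ≠ 1 := fun h => hy (L.F.el_mem_Q_iff.1 ((T.ρker ⟨_, L.F.el_C y⟩).1 ⟨h, L.hS _⟩))
  have h4 : T.ρ ⟨x, hC⟩ ^ 4 = 1 := by
    rw [← map_pow, show (⟨x, hC⟩ : T.C) ^ 4 = 1 from Subtype.ext hx.2.2, map_one]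
  have hcomm : T.ρ ⟨x, hC⟩ * σ = σ * T.ρ ⟨x, hC⟩ := by
    rw [hσdef, ← map_mul, ← map_mul]
    exact congrArg T.ρ (Subtype.ext hc.symm)
  rcases four_comm_three σ _ hσ3 hσ1 h4 hcomm with e | e
  · refine Or.inl (quat_inj L.F.ht L.hS hx ⟨by simp, by simp, one_pow _⟩ ?_)
    rw [e]; exact (map_one T.ρ).symm
  · exact Or.inr (quat_inj L.F.ht L.hS hx (t_quat L.F.ht L.hS) (by rw [e]; exact L.F.ht.rho.symm))

theorem R_move {h v : Vec} (hh : wt h = 3) (hv : dot h v ≠ 0) {x : G} (hx : x ∈ L.R h)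
    (hc : L.F.ea v * x = x * L.F.ea v) : x = 1 ∨ x = L.F.t := by
  obtain ⟨g, ε, hgt, -, -, hg, hε, hm⟩ := L.exists_to_vz hh
  have h1 : g * x * g⁻¹ ∈ L.R vz := hm ▸ ⟨x, hx, rfl⟩
  have h3 : (ePt (mono 1 ε v)) 3 ≠ 0 := by
    intro e3
    have e := dot_bil vz (mono 1 ε v)
    rw [← hε, dot_mono, hε, ePt_vz, bil_eq] at e
    simp [e3] at e
    rcases e with e | e
    · exact absurd e (by decide)
    · exact hv e
  have h2 : Commute (g * L.F.ea v * g⁻¹) (g * x * g⁻¹) := (Commute.conj_iff g).2 hc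
  rw [hg] at h2
  refine (L.R_move_z h1 h3 h2.eq).imp (fun e => conj_eq_one_iff.1 e) fun e => ?_
  rw [← mul_right_inj g, ← mul_left_inj g⁻¹, e, hgt, mul_inv_cancel_right]

/-- The centraliser of `z` in `C_H(t)`. -/
theorem cent_z {g : G} (hgt : g * L.F.t = L.F.t * g) (hgz : g * T.z = T.z * g) (hg : L.φ g = 1) :
    ∃ y ∈ L.R vz, ∃ v, g = y * L.F.ea v := by
  have hgC := T.mem_C.2 hgz
  have hσ3 : T.ρ ⟨L.F.f, L.F.f_C⟩ ^ 3 = 1 := by
    rw [← map_pow, show (⟨L.F.f, L.F.f_C⟩ : T.C) ^ 3 = 1 from Subtype.ext L.F.f_cube, map_one]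
  obtain ⟨δ, hδ, hcase⟩ := four_mul_three _ (T.ρ ⟨g, hgC⟩) hσ3 L.F.ρ_f_ne
  obtain ⟨y, hy, hyρ⟩ := quat_lift L.F.ht L.hS hδ
  obtain ⟨e, he⟩ : ∃ e : ℕ, T.ρ ⟨g, hgC⟩ = δ * T.ρ ⟨L.F.f, L.F.f_C⟩ ^ e := by
    rcases hcase with h | h | h
    · exact ⟨0, by rw [h, pow_zero, mul_one]⟩
    · exact ⟨1, by rw [h, pow_one]⟩
    · exact ⟨2, by rw [h, pow_two]⟩
  set q : T.C := (⟨y, T.mem_C.2 hy.2.1⟩ * ⟨L.F.f, L.F.f_C⟩ ^ e)⁻¹ * ⟨g, hgC⟩ with hq
  have hqQ : (q : G) ∈ T.Q := (T.ρker q).1 ⟨by rw [hq, map_mul, map_inv, map_mul, map_pow, hyρ, he, inv_mul_cancel], L.hS _⟩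
  have hqv : (q : G) = (y * L.F.f ^ e)⁻¹ * g := by rw [hq]; push_cast; rfl
  have hft : Commute L.F.f L.F.t := L.F.f_t.symm
  have hqt : Commute (q : G) L.F.t := by
    rw [hqv]
    exact (((show Commute y L.F.t from hy.1).mul_left (hft.pow_left e)).inv_left).mul_left hgt
  have hqφ : L.φ q = 1 := by
    rw [hqv, map_mul, map_inv, map_mul, map_pow, L.φ_four hy.2.2, ← L.F.el_f, L.φE, hg]
    simp
  obtain ⟨q₁, h₁, hU⟩ := L.hF.exists_U
  obtain ⟨i, j, c, hcE, hqe⟩ := Frame.Q_gen h₁ hU L.q₀Q L.hV hqQ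
  obtain ⟨x, rfl⟩ := L.F.mem_E_iff.1 hcE
  have hj : 3 ∣ j := by
    rw [hqe, map_mul, map_mul, map_pow, map_pow, L.φ_U h₁ hU L.φE, one_pow, one_mul, L.φE, mul_one] at hqφ
    have := orderOf_dvd_of_pow_eq_one hqφ
    rwa [orderOf_eq_prime (c3_cube _) L.hφ] at this
  obtain ⟨j', rfl⟩ := hj
  rw [pow_mul, T.exp _ L.q₀Q, one_pow, mul_one] at hqe
  have hi : (i : ZMod 3) = 0 := by
    have hA := Frame.iterate_pow hU i
    have hconj : ∀ u, (q : G) * L.F.el u * (q : G)⁻¹ = L.F.el (Frame.mU^[i] u) := fun u => by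
      rw [hqe, show q₁ ^ i * L.F.el x * L.F.el u * (q₁ ^ i * L.F.el x)⁻¹ =
        q₁ ^ i * (L.F.el x * L.F.el u * (L.F.el x)⁻¹) * (q₁ ^ i)⁻¹ by group, L.F.el_comm x u, mul_inv_cancel_right, hA]
    have h1 := hconj ![0, 1, 0, 0]
    have h2 := congrArg (fun w => L.F.t * w * L.F.t⁻¹) h1
    simp only [L.F.conj_t] at h2
    rw [show L.F.t * ((q : G) * L.F.el ![0, 1, 0, 0] * (q : G)⁻¹) * L.F.t⁻¹ =
      (L.F.t * q) * L.F.el ![0, 1, 0, 0] * (L.F.t * q)⁻¹ by group, ← hqt.eq,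
      show (q : G) * L.F.t * L.F.el ![0, 1, 0, 0] * ((q : G) * L.F.t)⁻¹ =
        q * (L.F.t * L.F.el ![0, 1, 0, 0] * L.F.t⁻¹) * (q : G)⁻¹ by group, L.F.conj_t, hconj] at h2
    have h3 := congrFun (L.F.el_inj h2) 0
    rw [show (![(![0, 1, 0, 0] : Four) 0, -(![0, 1, 0, 0] : Four) 1, (![0, 1, 0, 0] : Four) 2, (![0, 1, 0, 0] : Four) 3] : Four) =
      -![0, 1, 0, 0] from by funext k; fin_cases k <;> simp, hA.neg, (Frame.mU_iter i).1] at h3
    simp at h3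
    exact (show ∀ a : ZMod 3, -a = a → a = 0 by decide) _ h3
  obtain ⟨i', rfl⟩ := (ZMod.natCast_eq_zero_iff _ 3).1 hi
  rw [pow_mul, T.exp _ h₁, one_pow, one_mul] at hqe
  have hgeq : g = y * L.F.el ((e : ZMod 3) • ![0, 0, 0, 1] + x) := by
    rw [L.F.el_mul, L.F.el_smul, L.F.el_f, ← hqe, hqv, ZMod.val_natCast,
      ← pow_eq_pow_mod e L.F.f_cube]
    group
  obtain ⟨v, hv⟩ := ePt_surj ((e : ZMod 3) • ![0, 0, 0, 1] + x) (by
    have hc : Commute L.F.t (L.F.el ((e : ZMod 3) • ![0, 0, 0, 1] + x)) := by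
      rw [show L.F.el ((e : ZMod 3) • ![0, 0, 0, 1] + x) = y⁻¹ * g by rw [hgeq, inv_mul_cancel_left]]
      exact ((show Commute L.F.t y from hy.1.symm).inv_right).mul_right hgt.symm
    have h := mul_inv_eq_iff_eq_mul.2 hc.eq
    rw [L.F.conj_t] at h
    exact (show ∀ a : ZMod 3, -a = a → a = 0 by decide) _ (congrFun (L.F.el_inj h) 1))
  exact ⟨y, by rw [L.R_vz]; exact hy, v, by rw [hgeq, Frame.ea, hv]⟩

end Level

end Loc

end Cfsg.Agent.Spor.OmegaEightThree
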