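import Cfsg.Agent.Lib.Spor.OmegaEightThree.Comp

/-!
The transvection: a conjugate `y = n r` of `z` in `Q` gives a `3`-element of `C` acting nontrivially on
the fixed plane of the central involution, with fixed line `⟨r⟩`, and this line is fixed by all of
`SL₂(3)`.
-/

set_option autoImplicit false
set_option linter.unusedSectionVars false
set_option maxHeartbeats 800000

namespace Cfsg.Agent.Spor.OmegaEightThree

open Cfsg.Agent.Spor.PSLFourThree (com)

local notation "SL2" => Matrix.SpecialLinearGroup (Fin 2) (ZMod 3)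

namespace Loc

variable {G : Type*} [Group G] [Finite G] (T : Loc G)

/-- A `3`-element of `Q^g` in `C` outside `Q`. -/
theorem exists_x {g : G} (hg : T.IsPair g) : ∃ x : T.C, (x : G) ∈ T.Qc g ∧ T.η x = 1 ∧
    T.ρ x ^ 3 = 1 ∧ T.ρ x ≠ 1 ∧ ∃ d ∈ T.Q ⊓ T.Qc g, com (x : G) d ≠ 1 := by
  classical
  obtain ⟨hz, hg', hD, hab, hDle⟩ := T.basic hg
  let H : Subgroup G := (T.Hy g⁻¹).map (MulAut.conj g).toMonoidHom
  have hH : Nat.card H = 81 := by
    rw [Subgroup.card_map_of_injective (MulAut.conj g).injective, T.card_Hy hg']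
  have hHle : ∀ x ∈ H, x ∈ T.Qc g ∧ x ∈ T.C := by
    rintro _ ⟨h, hh, rfl⟩
    obtain ⟨h1, h2⟩ := T.mem_Hy.1 hh
    refine ⟨T.conj_mem_Qc h1, T.mem_C.2 ?_⟩
    have h' := Pre.com_eq_one_iff.1 h2
    rw [inv_inv] at h'
    show g * h * g⁻¹ * T.z = T.z * (g * h * g⁻¹)
    calc g * h * g⁻¹ * T.z = g * (h * (g⁻¹ * T.z * g)) * g⁻¹ := by group
      _ = g * (g⁻¹ * T.z * g * h) * g⁻¹ := by rw [h']
      _ = T.z * (g * h * g⁻¹) := by group
  obtain ⟨x, hxH, hxQ⟩ : ∃ x ∈ H, x ∉ T.Q := by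
    by_contra h
    push Not at h
    have h81 := Subgroup.card_le_of_le (show H ≤ T.Q ⊓ T.Qc g from fun x hx => ⟨h x hx, (hHle x hx).1⟩)
    omega
  obtain ⟨hxc, hxC⟩ := hHle x hxH
  have hx3 : x ^ 3 = 1 := by
    have h := T.exp _ (T.mem_Qc.1 hxc)
    rw [show x = g * (g⁻¹ * x * g) * g⁻¹ by group, conj_pow, h, mul_one, mul_inv_cancel]
  have hc3 : (⟨x, hxC⟩ : T.C) ^ 3 = 1 := Subtype.ext hx3
  have hη : T.η ⟨x, hxC⟩ = 1 := T.η_cube (n := 1) (by rw [pow_one]; exact hc3)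
  refine ⟨⟨x, hxC⟩, hxc, hη, by rw [← map_pow, hc3, map_one],
    fun h => hxQ ((T.ρker ⟨x, hxC⟩).1 ⟨h, hη⟩), ?_⟩
  by_contra h
  push Not at h
  -- an abelian subgroup of order `81` of `Q^g`
  let A : Subgroup G := Subgroup.closure ((T.Q ⊓ T.Qc g : Subgroup G) ∪ {x} : Set G)
  have hA : ∀ a ∈ A, ∀ b ∈ A, a * b = b * a := by
    intro a ha b hb
    refine Subgroup.closure_induction₂ (p := fun a b _ _ => a * b = b * a) ?_ ?_ ?_ ?_ ?_ ?_ ?_ ha hb
    · intro a b ha hb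
      rcases ha with ha | ha <;> rcases hb with hb | hb
      · exact hab a ha b hb
      · rw [Set.mem_singleton_iff.1 hb]; exact (Pre.com_eq_one_iff.1 (h a ha)).symm
      · rw [Set.mem_singleton_iff.1 ha]; exact Pre.com_eq_one_iff.1 (h b hb)
      · rw [Set.mem_singleton_iff.1 ha, Set.mem_singleton_iff.1 hb]
    · intros; simp
    · intros; simp
    · intro a b c _ _ _ h1 h2
      exact Commute.mul_left h1 h2
    · intro a b c _ _ _ h1 h2
      exact Commute.mul_right h1 h2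
    · intro a b _ _ h1
      exact Commute.inv_left h1
    · intro a b _ _ h1
      exact Commute.inv_right h1
  let A' : Subgroup G := A.map (MulAut.conj g⁻¹).toMonoidHom
  have hAle : A ≤ T.Qc g := (Subgroup.closure_le _).2 (Set.union_subset (fun a ha => ha.2)
    (Set.singleton_subset_iff.2 hxc))
  have hA'Q : A' ≤ T.Q := by
    rintro _ ⟨a, ha, rfl⟩
    simpa [MulAut.conj_apply] using T.mem_Qc.1 (hAle ha)
  have hbig : 27 < Nat.card A := by
    rw [← hD]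
    have hle : T.Q ⊓ T.Qc g ≤ A := fun a ha => Subgroup.subset_closure (Or.inl ha)
    refine lt_of_le_of_ne (Subgroup.card_le_of_le hle) fun e => hxQ ?_
    exact ((Subgroup.eq_of_le_of_card_ge hle e.ge).symm ▸ Subgroup.subset_closure (Or.inr rfl) :
      x ∈ T.Q ⊓ T.Qc g).1
  have := T.comm_card_le A' hA'Q (by
    rintro _ ⟨a, ha, rfl⟩ _ ⟨b, hb, rfl⟩
    rw [← map_mul, ← map_mul, hA a ha b hb])
  rw [Subgroup.card_map_of_injective (MulAut.conj g⁻¹).injective] at this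
  omega

/-- The points of the fixed plane fixed by `SL₂(3)`. -/
def line : Subgroup T.V where
  carrier := {v | v ∈ T.plus ∧ ∀ γ, T.act γ v = v}
  one_mem' := ⟨one_mem _, fun γ => map_one _⟩
  mul_mem' {a b} ha hb := ⟨mul_mem ha.1 hb.1, fun γ => by rw [map_mul, ha.2, hb.2]⟩
  inv_mem' {a} ha := ⟨inv_mem ha.1, fun γ => by rw [map_inv, ha.2]⟩

theorem act_of_three {x : SL2} (hx3 : x ^ 3 = 1) (hx : x ≠ 1) {v : T.V} (hv : v ∈ T.plus)
    (h : T.act x v = v) (γ : SL2) : T.act γ v = v := by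
  rcases three_quotient γ x hx3 hx with e | e | e
  · exact T.quat_plus γ e v hv
  · rw [← h, ← T.act_mul, T.quat_plus _ e v hv, h]
  · have h' : T.act x⁻¹ v = v := by
      conv_lhs => rw [← h]
      rw [← T.act_mul, inv_mul_cancel, T.act_one]
    rw [← h', ← T.act_mul, T.quat_plus _ e v hv, h']

variable {T} {t : G} (ht : T.toPre.IsT t)

include ht

/-- The components of a conjugate of `z`. -/
theorem pair_comp {g : G} (hg : T.IsPair g) {n r : G} (hn : n ∈ T.Q) (hr : r ∈ T.Q)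
    (he : g * T.z * g⁻¹ = n * r) (hn1 : t * n * t⁻¹ * n ∈ T.Z) (hr0 : t * r = r * t) :
    n ∉ T.Z ∧ r ∉ T.Z ∧ T.bar ⟨r, hr⟩ ∈ T.line ∧
      ∃ γ : SL2, γ ^ 3 = 1 ∧ ∃ v ∈ T.plus, T.act γ v ≠ v := by
  classical
  have hnZ : n ∉ T.Z := by
    intro h
    refine pair_not_plus ht hg ?_
    rw [he, ← mul_assoc, T.Z_central ht.mem h, mul_assoc, hr0, mul_assoc]
  obtain ⟨x, hxc, hxη, hx3, hx1, d, hd, hne⟩ := T.exists_x hg
  have hxy : T.act (T.ρ x) (T.bar ⟨_, hg.1⟩) = T.bar ⟨_, hg.1⟩ := by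
    rw [T.act_bar hxη]
    refine congrArg T.bar (Subtype.ext ?_)
    show (x : G) * (g * T.z * g⁻¹) * (x : G)⁻¹ = _
    rw [T.Qc_comm_y hxc, mul_inv_cancel_right]
  -- components
  have hnm : T.bar ⟨n, hn⟩ ∈ T.minus := (ht.minus_iff hn).2 hn1
  have hrp : T.bar ⟨r, hr⟩ ∈ T.plus := (ht.plus_iff hr).2 hr0
  have hy : T.bar ⟨_, hg.1⟩ = T.bar ⟨r, hr⟩ * T.bar ⟨n, hn⟩ := by
    rw [mul_comm, ← Pre.bar_mul]; exact congrArg T.bar (Subtype.ext he)
  have uniq : ∀ a a' b b' : T.V, a ∈ T.plus → a' ∈ T.plus → b ∈ T.minus → b' ∈ T.minus → a * b = a' * b' →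
      a = a' ∧ b = b' := by
    intro a a' b b' ha ha' hb hb' h
    have e : a'⁻¹ * a = b' * b⁻¹ := by
      rw [inv_mul_eq_iff_eq_mul, ← mul_assoc, ← h, mul_inv_cancel_right]
    have h1 := T.plus_minus (mul_mem (inv_mem ha') ha) (e ▸ mul_mem hb' (inv_mem hb))
    exact ⟨(inv_mul_eq_one.1 h1).symm, (mul_inv_eq_one.1 (e ▸ h1)).symm⟩
  have hsplit := uniq _ _ _ _ (T.act_plus (T.ρ x) hrp) hrp (T.act_minus (T.ρ x) hnm) hnm
    (by rw [← map_mul, ← hy, hxy])
  have hline : T.bar ⟨r, hr⟩ ∈ T.line := ⟨hrp, T.act_of_three hx3 hx1 hrp hsplit.1⟩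
  obtain ⟨j, hj⟩ := Subgroup.mem_zpowers_iff.1 (T.com_Qc hxc hd.2)
  obtain ⟨a, b, ha, hb, hab, hb0, ha1⟩ := ht.decomp hd.1
  have hdbar : T.bar ⟨d, hd.1⟩ = T.bar ⟨b, hb⟩ * T.bar ⟨a, ha⟩ := by
    rw [mul_comm, ← Pre.bar_mul]; exact congrArg T.bar (Subtype.ext hab)
  have hxd : T.act (T.ρ x) (T.bar ⟨d, hd.1⟩) = T.bar ⟨_, hg.1⟩ ^ j * T.bar ⟨d, hd.1⟩ := by
    rw [T.act_bar hxη]
    have e : (⟨(x : G) * d * (x : G)⁻¹, T.conj_Q x.2 hd.1⟩ : T.Q) =
        (⟨_, hg.1⟩ : T.Q) ^ j * ⟨d, hd.1⟩ := Subtype.ext (by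
      push_cast
      rw [hj]; simp [com])
    rw [e]
    rfl
  have hmove := uniq (T.act (T.ρ x) (T.bar ⟨b, hb⟩)) (T.bar ⟨r, hr⟩ ^ j * T.bar ⟨b, hb⟩)
    (T.act (T.ρ x) (T.bar ⟨a, ha⟩)) (T.bar ⟨n, hn⟩ ^ j * T.bar ⟨a, ha⟩)
    (T.act_plus _ ((ht.plus_iff hb).2 hb0)) (mul_mem (Subgroup.zpow_mem _ hrp j) ((ht.plus_iff hb).2 hb0))
    (T.act_minus _ ((ht.minus_iff ha).2 ha1)) (mul_mem (Subgroup.zpow_mem _ hnm j) ((ht.minus_iff ha).2 ha1))
    (by rw [← map_mul, ← hdbar, hxd, hdbar, hy, mul_zpow]; ac_rfl)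
  have hord3 : orderOf (g * T.z * g⁻¹) = 3 :=
    (orderOf_injective (MulAut.conj g).toMonoidHom (MulAut.conj g).injective T.z).trans T.hz
  have hj3 : ∀ v : T.V, v ^ j = 1 → v = 1 := by
    intro v hv
    by_contra hv1
    haveI : Fact (Nat.Prime 3) := ⟨Nat.prime_three⟩
    have h3 : orderOf v = 3 := orderOf_eq_prime (T.V_cube v) hv1
    refine hne ?_
    rw [← hj, ← orderOf_dvd_iff_zpow_eq_one, hord3, ← h3]
    exact orderOf_dvd_iff_zpow_eq_one.2 hv
  have hrZ : r ∉ T.Z := by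
    intro hrz
    have hbr : T.bar ⟨r, hr⟩ = 1 := T.bar_eq_one.2 hrz
    -- `d` commutes with `y`, so its inverted part lies on the line of `n`
    obtain ⟨a', b', ha', hb', hnon⟩ := minus_noncomm ht
    have hdy : com d (g * T.z * g⁻¹) = 1 := Pre.com_eq_one_iff.2 (T.Qc_comm_y hd.2)
    have hZl : ∀ q ∈ T.Q, ∀ w ∈ T.Z, com q w = 1 := fun q hq w hw => T.com_Z_right hq hw
    have han : com a n = 1 := by
      have hbn : com b n = 1 := by rw [Pre.com_inv, ht.com_parts hn hb hn1 hb0, inv_one]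
      rw [he, T.com_mul_right hd.1 hn hr, hZl d hd.1 r hrz, mul_one, hab, T.com_mul_left ha hb hn, hbn,
        mul_one] at hdy
      exact hdy
    by_cases hspan : T.bar ⟨a, ha⟩ ∈ Subgroup.zpowers (T.bar ⟨n, hn⟩)
    · obtain ⟨k, hk⟩ := Subgroup.mem_zpowers_iff.1 hspan
      have h2 := hmove.2
      rw [← hk, map_zpow, hsplit.2] at h2
      have := hj3 _ (mul_eq_right.1 h2.symm)
      exact hnZ (T.bar_eq_one.1 this)
    · haveI : Fact (Nat.Prime 3) := ⟨Nat.prime_three⟩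
      have hP : (Subgroup.zpowers (T.bar ⟨n, hn⟩) ⊔ Subgroup.zpowers (T.bar ⟨a, ha⟩) : Subgroup T.V) =
          T.minus := Subgroup.eq_of_le_of_card_ge
        (sup_le (Subgroup.zpowers_le.2 hnm) (Subgroup.zpowers_le.2 ((ht.minus_iff ha).2 ha1)))
        (by rw [T.card_minus, PSLFourThree.pair_card T.V_cube (fun h => hnZ (T.bar_eq_one.1 h)) hspan])
      have hcom : ∀ p : T.Q, T.bar p ∈ T.minus → com (p : G) n = 1 ∧ com (p : G) a = 1 := by
        intro p hp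
        rw [← hP, Subgroup.mem_sup] at hp
        obtain ⟨_, ⟨i, rfl⟩, _, ⟨k, rfl⟩, hik⟩ := hp
        let q : T.Q := ⟨n, hn⟩ ^ i * ⟨a, ha⟩ ^ k
        have hq : T.bar q = T.bar p := by rw [← hik]; rfl
        have hw := T.bar_eq.1 hq
        have hpq : (p : G) = q * ((q : G)⁻¹ * p) := by group
        have hna : n * a = a * n := (Pre.com_eq_one_iff.1 han).symm
        have c1 : Commute (q : G) n := by
          simp only [q, Subgroup.coe_mul, Subgroup.coe_zpow]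
          exact Commute.mul_left ((Commute.refl n).zpow_left i) ((show Commute a n from hna.symm).zpow_left k)
        have c2 : Commute (q : G) a := by
          simp only [q, Subgroup.coe_mul, Subgroup.coe_zpow]
          exact Commute.mul_left ((show Commute n a from hna).zpow_left i) ((Commute.refl a).zpow_left k)
        constructor
        · rw [hpq, T.com_mul_left q.2 (T.Z_le hw) hn, Pre.com_eq_one_iff.2 c1.eq, Pre.com_inv,
            hZl n hn _ hw, inv_one, one_mul]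
        · rw [hpq, T.com_mul_left q.2 (T.Z_le hw) ha, Pre.com_eq_one_iff.2 c2.eq, Pre.com_inv,
            hZl a ha _ hw, inv_one, one_mul]
      refine hnon ?_
      have hb2 := hb'
      rw [← hP, Subgroup.mem_sup] at hb2
      obtain ⟨_, ⟨i, rfl⟩, _, ⟨k, rfl⟩, hik⟩ := hb2
      let q : T.Q := ⟨n, hn⟩ ^ i * ⟨a, ha⟩ ^ k
      have hq : T.bar q = T.bar b' := by rw [← hik]; rfl
      have hw := T.bar_eq.1 hq
      have hbq : (b' : G) = q * ((q : G)⁻¹ * b') := by group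
      obtain ⟨h1, h2⟩ := hcom a' ha'
      rw [hbq, T.com_mul_right a'.2 q.2 (T.Z_le hw), hZl _ a'.2 _ hw, mul_one]
      refine Pre.com_eq_one_iff.2 ?_
      simp only [q, Subgroup.coe_mul, Subgroup.coe_zpow]
      exact (Commute.mul_right ((show Commute (a' : G) n from Pre.com_eq_one_iff.1 h1).zpow_right i)
        ((show Commute (a' : G) a from Pre.com_eq_one_iff.1 h2).zpow_right k)).eq
  refine ⟨hnZ, hrZ, hline, T.ρ x, hx3, T.bar ⟨b, hb⟩, (ht.plus_iff hb).2 hb0, fun h => hrZ ?_⟩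
  exact T.bar_eq_one.1 (hj3 _ (mul_eq_right.1 (hmove.1.symm.trans h)))

end Loc

end Cfsg.Agent.Spor.OmegaEightThree
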