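import Cfsg.Agent.Lib.Spor.OmegaEightThree.Unique

/-!
The two lines of conjugates of `z^{±1}` through a point of `E ∩ Q`, and the uniqueness of the conjugate
of `z^{±1}` in the coset `f ⟨z⟩`.
-/

set_option autoImplicit false
set_option linter.unusedSectionVars false
set_option maxHeartbeats 1600000

namespace Cfsg.Agent.Spor.OmegaEightThree

open Cfsg.Agent.Spor.PSLFourThree (com)

local notation "SL2" => Matrix.SpecialLinearGroup (Fin 2) (ZMod 3)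

theorem pm_cases (a b : ZMod 3) (ha : a ≠ 0) (hb : b ≠ 0) (hne : a ≠ b) : a = -b := by
  revert ha hb hne
  revert a b
  decide

namespace Loc

variable {G : Type*} [Group G] [Finite G] {T : Loc G}

theorem Qc_eq {g g' : G} (h : g * T.z * g⁻¹ = g' * T.z * g'⁻¹) : T.Qc g = T.Qc g' := by
  have hc : g'⁻¹ * g ∈ T.C := T.mem_C.2 (by
    calc g'⁻¹ * g * T.z = g'⁻¹ * (g * T.z * g⁻¹) * g := by group
      _ = g'⁻¹ * (g' * T.z * g'⁻¹) * g := by rw [h]
      _ = T.z * (g'⁻¹ * g) := by group)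
  ext x
  rw [T.mem_Qc, T.mem_Qc]
  constructor
  · intro hx
    have := T.conj_Q hc hx
    rwa [show g'⁻¹ * g * (g⁻¹ * x * g) * (g'⁻¹ * g)⁻¹ = g'⁻¹ * x * g' by group] at this
  · intro hx
    have := T.conj_Q (inv_mem hc) hx
    rwa [show (g'⁻¹ * g)⁻¹ * (g'⁻¹ * x * g') * (g'⁻¹ * g)⁻¹⁻¹ = g⁻¹ * x * g by group] at this

/-- Symmetry of the relation `w ∈ Q^h`. -/
theorem sym_Qc {g h : G} (hg : g * T.z * g⁻¹ ∈ T.Qc h) (hne : h⁻¹ * (g * T.z * g⁻¹) * h ∉ T.toPre.Z) :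
    h * T.z * h⁻¹ ∈ T.Qc g := by
  have hp : T.IsPair (h⁻¹ * g) := by
    have e : h⁻¹ * g * T.z * (h⁻¹ * g)⁻¹ = h⁻¹ * (g * T.z * g⁻¹) * h := by group
    exact ⟨e ▸ T.mem_Qc.1 hg, e ▸ hne⟩
  have := T.mem_Qc.1 (T.basic hp).1
  rw [T.mem_Qc]
  rwa [show (h⁻¹ * g)⁻¹ * T.z * (h⁻¹ * g) = g⁻¹ * (h * T.z * h⁻¹) * g by group] at this

theorem IsZ.cases {x : G} (h : T.IsZ x) : ∃ g, g * T.z * g⁻¹ = x ∨ g * T.z * g⁻¹ = x⁻¹ := by
  obtain ⟨g, h | h⟩ := h
  · exact ⟨g, Or.inl h⟩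
  · exact ⟨g, Or.inr (by subst h; group)⟩

/-- The second line through a point. -/
theorem second_line {t : G} (ht : T.toPre.IsT t) {g n r : G} (hg : T.IsPair g) (h : T.Comps t g n r) {u : G}
    (hu : u ∈ T.Qc g) (hun : com n u = 1) (huZ : T.IsZ u) (huQ : u ∉ T.Q) {n' r' : G} (hn' : T.Comps t g⁻¹ n' r') :
    ∃ q : T.Q, (q : G) = g⁻¹ * u * g ∧ ∃ e : ℤ, (e = 1 ∨ e = -1) ∧
      T.bar q = ((T.bar ⟨n', hn'.hn⟩)⁻¹ * T.bar ⟨r', hn'.hr⟩) ^ e := by
  classical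
  obtain ⟨hz, hg', -⟩ := T.basic hg
  have hnD := h.notMem ht hg
  have hplane := back_plane ht hg h.hn h.hr h.he h.hn1 h.cent hnD hn'.hn hn'.hr hn'.he hn'.hn1 hn'.cent hu hun
  obtain ⟨_, ⟨b, rfl⟩, _, ⟨a, rfl⟩, hab⟩ := Subgroup.mem_sup.1 hplane
  obtain ⟨hnZ', hrZ', -⟩ := pair_comp ht hg' hn'.hn hn'.hr hn'.he hn'.hn1 hn'.cent
  set N := T.bar ⟨n', hn'.hn⟩ with hN
  set R := T.bar ⟨r', hn'.hr⟩ with hR
  have hN3 : N ^ 3 = 1 := T.V_cube _
  have hR3 : R ^ 3 = 1 := T.V_cube _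
  let q : T.Q := ⟨g⁻¹ * u * g, T.mem_Qc.1 hu⟩
  have hq : T.bar q = R ^ (b : ZMod 3).val * N ^ (a : ZMod 3).val := by
    rw [pow_val_intCast hR3, pow_val_intCast hN3]
    exact hab.symm
  have hy : T.bar ⟨_, hg'.1⟩ = N * R := by
    rw [hN, hR, ← Pre.bar_mul]; exact congrArg T.bar (Subtype.ext hn'.he)
  have hback : ∀ k : T.Q, T.bar k = T.bar q → g * (k : G) * g⁻¹ ∈ T.Q → False := by
    intro k hk hkQ
    refine huQ ?_
    have hz' := T.bar_eq.1 hk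
    obtain ⟨j, hj⟩ := Subgroup.mem_zpowers_iff.1 hz'
    have : u = g * (k : G) * g⁻¹ * (g * T.z * g⁻¹) ^ j := by
      rw [conj_zpow, hj]
      simp only [q]
      group
    rw [this]
    exact mul_mem hkQ (Subgroup.zpow_mem _ hg.1 j)
  have hIsZ : T.IsZ (q : G) := by
    show T.IsZ (g⁻¹ * u * g)
    simpa using huZ.conj g⁻¹
  have hqZ : (q : G) ∉ T.toPre.Z := fun hq' => hback 1 (by rw [Pre.bar_one, T.bar_eq_one.2 hq']) (by simp)
  have hne : (b : ZMod 3) ≠ 0 ∧ (a : ZMod 3) ≠ 0 := by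
    obtain ⟨k, hk⟩ := hIsZ.cases
    have hkey : ∀ p : T.Q, k * T.z * k⁻¹ = (p : G) → (p : G) ∉ T.toPre.Z →
        ∀ i j : ZMod 3, T.bar p = R ^ i.val * N ^ j.val → i ≠ 0 ∧ j ≠ 0 := by
      intro p hp hpZ i j hij
      have hpk : T.IsPair k := ⟨hp ▸ p.2, hp ▸ hpZ⟩
      obtain ⟨n2, r2, h2⟩ := exists_comps ht hpk
      obtain ⟨hn2, hr2, -⟩ := pair_comp ht hpk h2.hn h2.hr h2.he h2.hn1 h2.cent
      have hp2 : T.bar p = T.bar ⟨r2, h2.hr⟩ * T.bar ⟨n2, h2.hn⟩ := by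
        rw [mul_comm, ← Pre.bar_mul]; exact congrArg T.bar (Subtype.ext (hp.symm.trans h2.he))
      have hNm : N ∈ T.minus := (ht.minus_iff hn'.hn).2 hn'.hn1
      have hRp : R ∈ T.plus := (ht.plus_iff hn'.hr).2 hn'.cent
      have hn2m : T.bar ⟨n2, h2.hn⟩ ∈ T.minus := (ht.minus_iff h2.hn).2 h2.hn1
      have hr2p : T.bar ⟨r2, h2.hr⟩ ∈ T.plus := (ht.plus_iff h2.hr).2 h2.cent
      rw [hp2] at hij
      have e : (R ^ i.val)⁻¹ * T.bar ⟨r2, h2.hr⟩ = N ^ j.val * (T.bar ⟨n2, h2.hn⟩)⁻¹ := by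
        rw [inv_mul_eq_iff_eq_mul, ← mul_assoc, ← hij, mul_inv_cancel_right]
      have h1 := T.plus_minus (mul_mem (inv_mem (pow_mem hRp _)) hr2p)
        (e ▸ mul_mem (pow_mem hNm _) (inv_mem hn2m))
      have e1 := inv_mul_eq_one.1 h1
      have e2 := mul_inv_eq_one.1 (e ▸ h1)
      constructor
      · intro h0
        rw [h0, ZMod.val_zero, pow_zero] at e1
        exact hr2 (T.bar_eq_one.1 e1.symm)
      · intro h0
        rw [h0, ZMod.val_zero, pow_zero] at e2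
        exact hn2 (T.bar_eq_one.1 e2.symm)
    rcases hk with hk | hk
    · exact hkey q hk hqZ _ _ hq
    · obtain ⟨h1, h2⟩ := hkey q⁻¹ (by simpa using hk) (fun h' => hqZ (inv_mem_iff.1 h'))
        (-(b : ZMod 3)) (-(a : ZMod 3)) (by
          rw [Pre.bar_inv, hq, show (-(b : ZMod 3)) = ((-b : ℤ) : ZMod 3) by push_cast; rfl,
            show (-(a : ZMod 3)) = ((-a : ℤ) : ZMod 3) by push_cast; rfl, pow_val_intCast hR3, pow_val_intCast hN3,
            pow_val_intCast hR3, pow_val_intCast hN3, mul_inv, zpow_neg, zpow_neg])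
      exact ⟨fun e => h1 (by rw [e, neg_zero]), fun e => h2 (by rw [e, neg_zero])⟩
  have hab' : (a : ZMod 3) = -(b : ZMod 3) := by
    refine pm_cases _ _ hne.2 hne.1 fun e => ?_
    rw [e] at hq
    let Y : T.Q := ⟨_, hg'.1⟩
    refine hback (Y ^ (b : ZMod 3).val) (by
      rw [hq, show T.bar (Y ^ (b : ZMod 3).val) = T.bar Y ^ (b : ZMod 3).val from rfl, hy, mul_pow, mul_comm]) ?_
    push_cast
    rw [← conj_pow]
    refine pow_mem ?_ _
    rw [show g * (g⁻¹ * T.z * g⁻¹⁻¹) * g⁻¹ = T.z by group]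
    exact T.hzQ
  refine ⟨q, rfl, ?_⟩
  rcases zmod3_cases (b : ZMod 3) with e | e | e
  · exact absurd e hne.1
  · refine ⟨1, Or.inl rfl, ?_⟩
    rw [hq, hab', e, show (-1 : ZMod 3).val = 2 from rfl, ZMod.val_one, pow_one, zpow_one, mul_comm]
    congr 1
    exact eq_inv_of_mul_eq_one_left (by rw [← pow_succ]; exact hN3)
  · refine ⟨-1, Or.inr rfl, ?_⟩
    rw [hq, hab', e, neg_neg, show (-1 : ZMod 3).val = 2 from rfl, ZMod.val_one, pow_one, zpow_neg, zpow_one,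
      mul_inv, inv_inv, mul_comm]
    congr 1
    exact eq_inv_of_mul_eq_one_left (by rw [← pow_succ]; exact hR3)

/-- Two conjugates of `z^{±1}` on the second line differ by a power of the point. -/
theorem same_line {t : G} (ht : T.toPre.IsT t) {g n r : G} (hg : T.IsPair g) (h : T.Comps t g n r) {u u' : G}
    (hu : u ∈ T.Qc g) (hun : com n u = 1) (huZ : T.IsZ u) (huQ : u ∉ T.Q)
    (hu' : u' ∈ T.Qc g) (hun' : com n u' = 1) (huZ' : T.IsZ u') (huQ' : u' ∉ T.Q) :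
    ∃ i : ℤ, u' = u * (g * T.z * g⁻¹) ^ i ∨ u' = u⁻¹ * (g * T.z * g⁻¹) ^ i := by
  obtain ⟨n', r', h'⟩ := exists_comps ht (T.basic hg).2.1
  obtain ⟨q, hq, e, he, hqb⟩ := second_line ht hg h hu hun huZ huQ h'
  obtain ⟨q', hq', e', he', hqb'⟩ := second_line ht hg h hu' hun' huZ' huQ' h'
  have hcase : T.bar q' = T.bar q ∨ T.bar q' = T.bar q⁻¹ := by
    rw [Pre.bar_inv, hqb, hqb', ← zpow_neg]
    rcases he with rfl | rfl <;> rcases he' with rfl | rfl <;> simp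
  rcases hcase with hb | hb
  · obtain ⟨i, hi⟩ := Subgroup.mem_zpowers_iff.1 (T.bar_eq.1 hb.symm)
    refine ⟨i, Or.inl ?_⟩
    rw [conj_zpow, hi, hq, hq']
    group
  · obtain ⟨i, hi⟩ := Subgroup.mem_zpowers_iff.1 (T.bar_eq.1 hb.symm)
    refine ⟨i, Or.inr ?_⟩
    rw [conj_zpow, hi]
    push_cast
    rw [hq, hq']
    group

namespace Frame

variable (F : Frame T)

/-- The hyperplane of `E` under a conjugate of `z^{±1}` outside `Q`. -/
theorem hyperplane {x h : G} (hxE : x ∈ F.E) (hxQ : x ∉ T.Q) (hh : h * T.z * h⁻¹ = x) (v : Four) :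
    ∃ k : ZMod 3, F.el (v + ![k, 0, 0, 0]) ∈ T.Qc h := by
  classical
  haveI : Fact (Nat.Prime 3) := ⟨Nat.prime_three⟩
  have hEc : ∀ a ∈ F.E, ∀ b ∈ F.E, a * b = b * a := by
    intro a ha b hb
    obtain ⟨v, rfl⟩ := F.mem_E_iff.1 ha
    obtain ⟨w, rfl⟩ := F.mem_E_iff.1 hb
    rw [← F.el_mul, ← F.el_mul, add_comm]
  have hcC : ∀ a : F.E, h⁻¹ * (a : G) * h ∈ T.C := fun a => T.mem_C.2 (by
    calc h⁻¹ * (a : G) * h * T.z = h⁻¹ * ((a : G) * x) * h := by rw [← hh]; group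
      _ = h⁻¹ * (x * a) * h := by rw [hEc a a.2 x hxE]
      _ = T.z * (h⁻¹ * a * h) := by rw [← hh]; group)
  let ψ : F.E →* SL2 := MonoidHom.mk' (fun a => T.ρ ⟨_, hcC a⟩)
    fun a b => by rw [← map_mul]; exact congrArg T.ρ (Subtype.ext (by push_cast; group))
  have hcube : ∀ a : F.E, (a : G) ^ 3 = 1 := fun a => by
    obtain ⟨w, hw⟩ := F.mem_E_iff.1 a.2
    rw [← hw]; exact F.el_cube w
  have hψ3 : ∀ a, ψ a ^ 3 = 1 := fun a => by
    rw [← map_pow, show a ^ 3 = 1 from Subtype.ext (by simpa using hcube a), map_one]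
  have hker : ∀ a : F.E, ψ a = 1 → (a : G) ∈ T.Qc h := fun a ha => by
    refine T.mem_Qc.2 ((T.ρker ⟨_, hcC a⟩).1 ⟨ha, T.η_cube (n := 1) (Subtype.ext ?_)⟩)
    rw [pow_one, Subgroup.coe_pow]
    show (h⁻¹ * (a : G) * h) ^ 3 = 1
    calc (h⁻¹ * (a : G) * h) ^ 3 = h⁻¹ * (a : G) ^ 3 * h := by simp [pow_succ, mul_assoc]
      _ = 1 := by rw [hcube a]; group
  let zE : F.E := ⟨T.z, F.el_z ▸ F.el_mem _⟩
  have hz1 : ψ zE ≠ 1 := by
    intro hz
    refine hxQ ?_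
    have hzh : T.z ∈ T.Qc h := hker zE hz
    have hnZ : h⁻¹ * T.z * h ∉ T.toPre.Z := by
      intro hzZ
      obtain ⟨i, hi⟩ := Subgroup.mem_zpowers_iff.1 hzZ
      have hzi : T.z = x ^ i := by rw [← hh, conj_zpow, hi]; group
      have h3 : x ^ (3 : ℤ) = 1 := by rw [show (3 : ℤ) = ((3 : ℕ) : ℤ) from rfl, zpow_natCast]; exact hcube ⟨x, hxE⟩
      have hi0 : x ^ i = x ^ (i % 3) := by
        conv_lhs => rw [← Int.emod_add_mul_ediv i 3]
        rw [zpow_add, zpow_mul, h3, one_zpow, mul_one]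
      rw [hi0] at hzi
      have h0 := Int.emod_nonneg i (show (3 : ℤ) ≠ 0 by norm_num)
      have h1 := Int.emod_lt_of_pos i (show (0 : ℤ) < 3 by norm_num)
      interval_cases hm : i % 3
      · exact T.z_ne (by simpa using hzi)
      · exact hxQ (by rw [show x = T.z by simpa using hzi.symm]; exact T.hzQ)
      · refine hxQ ?_
        have hxz : x = T.z⁻¹ := eq_inv_of_mul_eq_one_left (by
          rw [hzi, ← zpow_one_add]; exact h3)
        rw [hxz]; exact inv_mem T.hzQ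
    have := sym_Qc (g := 1) (h := h) (by simpa using hzh) (by simpa using hnZ)
    rw [T.mem_Qc, hh] at this
    simpa using this
  let a : F.E := ⟨F.el v, F.el_mem v⟩
  have hmem : ψ a ∈ Subgroup.zpowers (ψ zE) := by
    rcases PSLFourThree.sl2_order_three _ (hψ3 zE) _ (hψ3 a)
      (by rw [← map_mul, ← map_mul]; exact congrArg ψ (Subtype.ext (hEc _ zE.2 _ a.2))) hz1 with e | e | e <;> rw [e]
    · exact one_mem _
    · exact Subgroup.mem_zpowers _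
    · exact mul_mem (Subgroup.mem_zpowers _) (Subgroup.mem_zpowers _)
  obtain ⟨i, hi⟩ := Subgroup.mem_zpowers_iff.1 hmem
  refine ⟨(-i : ℤ), ?_⟩
  have e : F.el ![((-i : ℤ) : ZMod 3), 0, 0, 0] = T.z ^ (-i) := by
    show T.z ^ ((-i : ℤ) : ZMod 3).val * F.n ^ (0 : ZMod 3).val * F.r ^ (0 : ZMod 3).val * F.f ^ (0 : ZMod 3).val = _
    simp only [ZMod.val_zero, pow_zero, mul_one]
    exact pow_val_intCast T.z_cube _
  rw [F.el_mul, e]
  have := hker (a * zE ^ (-i)) (by rw [map_mul, map_zpow, zpow_neg, hi, mul_inv_cancel])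
  simpa [a, zE] using this

/-- A point `n r z^k` of `E ∩ Q`. -/
theorem exists_point (k : ZMod 3) : ∃ g, g * T.z * g⁻¹ = F.el ![k, 1, 1, 0] ∧ T.IsPair g ∧
    T.Comps F.t g F.n (F.r * T.z ^ k.val) := by
  obtain ⟨q, hq, β, -, hconj⟩ := F.exists_q1
  have hy : F.el ![0, 1, 1, 0] = F.g * T.z * F.g⁻¹ := by
    rw [show (![0, 1, 1, 0] : Four) = ![0, 1, 0, 0] + ![0, 0, 1, 0] from by funext i; fin_cases i <;> simp,
      F.el_mul, F.el_n, F.el_r, F.comps.he]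
  have key : ∀ j : ℕ, ∃ g, g * T.z * g⁻¹ = F.el ![(j : ZMod 3), 1, 1, 0] := by
    intro j
    induction j with
    | zero => exact ⟨F.g, by simpa using hy.symm⟩
    | succ j ih =>
      obtain ⟨g, hg⟩ := ih
      refine ⟨q * g, ?_⟩
      rw [show q * g * T.z * (q * g)⁻¹ = q * (g * T.z * g⁻¹) * q⁻¹ by group, hg, hconj]
      congr 1
      funext i
      fin_cases i <;> simp
  obtain ⟨g, hg⟩ := key k.val
  rw [ZMod.natCast_zmod_val] at hg
  have hnr : F.n * (F.r * T.z ^ k.val) = F.el ![k, 1, 1, 0] := by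
    have hc : Commute F.r (T.z ^ k.val) := (show Commute F.r T.z from F.r_z).pow_right _
    have hcn : Commute F.n (T.z ^ k.val) := (show Commute F.n T.z from F.n_z).pow_right _
    rw [hc.eq, ← mul_assoc, hcn.eq]
    simp [el, ZMod.val_one]
  refine ⟨g, hg, ⟨hg ▸ F.el_mem_Q (by simp), fun hZ => ?_⟩, F.n_mem,
    mul_mem F.r_mem (pow_mem T.hzQ _), hg.trans hnr.symm, F.comps.inv, ?_⟩
  · rw [hg] at hZ
    obtain ⟨i, hi⟩ := Subgroup.mem_zpowers_iff.1 hZ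
    have : F.el ![(i : ZMod 3), 0, 0, 0] = F.el ![k, 1, 1, 0] := by
      rw [← hi]
      show T.z ^ (i : ZMod 3).val * F.n ^ (0 : ZMod 3).val * F.r ^ (0 : ZMod 3).val * F.f ^ (0 : ZMod 3).val = _
      simp only [ZMod.val_zero, pow_zero, mul_one]
      exact pow_val_intCast T.z_cube _
    exact zero_ne_one (four_eq (F.el_inj this)).2.1
  · rw [← mul_assoc, F.comps.cent, mul_assoc, T.Z_central F.ht.mem (pow_mem T.z_mem _), mul_assoc]

/-- A conjugate of `z^{±1}` outside `Q` lies in the `Q` of some point `n r z^k`. -/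
theorem exists_Qc {v : Four} (hv : v 3 = 1) (hvZ : T.IsZ (F.el v)) :
    ∃ k g, g * T.z * g⁻¹ = F.el ![k, 1, 1, 0] ∧ T.IsPair g ∧ T.Comps F.t g F.n (F.r * T.z ^ k.val) ∧
      F.el v ∈ T.Qc g := by
  have hvQ : F.el v ∉ T.Q := fun h => one_ne_zero (hv ▸ F.el_mem_Q_iff.1 h)
  obtain ⟨h, hh⟩ := hvZ.cases
  have main : ∀ (x : G), x ∈ F.E → x ∉ T.Q → h * T.z * h⁻¹ = x →
      ∃ k g, g * T.z * g⁻¹ = F.el ![k, 1, 1, 0] ∧ T.IsPair g ∧ T.Comps F.t g F.n (F.r * T.z ^ k.val) ∧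
        x ∈ T.Qc g := by
    intro x hxE hxQ hx
    obtain ⟨k, hk⟩ := F.hyperplane hxE hxQ hx ![0, 1, 1, 0]
    rw [show (![0, 1, 1, 0] : Four) + ![k, 0, 0, 0] = ![k, 1, 1, 0] from by funext i; fin_cases i <;> simp] at hk
    obtain ⟨g, hg, hp, hc⟩ := F.exists_point k
    refine ⟨k, g, hg, hp, hc, hx ▸ sym_Qc (hg.symm ▸ hk) fun hZ => hxQ ?_⟩
    obtain ⟨i, hi⟩ := Subgroup.mem_zpowers_iff.1 hZ
    have hwx : g * T.z * g⁻¹ = x ^ i := by rw [← hx, conj_zpow, hi]; group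
    by_contra
    rcases (Classical.em (x ^ i = 1)) with e | e
    · exact T.z_ne (conj_eq_one_iff.1 (hwx.trans e))
    · obtain ⟨w, rfl⟩ := F.mem_E_iff.1 hxE
      have hi' : F.el w ^ i = F.el ((i : ZMod 3) • w) := by rw [F.el_smul, pow_val_intCast (F.el_cube w)]
      rw [hi'] at hwx
      have hq : ((i : ZMod 3) • w) 3 = 0 := F.el_mem_Q_iff.1 (hwx ▸ hp.1)
      rw [Pi.smul_apply, smul_eq_mul, mul_eq_zero] at hq
      rcases hq with h0 | h0
      · exact e (by rw [hi', h0, zero_smul, F.el_zero])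
      · exact hxQ (F.el_mem_Q h0)
  rcases hh with hh | hh
  · exact main _ (F.el_mem v) hvQ hh
  · obtain ⟨k, g, hg, hp, hc, hx⟩ := main _ (inv_mem (F.el_mem v)) (fun h' => hvQ (inv_mem_iff.1 h')) hh
    exact ⟨k, g, hg, hp, hc, inv_mem_iff.1 hx⟩

theorem el_comm (v w : Four) : F.el v * F.el w = F.el w * F.el v := by
  rw [← F.el_mul, ← F.el_mul, add_comm]

/-- `f` is the only conjugate of `z^{±1}` in `f ⟨z⟩`. -/
theorem unique_zero {a : ZMod 3} (hx : T.IsZ (F.el ![a, 0, 0, 1])) : a = 0 := by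
  classical
  obtain ⟨k, g, hg, hp, hc, hxg⟩ := F.exists_Qc (by simp) hx
  obtain ⟨k', g', hg', -, -, hfg⟩ := F.exists_Qc (v := ![0, 0, 0, 1]) (by simp) (by rw [F.el_f]; exact F.f_Z)
  obtain ⟨q, hq, -, l, γ, hγ, hconj⟩ := F.exists_q0
  set m := (k - k').val with hm
  have hiter : ∀ j : ℕ, ∃ φ, ∀ v : Four, v 3 = 0 ∨ v = ![0, 0, 0, 1] →
      q ^ j * F.el v * (q ^ j)⁻¹ = F.el ![v 0 + (j : ZMod 3) * v 2 + φ * v 3, v 1, v 2 + (j : ZMod 3) * γ * v 3, v 3] := by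
    intro j
    induction j with
    | zero => exact ⟨0, fun v _ => by simp; rw [← four_eta v]⟩
    | succ j ih =>
      obtain ⟨φ, hφ⟩ := ih
      refine ⟨φ + (j : ZMod 3) * γ + l, fun v hv => ?_⟩
      rw [pow_succ', show q * q ^ j * F.el v * (q * q ^ j)⁻¹ = q * (q ^ j * F.el v * (q ^ j)⁻¹) * q⁻¹ by group,
        hφ v hv, hconj]
      congr 1
      funext i
      fin_cases i <;> simp <;> rcases hv with h | h <;> simp [h] <;> ring
  obtain ⟨φ, hφ⟩ := hiter m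
  have hmk : (m : ZMod 3) = k - k' := ZMod.natCast_zmod_val _
  have hf' : q ^ m * F.el ![0, 0, 0, 1] * (q ^ m)⁻¹ = F.el ![φ, 0, (k - k') * γ, 1] := by
    rw [hφ _ (Or.inr rfl)]
    congr 1
    funext i
    fin_cases i <;> simp [hmk]
  have hw : (q ^ m * g') * T.z * (q ^ m * g')⁻¹ = g * T.z * g⁻¹ := by
    rw [show (q ^ m * g') * T.z * (q ^ m * g')⁻¹ = q ^ m * (g' * T.z * g'⁻¹) * (q ^ m)⁻¹ by group, hg', hg,
      hφ _ (Or.inl (by simp))]
    congr 1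
    funext i
    fin_cases i <;> simp [hmk]
  have hfg' : F.el ![φ, 0, (k - k') * γ, 1] ∈ T.Qc g := by
    rw [← Qc_eq hw, ← hf', T.mem_Qc]
    rw [show (q ^ m * g')⁻¹ * (q ^ m * F.el ![0, 0, 0, 1] * (q ^ m)⁻¹) * (q ^ m * g') =
      g'⁻¹ * F.el ![0, 0, 0, 1] * g' by group]
    exact T.mem_Qc.1 hfg
  have hfZ : T.IsZ (F.el ![φ, 0, (k - k') * γ, 1]) := hf' ▸ IsZ.conj (by rw [F.el_f]; exact F.f_Z) _
  have hcomn : ∀ v, com F.n (F.el v) = 1 := fun v =>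
    Pre.com_eq_one_iff.2 (by rw [← F.el_n]; exact F.el_comm _ _)
  have hout : ∀ b c : ZMod 3, F.el ![b, 0, c, 1] ∉ T.Q := fun b c h =>
    one_ne_zero (F.el_mem_Q_iff.1 h : (1 : ZMod 3) = 0)
  obtain ⟨i, hi⟩ := same_line F.ht hp hc hxg (hcomn _) hx (hout a 0) hfg' (hcomn _) hfZ (hout φ _)
  have hpow : (g * T.z * g⁻¹) ^ i = F.el ((i : ZMod 3) • ![k, 1, 1, 0]) := by
    rw [hg, F.el_smul, pow_val_intCast (F.el_cube _)]
  rw [hpow, ← F.el_neg, ← F.el_mul, ← F.el_mul] at hi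
  rcases hi with hi | hi
  · have h0 := congrFun (F.el_inj hi) 0
    have h1 := congrFun (F.el_inj hi) 1
    have h2 := congrFun (F.el_inj hi) 2
    simp at h0 h1 h2
    rw [← h1] at h0 h2
    simp at h0 h2
    rcases h2 with h2 | h2
    · have hkk : k - k' = 0 := h2
      have hm0 : m = 0 := by rw [hm, hkk, ZMod.val_zero]
      rw [hm0, pow_zero, one_mul, inv_one, mul_one] at hf'
      have e := congrFun (F.el_inj hf') 0
      simp at e
      rw [← h0, ← e]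
    · exact absurd h2 hγ
  · have := congrFun (F.el_inj hi) 3
    simp at this
    exact absurd this (by decide)

end Frame

end Loc

end Cfsg.Agent.Spor.OmegaEightThree
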