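import Cfsg.Agent.Lib.Spor.OmegaEightThree.PointClasses

/-!
The opposite translations, transitivity on the three types of points, and `N(E)` preserves the form.
-/

set_option autoImplicit false
set_option linter.unusedSectionVars false
set_option maxHeartbeats 1000000
set_option maxRecDepth 100000

namespace Cfsg.Agent.Spor.OmegaEightThree

namespace Loc

theorem perp_lift : ∀ x0 x1 x2 x3 : ZMod 3, (∀ c : ZMod 3, qf (![x0, x1, x2, x3] + c • ![0, 0, 0, 1]) = 0) →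
    x0 = 0 ∧ x1 * x1 = x2 * x2 := by decide +kernel

theorem nonsing_lift : ∀ x : Four, x 0 = 0 → qf x ≠ 0 → x 1 * x 1 ≠ x 2 * x 2 := by decide +kernel

theorem shift_exp : ∀ s x : ZMod 3, s ≠ 0 → x + -(x * s * s) = 0 := by decide

theorem qf_basic : qf ![1, 0, 0, 0] = 0 ∧ qf ![0, 1, 0, 0] = 1 ∧ qf ![0, 0, 1, 0] = -1 ∧ qf ![0, 0, 0, 1] = 0 ∧
    (∀ c : ZMod 3, qf (![0, 1, 1, 0] + c • ![1, 0, 0, 0]) = 0 ∧ qf (![0, 1, -1, 0] + c • ![1, 0, 0, 0]) = 0) := by
  decide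

variable {G : Type*} [Group G] [Finite G] {T : Loc G}

namespace Frame

variable {F : Frame T}

theorem iterate_pow {k : G} {φ : Four → Four} (h : F.Act k φ) (j : ℕ) : F.Act (k ^ j) φ^[j] := by
  induction j with
  | zero => rw [pow_zero]; exact Act.one
  | succ j ih => rw [pow_succ, Function.iterate_succ]; exact ih.mul h

theorem mU_iter (i : ℕ) : mU^[i] (![0, 1, 0, 0] : Four) = ![(i : ZMod 3), 1, 0, 0] ∧
    mU^[i] (![1, 0, 0, 0] : Four) = ![1, 0, 0, 0] ∧ mU^[i] (![0, 0, 1, 0] : Four) = ![0, 0, 1, 0] := by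
  induction i with
  | zero => simp
  | succ i ih =>
    rw [Function.iterate_succ_apply', Function.iterate_succ_apply', Function.iterate_succ_apply', ih.1, ih.2.1,
      ih.2.2]
    refine ⟨?_, ?_, ?_⟩ <;> funext k <;> fin_cases k <;> simp [mU]

theorem mV_iter (i : ℕ) : mV^[i] (![0, 0, 1, 0] : Four) = ![(i : ZMod 3), 0, 1, 0] ∧
    mV^[i] (![1, 0, 0, 0] : Four) = ![1, 0, 0, 0] ∧ mV^[i] (![0, 1, 0, 0] : Four) = ![0, 1, 0, 0] := by
  induction i with
  | zero => simp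
  | succ i ih =>
    rw [Function.iterate_succ_apply', Function.iterate_succ_apply', Function.iterate_succ_apply', ih.1, ih.2.1,
      ih.2.2]
    refine ⟨?_, ?_, ?_⟩ <;> funext k <;> fin_cases k <;> simp [mV]

variable (hF : F.Classified)
include hF

theorem Classified.qf_image {k : G} {φ : Four → Four} (h : F.Act k φ) {v : Four} (hv : qf v = 0) : qf (φ v) = 0 := by
  by_cases h0 : v = 0
  · rw [h0, h.zero]; simp [qf]
  · exact ((hF.iff_qf _).1 ((h.isZ v).2 ((hF.iff_qf v).2 ⟨h0, hv⟩))).2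

theorem Classified.qf_image_ne {k : G} {φ : Four → Four} (h : F.Act k φ) {v : Four} (hv : qf v ≠ 0) :
    qf (φ v) ≠ 0 := by
  intro e
  have h0 : φ v ≠ 0 := fun e0 => hv (by
    rw [h.injective (e0.trans h.zero.symm)]; simp [qf])
  exact hv ((hF.iff_qf v).1 ((h.isZ v).1 ((hF.iff_qf _).2 ⟨h0, e⟩))).2

/-- An element exchanging the lines of `z` and `f` and fixing those of `n` and `r`. -/
theorem Classified.exists_K : ∃ k : G, ∃ s σ τ : ZMod 3, s ≠ 0 ∧ σ ≠ 0 ∧ τ ≠ 0 ∧ F.Act k (mK s σ τ) := by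
  classical
  obtain ⟨k₀, hk₀, hkf⟩ := F.exists_norm_to F.f_mem_E F.f_Z
  obtain ⟨φ, hφ⟩ := F.exists_act hk₀
  obtain ⟨s, hs, hz⟩ : ∃ s : ZMod 3, s ≠ 0 ∧ φ ![1, 0, 0, 0] = s • ![0, 0, 0, 1] := by
    rcases hkf with e | e
    · exact ⟨1, one_ne_zero, hφ.apply_eq (by rw [one_smul, F.el_z, F.el_f, e])⟩
    · exact ⟨-1, neg_ne_zero.2 one_ne_zero, hφ.apply_eq (by rw [neg_one_smul, F.el_neg, F.el_z, F.el_f, e])⟩
  set a := φ ![0, 1, 0, 0] with ha
  set b := φ ![0, 0, 1, 0] with hb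
  have hline : ∀ x : Four, (∀ c : ZMod 3, qf (x + c • ![1, 0, 0, 0]) = 0) →
      (φ x) 0 = 0 ∧ (φ x) 1 * (φ x) 1 = (φ x) 2 * (φ x) 2 := by
    intro x hx
    refine perp_lift _ _ _ ((φ x) 3) fun c => ?_
    rw [← four_eta (φ x)]
    have := hF.qf_image hφ (hx (c * s))
    rw [hφ.add, hφ.smul, hz, smul_smul, mul_assoc,
      (show ∀ t : ZMod 3, t ≠ 0 → t * t = 1 by decide) s hs, mul_one] at this
    exact this
  obtain ⟨hp0, hp12⟩ := hline ![0, 1, 1, 0] fun c => (qf_basic.2.2.2.2 c).1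
  obtain ⟨hm0, hm12⟩ := hline ![0, 1, -1, 0] fun c => (qf_basic.2.2.2.2 c).2
  rw [show (![0, 1, 1, 0] : Four) = ![0, 1, 0, 0] + ![0, 0, 1, 0] by funext i; fin_cases i <;> simp, hφ.add] at hp0 hp12
  rw [show (![0, 1, -1, 0] : Four) = ![0, 1, 0, 0] + -![0, 0, 1, 0] by funext i; fin_cases i <;> simp, hφ.add,
    hφ.neg] at hm0 hm12
  simp only [Pi.add_apply, Pi.neg_apply, ← sub_eq_add_neg, ← ha, ← hb] at hp0 hp12 hm0 hm12
  have ha0 : a 0 = 0 := (show ∀ x y : ZMod 3, x + y = 0 → x - y = 0 → x = 0 by decide) _ _ hp0 hm0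
  have hb0 : b 0 = 0 := by rwa [ha0, zero_add] at hp0
  have hqn := hF.qf_image_ne hφ (v := ![0, 1, 0, 0]) (by rw [qf_basic.2.1]; exact one_ne_zero)
  have hqr := hF.qf_image_ne hφ (v := ![0, 0, 1, 0]) (by rw [qf_basic.2.2.1]; exact neg_ne_zero.2 one_ne_zero)
  obtain ⟨-, -, hcase⟩ := perp_forces (a 0) (a 1) (a 2) (b 0) (b 1) (b 2) hp0 hm0 hp12 hm12
    (nonsing_lift a ha0 hqn) (nonsing_lift b hb0 hqr)
  obtain ⟨q₁, -, hU⟩ := hF.exists_U
  obtain ⟨q₀, -, -, hV⟩ := hF.exists_V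
  set i := (-(b 3 * s)).val with hi
  have hψ := hφ.mul (iterate_pow hV i)
  have hbr : (φ ∘ mV^[i]) ![0, 0, 1, 0] = ![0, b 1, b 2, 0] := by
    rw [Function.comp_apply, (mV_iter i).1,
      show (![(i : ZMod 3), 0, 1, 0] : Four) = (i : ZMod 3) • ![1, 0, 0, 0] + ![0, 0, 1, 0] from by
        funext c; fin_cases c <;> simp, hφ.add, hφ.smul, hz, ← hb, hi, ZMod.natCast_zmod_val]
    funext c
    fin_cases c <;> simp [hb0]
    exact (add_comm _ _).trans (shift_exp s (b 3) hs)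
  have hbz : (φ ∘ mV^[i]) ![1, 0, 0, 0] = s • ![0, 0, 0, 1] := by rw [Function.comp_apply, (mV_iter i).2.1, hz]
  rcases hcase with ⟨ha1, ha2, hb1, hb2⟩ | ⟨-, -, hb1, hb2⟩
  · set j := (-(a 3 * s)).val with hj
    have hχ := hψ.mul (iterate_pow hU j)
    set χ := (φ ∘ mV^[i]) ∘ mU^[j] with hχdef
    have cz : χ ![1, 0, 0, 0] = s • ![0, 0, 0, 1] := by rw [hχdef, Function.comp_apply, (mU_iter j).2.1, hbz]
    have cr : χ ![0, 0, 1, 0] = ![0, 0, b 2, 0] := by
      rw [hχdef, Function.comp_apply, (mU_iter j).2.2, hbr, hb1]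
    have cn : χ ![0, 1, 0, 0] = ![0, a 1, 0, 0] := by
      rw [hχdef, Function.comp_apply, (mU_iter j).1,
        show (![(j : ZMod 3), 1, 0, 0] : Four) = (j : ZMod 3) • ![1, 0, 0, 0] + ![0, 1, 0, 0] from by
          funext c; fin_cases c <;> simp, hψ.add, hψ.smul, hbz, Function.comp_apply, (mV_iter i).2.2, ← ha, hj,
        ZMod.natCast_zmod_val]
      funext c
      fin_cases c <;> simp [ha0, ha2]
      exact (add_comm _ _).trans (shift_exp s (a 3) hs)
    set x := χ ![0, 0, 0, 1] with hx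
    have himg : ∀ v : Four, qf v = 0 → qf (v 0 • s • (![0, 0, 0, 1] : Four) + v 1 • ![0, a 1, 0, 0] +
        v 2 • ![0, 0, b 2, 0] + v 3 • x) = 0 := by
      intro v hv
      have := hF.qf_image hχ hv
      rwa [hχ.linear v, cz, cn, cr, ← hx] at this
    have hxne : x 0 ≠ 0 ∨ x 1 ≠ 0 ∨ x 2 ≠ 0 := by
      by_contra h
      push Not at h
      have e : χ ((x 3 * s) • ![1, 0, 0, 0]) = χ ![0, 0, 0, 1] := by
        rw [hχ.smul, cz, ← hx, smul_smul, mul_assoc, (show ∀ t : ZMod 3, t ≠ 0 → t * t = 1 by decide) s hs, mul_one]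
        funext c
        fin_cases c <;> simp [h.1, h.2.1, h.2.2]
      simpa using congrFun (hχ.injective e) 3
    have hq : ∀ σ' τ' : ZMod 3, σ' * σ' = 1 → τ' * τ' = 1 → qf (x + ![0, σ' * a 1, τ' * b 2, 0]) = 0 := by
      intro σ' τ' h1 h2
      have := himg ![0, σ', τ', 1] (by simp [qf, h1, h2])
      rw [show x + ![0, σ' * a 1, τ' * b 2, 0] = (![0, σ', τ', 1] : Four) 0 • s • (![0, 0, 0, 1] : Four) +
        (![0, σ', τ', 1] : Four) 1 • ![0, a 1, 0, 0] + (![0, σ', τ', 1] : Four) 2 • ![0, 0, b 2, 0] +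
        (![0, σ', τ', 1] : Four) 3 • x from by funext c; fin_cases c <;> simp <;> ring]
      exact this
    have hxf : x = ![s, 0, 0, 0] := by
      refine f_forces x s (a 1) (b 2) hs ha1 hb2 hxne ?_ ?_ ?_ ?_ ?_ ?_
      · have := himg ![0, 0, 0, 1] qf_basic.2.2.2.1
        simpa using this
      · simpa using hq 1 1 (by simp) (by simp)
      · simpa using hq 1 (-1) (by simp) (by simp)
      · simpa using hq (-1) 1 (by simp) (by simp)
      · simpa using hq (-1) (-1) (by simp) (by simp)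
      · have := himg ![1, 0, 1, 1] (by simp [qf])
        rw [show x + ![0, 0, b 2, s] = (![1, 0, 1, 1] : Four) 0 • s • (![0, 0, 0, 1] : Four) +
          (![1, 0, 1, 1] : Four) 1 • ![0, a 1, 0, 0] + (![1, 0, 1, 1] : Four) 2 • ![0, 0, b 2, 0] +
          (![1, 0, 1, 1] : Four) 3 • x from by funext c; fin_cases c <;> simp <;> ring]
        exact this
    refine ⟨_, s, a 1, b 2, hs, ha1, hb2, hχ.congr fun v => ?_⟩
    rw [hχ.linear v, cz, cn, cr, ← hx, hxf]
    funext c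
    fin_cases c <;> simp [mK] <;> ring
  · -- `n` and `r` would be conjugate
    exfalso
    rw [hb2] at hbr
    have h := hψ ![0, 0, 1, 0]
    rw [hbr, F.el_r] at h
    have hne := hF.r_ne_n (k₀ * q₀ ^ i)
    rcases pm_one _ hb1 with e | e
    · refine hne.1 (h.trans ?_)
      rw [e, F.el_n]
    · refine hne.2 (h.trans ?_)
      rw [e, show (![0, -1, 0, 0] : Four) = -![0, 1, 0, 0] from by funext c; fin_cases c <;> simp, F.el_neg, F.el_n]

/-- The four translations are realised. -/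
theorem Classified.exists_gen (i : Fin 4) : ∃ k, F.Act k (gen i) := by
  obtain ⟨q₁, -, hU⟩ := hF.exists_U
  obtain ⟨q₀, -, -, hV⟩ := hF.exists_V
  obtain ⟨k, s, σ, τ, hs, hσ, hτ, hK⟩ := hF.exists_K
  fin_cases i
  · exact ⟨q₁, hU⟩
  · exact ⟨q₀, hV⟩
  · rcases conj_U s σ τ hs hσ hτ with e | e
    · exact ⟨_, ((hK.mul hU).mul hK).congr e⟩
    · exact ⟨_, ((hK.mul (hU.mul hU)).mul hK).congr e⟩
  · rcases conj_V s σ τ hs hσ hτ with e | e
    · exact ⟨_, ((hK.mul hV).mul hK).congr e⟩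
    · exact ⟨_, ((hK.mul (hV.mul hV)).mul hK).congr e⟩

theorem Classified.exists_word (w : List (Fin 4)) : ∃ k, F.Act k (wmap w) := by
  induction w with
  | nil => exact ⟨1, Act.one⟩
  | cons i w ih =>
    obtain ⟨k, hk⟩ := hF.exists_gen i
    obtain ⟨k', hk'⟩ := ih
    exact ⟨k * k', hk.mul hk'⟩

/-- `N(E)` is transitive on each type of points. -/
theorem Classified.to_n {v : Four} (hv : qf v = 1) :
    ∃ k φ, F.Act k φ ∧ (k * F.el v * k⁻¹ = F.n ∨ k * F.el v * k⁻¹ = F.n⁻¹) := by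
  obtain ⟨w, -, hw⟩ := orbit_n v hv
  obtain ⟨k, hk⟩ := hF.exists_word w
  exact ⟨k, _, hk, hw.imp (fun e => by rw [hk, e, F.el_n]) fun e => by rw [hk, e, F.el_neg, F.el_n]⟩

theorem Classified.to_r {v : Four} (hv : qf v = -1) :
    ∃ k φ, F.Act k φ ∧ (k * F.el v * k⁻¹ = F.r ∨ k * F.el v * k⁻¹ = F.r⁻¹) := by
  obtain ⟨w, -, hw⟩ := orbit_r v hv
  obtain ⟨k, hk⟩ := hF.exists_word w
  exact ⟨k, _, hk, hw.imp (fun e => by rw [hk, e, F.el_r]) fun e => by rw [hk, e, F.el_neg, F.el_r]⟩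

/-- Conjugate elements of `E` have the same value. -/
theorem Classified.qf_conj {g : G} {v w : Four} (h : g * F.el v * g⁻¹ = F.el w) : qf v = qf w := by
  have main : ∀ (g : G) (v w : Four), qf v = 1 → qf w = -1 → g * F.el v * g⁻¹ = F.el w → False := by
    intro g v w hv hw h
    obtain ⟨k, -, -, hk⟩ := hF.to_n hv
    obtain ⟨l, -, -, hl⟩ := hF.to_r hw
    have e : ∀ x : G, (l * g * k⁻¹) * x * (l * g * k⁻¹)⁻¹ = l * (g * (k⁻¹ * x * k) * g⁻¹) * l⁻¹ := fun x => by group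
    have hn : (l * g * k⁻¹) * (k * F.el v * k⁻¹) * (l * g * k⁻¹)⁻¹ = l * F.el w * l⁻¹ := by rw [← h]; group
    have hne := hF.r_ne_n (l * g * k⁻¹)⁻¹
    have key : ∀ x y : G, (l * g * k⁻¹) * x * (l * g * k⁻¹)⁻¹ = y →
        (l * g * k⁻¹)⁻¹ * y * ((l * g * k⁻¹)⁻¹)⁻¹ = x := fun x y e => by rw [← e]; group
    rcases hk with a | a <;> rcases hl with b | b <;> rw [a, b] at hn
    · exact hne.1 (key _ _ hn)
    · exact hne.2 (by rw [← inv_inv F.r, ← conj_inv, key _ _ hn])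
    · exact hne.2 (key _ _ hn)
    · exact hne.1 (by rw [← inv_inv F.r, ← conj_inv, key _ _ hn, inv_inv])
  by_cases hv0 : v = 0
  · subst hv0
    rw [F.el_zero, mul_one, mul_inv_cancel, ← F.el_zero] at h
    rw [F.el_inj h]
  have hw0 : w ≠ 0 := fun e => hv0 (F.el_inj (by
    rw [e, F.el_zero, conj_eq_one_iff] at h
    rw [h, F.el_zero]))
  have hiff : qf v = 0 ↔ qf w = 0 := by
    constructor
    · intro e
      exact ((hF.iff_qf w).1 (h ▸ ((hF.iff_qf v).2 ⟨hv0, e⟩).conj g)).2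
    · intro e
      refine ((hF.iff_qf v).1 ?_).2
      have := ((hF.iff_qf w).2 ⟨hw0, e⟩).conj g⁻¹
      rwa [← h, show g⁻¹ * (g * F.el v * g⁻¹) * g⁻¹⁻¹ = F.el v by group] at this
  rcases qf_cases (qf v) with a | a | a <;> rcases qf_cases (qf w) with b | b | b
  · rw [a, b]
  · rw [hiff.1 a] at b; exact absurd b zero_ne_one
  · rw [hiff.1 a] at b; exact absurd (neg_eq_zero.1 b.symm) one_ne_zero
  · rw [hiff.2 b] at a; exact absurd a zero_ne_one
  · rw [a, b]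
  · exact (main g v w a b h).elim
  · rw [hiff.2 b] at a; exact absurd (neg_eq_zero.1 a.symm) one_ne_zero
  · exact (main g⁻¹ w v b a (by rw [← h]; group)).elim
  · rw [a, b]

/-- `N(E)` preserves the form. -/
theorem Classified.isom {k : G} {φ : Four → Four} (h : F.Act k φ) (v : Four) : qf (φ v) = qf v :=
  (hF.qf_conj (h v)).symm

end Frame

end Loc

end Cfsg.Agent.Spor.OmegaEightThree
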