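import Cfsg.Agent.Lib.Spor.OmegaEightThree.Classify

/-!
The four translations of the coordinates of `E`, and finite facts on their orbits.
-/

set_option autoImplicit false
set_option maxRecDepth 100000
set_option synthInstance.maxSize 5000
set_option synthInstance.maxHeartbeats 400000

namespace Cfsg.Agent.Spor.OmegaEightThree

namespace Loc.Frame

/-- The translation from `q₁`. -/
def mU (v : Four) : Four := ![v 0 + v 1 - v 3, v 1 + v 3, v 2, v 3]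

/-- The translation from `q₀`. -/
def mV (v : Four) : Four := ![v 0 + v 2 + v 3, v 1, v 2 - v 3, v 3]

/-- The opposite translation fixing `r`. -/
def mL (v : Four) : Four := ![v 0, v 1 + v 0, v 2, v 3 + v 1 - v 0]

/-- The opposite translation fixing `n`. -/
def mM (v : Four) : Four := ![v 0, v 1, v 2 - v 0, v 3 + v 2 + v 0]

/-- A monomial map exchanging the two lines `z`, `f`. -/
def mK (s σ τ : ZMod 3) (v : Four) : Four := ![s * v 3, σ * v 1, τ * v 2, s * v 0]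

/-- The translations. -/
def gen (i : Fin 4) : Four → Four := ![mU, mV, mL, mM] i

/-- The composite of the translations of a word. -/
def wmap (w : List (Fin 4)) (v : Four) : Four := w.foldr (fun i x => gen i x) v

/-- Words carrying the vectors of value `1` to `n`. -/
def wordsN : List (List (Fin 4)) :=
  [[], [0], [2], [0, 0], [0, 3], [2, 0], [0, 0, 2], [0, 0, 3], [0, 3, 1], [0, 0, 2, 1], [0, 0, 2, 3], [0, 0, 3, 1]]

/-- Words carrying the vectors of value `-1` to `r`. -/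
def wordsR : List (List (Fin 4)) :=
  [[], [1], [3], [1, 1], [1, 2], [1, 3], [3, 0], [3, 3], [1, 1, 2], [1, 2, 2], [1, 2, 3], [1, 1, 2, 1]]

/-- Words carrying the singular vectors to `z`. -/
def wordsZ : List (List (Fin 4)) :=
  [[], [2], [3], [2, 0], [2, 1], [2, 2], [2, 3], [3, 0], [3, 1], [2, 1, 1], [2, 1, 2], [2, 2, 3], [2, 3, 0],
    [2, 3, 1], [2, 3, 3], [3, 0, 1]]

theorem orbit_n : ∀ v : Four, qf v = 1 →
    ∃ w ∈ wordsN, wmap w v = ![0, 1, 0, 0] ∨ wmap w v = -![0, 1, 0, 0] := by decide +kernel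

theorem orbit_r : ∀ v : Four, qf v = -1 →
    ∃ w ∈ wordsR, wmap w v = ![0, 0, 1, 0] ∨ wmap w v = -![0, 0, 1, 0] := by decide +kernel

theorem orbit_z : ∀ v : Four, qf v = 0 → v ≠ 0 →
    ∃ w ∈ wordsZ, wmap w v = ![1, 0, 0, 0] ∨ wmap w v = -![1, 0, 0, 0] := by decide +kernel

theorem orbit_n_fix : ∀ v : Four, v 2 = 0 → qf v = 1 →
    ∃ w ∈ [[], [0], [2], [0, 0], [2, 0], [0, 0, 2]], wmap w v = ![0, 1, 0, 0] ∨ wmap w v = -![0, 1, 0, 0] := by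
  decide +kernel

theorem orbit_rA : ∀ v : Four, v 1 = 0 → qf v = -1 →
    ∃ w ∈ [[], [1], [3], [1, 1], [1, 3], [3, 3]], wmap w v = ![0, 0, 1, 0] ∨ wmap w v = -![0, 0, 1, 0] := by
  decide +kernel

theorem orbit_zA : ∀ v : Four, v 1 = 0 → qf v = 0 → v ≠ 0 →
    ∃ w ∈ [[], [3], [3, 1], [3, 1, 1]], wmap w v = ![1, 0, 0, 0] ∨ wmap w v = -![1, 0, 0, 0] := by
  decide +kernel

theorem qf_cases : ∀ a : ZMod 3, a = 0 ∨ a = 1 ∨ a = -1 := by decide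

theorem qf_neg : ∀ v : Four, qf (-v) = qf v := by decide +kernel

theorem u_beta : ∀ β : ZMod 3, β ≠ 0 → -β + β * β = 0 → β = 1 := by decide

theorem v_lam : ∀ l γ : ZMod 3, γ ≠ 0 → l - γ * γ = 0 → 1 + l + 1 - (1 + γ) * (1 + γ) = 0 → l = 1 ∧ γ = -1 := by
  decide

/-- The images of `n` and `r` under a map sending `z` into `⟨f⟩`. -/
theorem perp_forces : ∀ a0 a1 a2 b0 b1 b2 : ZMod 3,
    a0 + b0 = 0 → a0 - b0 = 0 → (a1 + b1) * (a1 + b1) = (a2 + b2) * (a2 + b2) →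
    (a1 - b1) * (a1 - b1) = (a2 - b2) * (a2 - b2) → a1 * a1 ≠ a2 * a2 → b1 * b1 ≠ b2 * b2 →
      a0 = 0 ∧ b0 = 0 ∧ ((a1 ≠ 0 ∧ a2 = 0 ∧ b1 = 0 ∧ b2 ≠ 0) ∨ (a1 = 0 ∧ a2 ≠ 0 ∧ b1 ≠ 0 ∧ b2 = 0)) := by
  decide +kernel

/-- The image of `f` under a map fixing the lines of `n` and `r` and sending `z` into `⟨f⟩`. -/
theorem f_forces : ∀ x : Four, ∀ s σ τ : ZMod 3, s ≠ 0 → σ ≠ 0 → τ ≠ 0 →
    (x 0 ≠ 0 ∨ x 1 ≠ 0 ∨ x 2 ≠ 0) → qf x = 0 →
    qf (x + ![0, σ, τ, 0]) = 0 → qf (x + ![0, σ, -τ, 0]) = 0 → qf (x + ![0, -σ, τ, 0]) = 0 →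
    qf (x + ![0, -σ, -τ, 0]) = 0 → qf (x + ![0, 0, τ, s]) = 0 → x = ![s, 0, 0, 0] := by decide +kernel

theorem mK_mK : ∀ s σ τ : ZMod 3, s ≠ 0 → σ ≠ 0 → τ ≠ 0 → ∀ v : Four, mK s σ τ (mK s σ τ v) = v := by
  decide +kernel

theorem conj_U : ∀ s σ τ : ZMod 3, s ≠ 0 → σ ≠ 0 → τ ≠ 0 →
    (∀ v : Four, mK s σ τ (mU (mK s σ τ v)) = mL v) ∨ ∀ v : Four, mK s σ τ (mU (mU (mK s σ τ v))) = mL v := by
  decide +kernel

theorem conj_V : ∀ s σ τ : ZMod 3, s ≠ 0 → σ ≠ 0 → τ ≠ 0 →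
    (∀ v : Four, mK s σ τ (mV (mK s σ τ v)) = mM v) ∨ ∀ v : Four, mK s σ τ (mV (mV (mK s σ τ v))) = mM v := by
  decide +kernel

theorem gen_qf : ∀ i : Fin 4, ∀ v : Four, qf (gen i v) = qf v := by decide +kernel

theorem four_split : ∀ v : Four, v = v 0 • (![1, 0, 0, 0] : Four) + v 1 • ![0, 1, 0, 0] + v 2 • ![0, 0, 1, 0] +
    v 3 • ![0, 0, 0, 1] := by decide +kernel

theorem gen_keep : ∀ v : Four, (mU v) 2 = v 2 ∧ (mU v) 3 = v 3 ∧ (mV v) 1 = v 1 ∧ (mV v) 3 = v 3 := by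
  decide +kernel

end Loc.Frame

end Cfsg.Agent.Spor.OmegaEightThree
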