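import Cfsg.Agent.Lib.Spor.OmegaEightThree.Split

/-!
A conjugate `y` of `z` inside `Q`: the group `Q ∩ Q^g` is elementary abelian of order `27`.
-/

set_option autoImplicit false
set_option linter.unusedSectionVars false
set_option maxHeartbeats 800000

namespace Cfsg.Agent.Spor.OmegaEightThree

open Cfsg.Agent.Spor.PSLFourThree (com sl2_no_normal_three sl2_order_three)

local notation "SL2" => Matrix.SpecialLinearGroup (Fin 2) (ZMod 3)

namespace Pre

variable {G : Type*} [Group G] [Finite G] (T : Pre G)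

theorem not_comm_81 (H : Subgroup G) (hH : H ≤ T.Q) (hc : Nat.card H = 81) :
    ∃ a ∈ H, ∃ b ∈ H, com a b ≠ 1 := by
  classical
  by_contra hcon
  push Not at hcon
  obtain ⟨q, hq, hqH⟩ : ∃ q ∈ T.Q, q ∉ H := by
    by_contra h
    push Not at h
    have := Subgroup.card_le_of_le (show T.Q ≤ H from h)
    rw [T.card_Q, hc] at this
    omega
  let χ : H →* T.Z := MonoidHom.mk' (fun h => ⟨com (h : G) q, T.com_mem' (hH h.2) hq⟩)
    fun a b => Subtype.ext (T.com_mul_left (hH a.2) (hH b.2) hq)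
  have hcube : T.Q.subtype.range = T.Q := Subgroup.range_subtype _
  have hker : 27 ≤ Nat.card χ.ker := by
    have h1 := χ.ker.card_eq_card_quotient_mul_card_subgroup
    rw [hc, Nat.card_congr (QuotientGroup.quotientKerEquivRange χ).toEquiv] at h1
    have h2 : Nat.card χ.range ≤ 3 := T.card_Z ▸ Subgroup.card_le_card_group _
    nlinarith [Nat.card_pos (α := χ.ker)]
  have hsub : χ.ker.map H.subtype ≤ T.Z := by
    rintro _ ⟨h, hh, rfl⟩
    refine T.center _ (hH h.2) fun b hb => ?_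
    have e1 : com (h : G) q = 1 := congrArg Subtype.val (MonoidHom.mem_ker.1 hh)
    let Cb : Subgroup G := Subgroup.centralizer {(h : G)}
    have hHC : H ≤ Cb := fun x hx => Subgroup.mem_centralizer_singleton_iff.2
      (com_eq_one_iff.1 (hcon x hx h h.2))
    have hqC : q ∈ Cb := Subgroup.mem_centralizer_singleton_iff.2 (com_eq_one_iff.1 e1).symm
    have hlt : H < H ⊔ Subgroup.zpowers q := left_lt_sup.2 fun h' => hqH (h' (Subgroup.mem_zpowers q))
    have htop : H ⊔ Subgroup.zpowers q = T.Q := by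
      refine Subgroup.eq_of_le_of_card_ge (sup_le hH (Subgroup.zpowers_le.2 hq)) ?_
      obtain ⟨k, hk⟩ := Subgroup.card_dvd_of_le hlt.le
      have hdvd : Nat.card (H ⊔ Subgroup.zpowers q : Subgroup G) ∣ 243 :=
        T.card_Q ▸ Subgroup.card_dvd_of_le (sup_le hH (Subgroup.zpowers_le.2 hq))
      have hne : Nat.card (H ⊔ Subgroup.zpowers q : Subgroup G) ≠ Nat.card H := fun e =>
        hlt.ne (Subgroup.eq_of_le_of_card_ge hlt.le e.le)
      rw [T.card_Q, hk, hc] at *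
      have : k ∣ 3 := Nat.dvd_of_mul_dvd_mul_left (by norm_num : 0 < 81) hdvd
      rcases Nat.prime_three.eq_one_or_self_of_dvd k this with rfl | rfl
      · omega
      · norm_num
    have hall : T.Q ≤ Cb := htop ▸ sup_le hHC (Subgroup.zpowers_le.2 hqC)
    exact (Subgroup.mem_centralizer_singleton_iff.1 (hall hb)).symm
  have := Subgroup.card_le_of_le hsub
  rw [Subgroup.card_map_of_injective H.subtype_injective, T.card_Z] at this
  omega

theorem comm_card_le (A : Subgroup G) (hA : A ≤ T.Q) (hab : ∀ a ∈ A, ∀ b ∈ A, a * b = b * a) :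
    Nat.card A ≤ 27 := by
  classical
  have hdvd : Nat.card A ∣ 3 ^ 5 := by
    rw [show (3 : ℕ) ^ 5 = 243 by norm_num, ← T.card_Q]; exact Subgroup.card_dvd_of_le hA
  obtain ⟨k, hk, hk'⟩ := (Nat.dvd_prime_pow Nat.prime_three).1 hdvd
  interval_cases k <;> try (rw [hk']; norm_num; done)
  · obtain ⟨a, ha, b, hb, hne⟩ := T.not_comm_81 A hA (by rw [hk']; norm_num)
    exact absurd (com_eq_one_iff.2 (hab a ha b hb)) hne
  · have hAQ : A = T.Q := Subgroup.eq_of_le_of_card_ge hA (by rw [hk', T.card_Q]; norm_num)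
    have := Subgroup.card_le_of_le (show T.Q ≤ T.Z from fun a ha =>
      T.center a ha fun b hb => hab a (hAQ ▸ ha) b (hAQ ▸ hb))
    rw [T.card_Q, T.card_Z] at this
    omega

theorem z_pow_cases {x : G} (hx : x ∈ T.Z) : x = 1 ∨ x = T.z ∨ x = T.z⁻¹ := by
  haveI : Fact (Nat.Prime 3) := ⟨Nat.prime_three⟩
  obtain ⟨i, rfl⟩ := Subgroup.mem_zpowers_iff.1 hx
  have h := Int.emod_emod_of_dvd i (dvd_refl 3)
  have e : T.z ^ i = T.z ^ (i % 3) := by
    conv_lhs => rw [← Int.emod_add_mul_ediv i 3]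
    rw [zpow_add, zpow_mul, show T.z ^ (3 : ℤ) = 1 by exact_mod_cast T.z_cube, one_zpow, mul_one]
  rw [e]
  have h0 := Int.emod_nonneg i (show (3 : ℤ) ≠ 0 by norm_num)
  have h3 := Int.emod_lt_of_pos i (show (0 : ℤ) < 3 by norm_num)
  interval_cases i % 3
  · exact Or.inl (zpow_zero _)
  · exact Or.inr (Or.inl (zpow_one _))
  · refine Or.inr (Or.inr (eq_inv_of_mul_eq_one_left ?_))
    exact_mod_cast (by rw [← pow_succ]; exact T.z_cube : T.z ^ 2 * T.z = 1)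

/-- Elements normalising `Z` normalise `Q`. -/
theorem norm_Q {k : G} (hk : k * T.z * k⁻¹ ∈ T.Z) : k ∈ Subgroup.normalizer (T.Q : Set G) := by
  classical
  haveI : Fact (Nat.Prime 3) := ⟨Nat.prime_three⟩
  have hkC : ∀ c, c ∈ T.C → k * c * k⁻¹ ∈ T.C := by
    intro c hc
    have hne : k * T.z * k⁻¹ ≠ 1 := fun h => T.z_ne (conj_eq_one_iff.1 h)
    have h : Commute (k * c * k⁻¹) (k * T.z * k⁻¹) := by
      have := T.mem_C.1 hc
      show k * c * k⁻¹ * (k * T.z * k⁻¹) = k * T.z * k⁻¹ * (k * c * k⁻¹)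
      rw [show k * c * k⁻¹ * (k * T.z * k⁻¹) = k * (c * T.z) * k⁻¹ by group, this]; group
    rcases T.z_pow_cases hk with e | e | e
    · exact absurd e hne
    · rw [e] at h; exact T.mem_C.2 h.eq
    · rw [e, Commute.inv_right_iff] at h; exact T.mem_C.2 h.eq
  refine Subgroup.mem_normalizer_fintype fun a ha => ?_
  let f : T.Q →* SL2 := MonoidHom.mk' (fun a => T.ρ ⟨k * a * k⁻¹, hkC _ (T.Q_le_C a.2)⟩)
    fun a b => by
      rw [← map_mul]
      exact congrArg T.ρ (Subtype.ext (by push_cast; group))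
  have hf3 : ∀ a : T.Q, f a ^ 3 = 1 := fun a => by
    rw [← map_pow, show a ^ 3 = 1 from Subtype.ext (by simpa using T.exp a a.2), map_one]
  have hkinv : ∀ c, c ∈ T.C → k⁻¹ * c * k ∈ T.C := by
    intro c hc
    have h := hkC
    have hfin : ∀ n : ℕ, ∀ c ∈ T.C, k ^ n * c * (k ^ n)⁻¹ ∈ T.C := by
      intro n
      induction n with
      | zero => intro c hc; simpa using hc
      | succ n ih =>
        intro c hc
        rw [pow_succ', show k * k ^ n * c * (k * k ^ n)⁻¹ = k * (k ^ n * c * (k ^ n)⁻¹) * k⁻¹ by group]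
        exact h _ (ih c hc)
    have e : k⁻¹ = k ^ (orderOf k - 1) := by
      refine inv_eq_of_mul_eq_one_right ?_
      rw [← pow_succ', Nat.sub_add_cancel (orderOf_pos k), pow_orderOf_eq_one]
    have := hfin (orderOf k - 1) c hc
    rwa [← e, inv_inv] at this
  have hnorm : ∀ (g : SL2) (a : T.Q), ∃ b : T.Q, f b = g * f a * g⁻¹ := by
    intro g a
    obtain ⟨c, rfl, -⟩ := T.ρsurj g
    refine ⟨⟨k⁻¹ * c * k * a * (k⁻¹ * c * k)⁻¹, T.conj_Q (hkinv c c.2) a.2⟩, ?_⟩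
    show T.ρ _ = T.ρ c * T.ρ _ * (T.ρ c)⁻¹
    rw [← map_inv, ← map_mul, ← map_mul]
    exact congrArg T.ρ (Subtype.ext (by push_cast; group))
  let aQ : T.Q := ⟨a, ha⟩
  have h1 : f aQ = 1 := by
    by_contra hne
    refine hne (sl2_no_normal_three _ (hf3 aQ) fun g => ?_)
    obtain ⟨b, hb⟩ := hnorm g aQ
    have hcom : f aQ * f b = f b * f aQ := by
      have h := T.com_mem' aQ.2 b.2
      have h2 : f ⟨com (aQ : G) b, T.Z_le h⟩ = 1 := by
        refine ((T.ρker _).2 ?_).1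
        show k * com (aQ : G) b * k⁻¹ ∈ T.Q
        refine T.Z_le ?_
        rcases T.z_pow_cases h with e | e | e
        · rw [e]; simp
        · rw [e]; exact hk
        · rw [e, ← conj_inv]; exact inv_mem hk
      have h3 : f (aQ * b) = f ⟨com (aQ : G) b, T.Z_le h⟩ * f (b * aQ) := by
        rw [← map_mul]
        exact congrArg f (Subtype.ext (by push_cast; simp only [com]; group))
      rw [h2, one_mul, map_mul, map_mul] at h3
      exact h3
    rw [← hb]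
    rcases sl2_order_three _ (hf3 aQ) _ (hf3 b) hcom hne with e | e | e
    · refine absurd ?_ hne
      rw [e] at hb
      exact conj_eq_one_iff.1 hb.symm
    · exact Or.inl e
    · exact Or.inr e
  exact (T.ρker ⟨k * a * k⁻¹, hkC _ (T.Q_le_C ha)⟩).1 ⟨h1, T.η_cube (n := 1) (Subtype.ext (by
    rw [pow_one, Subgroup.coe_pow]
    show (k * a * k⁻¹) ^ 3 = 1
    rw [conj_pow, T.exp a ha, mul_one, mul_inv_cancel]))⟩

/-- A conjugate of `z` in `Q` outside `Z`. -/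
def IsPair (g : G) : Prop := g * T.z * g⁻¹ ∈ T.Q ∧ g * T.z * g⁻¹ ∉ T.Z

/-- `Q^g`. -/
def Qc (g : G) : Subgroup G := T.Q.map (MulAut.conj g).toMonoidHom

theorem mem_Qc {g x : G} : x ∈ T.Qc g ↔ g⁻¹ * x * g ∈ T.Q := by
  constructor
  · rintro ⟨a, ha, rfl⟩
    simpa [MulAut.conj_apply, mul_assoc] using ha
  · intro h
    exact ⟨_, h, by simp [MulAut.conj_apply, mul_assoc]⟩

theorem conj_mem_Qc {g a : G} (ha : a ∈ T.Q) : g * a * g⁻¹ ∈ T.Qc g :=
  T.mem_Qc.2 (by simpa [mul_assoc] using ha)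

theorem Qc_comm_y {g x : G} (hx : x ∈ T.Qc g) : x * (g * T.z * g⁻¹) = g * T.z * g⁻¹ * x := by
  have h := T.mem_C.1 (T.Q_le_C (T.mem_Qc.1 hx))
  calc x * (g * T.z * g⁻¹) = g * (g⁻¹ * x * g * T.z) * g⁻¹ := by group
    _ = g * (T.z * (g⁻¹ * x * g)) * g⁻¹ := by rw [h]
    _ = g * T.z * g⁻¹ * x := by group

theorem y_notMem_pow {g : G} (hg : T.IsPair g) {x : G} (hxZ : x ∈ T.Z)
    (hxy : x ∈ Subgroup.zpowers (g * T.z * g⁻¹)) : x = 1 := by
  obtain ⟨i, rfl⟩ := hxy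
  by_contra hne
  refine hg.2 ?_
  have hord : orderOf (g * T.z * g⁻¹) = 3 := by
    exact (orderOf_injective (MulAut.conj g).toMonoidHom (MulAut.conj g).injective T.z).trans T.hz
  haveI : Fact (Nat.Prime 3) := ⟨Nat.prime_three⟩
  have h3 : Nat.card (Subgroup.zpowers (g * T.z * g⁻¹)) = 3 := by rw [Nat.card_zpowers, hord]
  have hgen := zpowers_eq_top_of_prime_card h3
    (g := (⟨(g * T.z * g⁻¹) ^ i, Subgroup.zpow_mem_zpowers _ i⟩ : Subgroup.zpowers (g * T.z * g⁻¹)))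
    (fun h => hne (congrArg Subtype.val h))
  obtain ⟨j, hj⟩ : (⟨g * T.z * g⁻¹, Subgroup.mem_zpowers _⟩ : Subgroup.zpowers (g * T.z * g⁻¹)) ∈
      Subgroup.zpowers _ := hgen.symm ▸ Subgroup.mem_top _
  have := congrArg Subtype.val hj
  push_cast at this
  rw [← this]
  exact zpow_mem hxZ j

/-- `C_Q(y)`. -/
def Hy (g : G) : Subgroup G := T.Q ⊓ Subgroup.centralizer {g * T.z * g⁻¹}

theorem mem_Hy {g x : G} : x ∈ T.Hy g ↔ x ∈ T.Q ∧ com x (g * T.z * g⁻¹) = 1 := by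
  rw [Hy, Subgroup.mem_inf, Subgroup.mem_centralizer_singleton_iff, com_eq_one_iff]

theorem exists_com_eq {g : G} (hg : T.IsPair g) : ∃ q ∈ T.Q, com q (g * T.z * g⁻¹) = T.z := by
  classical
  obtain ⟨q0, hq0, hne⟩ : ∃ q ∈ T.Q, com q (g * T.z * g⁻¹) ≠ 1 := by
    by_contra h
    push Not at h
    exact hg.2 (T.center _ hg.1 fun b hb => (com_eq_one_iff.1 (h b hb)).symm)
  rcases T.z_pow_cases (T.com_mem' hq0 hg.1) with e | e | e
  · exact absurd e hne
  · exact ⟨q0, hq0, e⟩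
  · refine ⟨q0 * q0, mul_mem hq0 hq0, ?_⟩
    rw [T.com_mul_left hq0 hq0 hg.1, e, ← mul_inv_rev]
    exact inv_eq_of_mul_eq_one_left (by rw [← pow_two, ← pow_succ']; exact T.z_cube)

theorem card_Hy {g : G} (hg : T.IsPair g) : Nat.card (T.Hy g) = 81 := by
  let χ : T.Q →* T.Z := MonoidHom.mk' (fun h => ⟨com (h : G) _, T.com_mem' h.2 hg.1⟩)
    fun a b => Subtype.ext (T.com_mul_left a.2 b.2 hg.1)
  have hsurj : Function.Surjective χ := by
    intro ⟨x, hx⟩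
    obtain ⟨q, hq, hqz⟩ := T.exists_com_eq hg
    obtain ⟨i, rfl⟩ := Subgroup.mem_zpowers_iff.1 hx
    refine ⟨⟨q, hq⟩ ^ i, ?_⟩
    rw [map_zpow]
    exact Subtype.ext (by push_cast; exact congrArg (· ^ i) hqz)
  have e : χ.ker.map T.Q.subtype = T.Hy g := by
    ext x
    rw [T.mem_Hy]
    exact ⟨fun ⟨a, ha, e⟩ => e ▸ ⟨a.2, congrArg Subtype.val (MonoidHom.mem_ker.1 ha)⟩,
      fun ⟨h1, h2⟩ => ⟨⟨x, h1⟩, MonoidHom.mem_ker.2 (Subtype.ext h2), rfl⟩⟩
  rw [← e, Subgroup.card_map_of_injective T.Q.subtype_injective]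
  have h := χ.ker.card_eq_card_quotient_mul_card_subgroup
  rw [T.card_Q, Nat.card_congr (QuotientGroup.quotientKerEquivOfSurjective χ hsurj).toEquiv, T.card_Z] at h
  omega

theorem Hy_le_C {g h : G} (hh : h ∈ T.Hy g) : g⁻¹ * h * g ∈ T.C := by
  refine T.mem_C.2 ?_
  have h' := com_eq_one_iff.1 (T.mem_Hy.1 hh).2
  calc g⁻¹ * h * g * T.z = g⁻¹ * (h * (g * T.z * g⁻¹)) * g := by group
    _ = g⁻¹ * (g * T.z * g⁻¹ * h) * g := by rw [h']
    _ = T.z * (g⁻¹ * h * g) := by group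

theorem basic {g : G} (hg : T.IsPair g) :
    T.z ∈ T.Qc g ∧ T.IsPair g⁻¹ ∧ Nat.card (T.Q ⊓ T.Qc g : Subgroup G) = 27 ∧
      (∀ a ∈ T.Q ⊓ T.Qc g, ∀ b ∈ T.Q ⊓ T.Qc g, a * b = b * a) ∧ T.Q ⊓ T.Qc g ≤ T.Hy g := by
  classical
  let f : T.Hy g →* SL2 := MonoidHom.mk' (fun h => T.ρ ⟨g⁻¹ * h * g, T.Hy_le_C h.2⟩)
    fun a b => by rw [← map_mul]; exact congrArg T.ρ (Subtype.ext (by push_cast; group))
  have hker : ∀ h : T.Hy g, f h = 1 ↔ (h : G) ∈ T.Qc g := fun h =>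
    ⟨fun e => T.mem_Qc.2 ((T.ρker ⟨g⁻¹ * h * g, T.Hy_le_C h.2⟩).1 ⟨e, T.η_cube (n := 1) (Subtype.ext (by
      rw [pow_one, Subgroup.coe_pow]
      show (g⁻¹ * (h : G) * g) ^ 3 = 1
      calc (g⁻¹ * (h : G) * g) ^ 3 = g⁻¹ * (h : G) ^ 3 * g := by simp [pow_succ, mul_assoc]
        _ = 1 := by rw [T.exp h (T.mem_Hy.1 h.2).1]; group))⟩),
    fun e => ((T.ρker ⟨g⁻¹ * h * g, T.Hy_le_C h.2⟩).2 (T.mem_Qc.1 e)).1⟩
  have hf3 : ∀ h : T.Hy g, f h ^ 3 = 1 := fun h => by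
    rw [← map_pow, show h ^ 3 = 1 from Subtype.ext (by simpa using T.exp h (T.mem_Hy.1 h.2).1), map_one]
  have hcomm : ∀ a b : T.Hy g, f a * f b = f b * f a → com (a : G) b ∈ T.Qc g := fun a b h => by
    have e : f (a * b * a⁻¹ * b⁻¹) = 1 := by rw [map_mul, map_mul, map_mul, h, map_inv, map_inv]; group
    exact (hker _).1 e
  have hzy : T.z ∈ T.Hy g :=
    T.mem_Hy.2 ⟨T.hzQ, com_eq_one_iff.2 (T.mem_C.1 (T.Q_le_C hg.1)).symm⟩
  -- the image is a 3-group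
  have hrange : Nat.card f.range ≤ 3 := by
    have h1 : Nat.card f.range ∣ 81 := T.card_Hy hg ▸ Subgroup.card_range_dvd f
    have h2 : Nat.card f.range ∣ 24 := card_sl2' ▸ Subgroup.card_subgroup_dvd_card _
    exact Nat.le_of_dvd (by norm_num) (Nat.dvd_gcd h1 h2)
  have hfab : ∀ a b : T.Hy g, f a * f b = f b * f a := by
    intro a b
    haveI : Fact (Nat.Prime 3) := ⟨Nat.prime_three⟩
    by_cases ha : f a = 1
    · rw [ha]; simp
    have h3 : Nat.card f.range = 3 := by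
      refine le_antisymm hrange ?_
      have ho : orderOf (f a) = 3 := orderOf_eq_prime (hf3 a) ha
      exact ho.ge.trans ((Subgroup.orderOf_mk (f a) (⟨a, rfl⟩ : f a ∈ f.range)).ge.trans (Nat.le_of_dvd Nat.card_pos (orderOf_dvd_natCard _)))
    have hgen := zpowers_eq_top_of_prime_card h3 (g := (⟨f a, a, rfl⟩ : f.range))
      (fun h => ha (congrArg Subtype.val h))
    obtain ⟨j, hj⟩ : (⟨f b, b, rfl⟩ : f.range) ∈ Subgroup.zpowers _ := hgen.symm ▸ Subgroup.mem_top _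
    have e := congrArg Subtype.val hj
    push_cast at e
    rw [← e]
    exact ((Commute.refl (f a)).zpow_right j).eq
  have hz : T.z ∈ T.Qc g := by
    obtain ⟨a, ha, b, hb, hne⟩ := T.not_comm_81 _ inf_le_left (T.card_Hy hg)
    have h := hcomm ⟨a, ha⟩ ⟨b, hb⟩ (hfab _ _)
    rcases T.z_pow_cases (T.com_mem' (T.mem_Hy.1 ha).1 (T.mem_Hy.1 hb).1) with e | e | e
    · exact absurd e hne
    · exact e ▸ h
    · exact inv_inv T.z ▸ inv_mem (e ▸ h)
  have hpair : T.IsPair g⁻¹ := by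
    refine ⟨by simpa using T.mem_Qc.1 hz, fun h => ?_⟩
    refine T.z_ne (T.y_notMem_pow hg T.z_mem ?_)
    have e : T.z = g * (g⁻¹ * T.z * g⁻¹⁻¹) * g⁻¹ := by group
    obtain ⟨i, hi⟩ := Subgroup.mem_zpowers_iff.1 h
    refine ⟨i, ?_⟩
    show (g * T.z * g⁻¹) ^ i = T.z
    rw [conj_zpow, hi]; group
  have hle : T.Q ⊓ T.Qc g ≤ T.Hy g := fun x hx =>
    T.mem_Hy.2 ⟨hx.1, com_eq_one_iff.2 (T.Qc_comm_y hx.2)⟩
  have hab : ∀ a ∈ T.Q ⊓ T.Qc g, ∀ b ∈ T.Q ⊓ T.Qc g, a * b = b * a := by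
    intro a ha b hb
    refine com_eq_one_iff.1 (T.y_notMem_pow hg (T.com_mem' ha.1 hb.1) ?_)
    have h := T.com_mem' (T.mem_Qc.1 ha.2) (T.mem_Qc.1 hb.2)
    have e : com a b = g * com (g⁻¹ * a * g) (g⁻¹ * b * g) * g⁻¹ := by simp only [com]; group
    obtain ⟨i, hi⟩ := Subgroup.mem_zpowers_iff.1 h
    rw [e]
    refine ⟨i, ?_⟩
    show (g * T.z * g⁻¹) ^ i = _
    rw [conj_zpow, hi]
  refine ⟨hz, hpair, le_antisymm (T.comm_card_le _ inf_le_left hab) ?_, hab, hle⟩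
  have e : f.ker.map (T.Hy g).subtype ≤ T.Q ⊓ T.Qc g := by
    rintro _ ⟨h, hh, rfl⟩
    exact ⟨(T.mem_Hy.1 h.2).1, (hker h).1 hh⟩
  refine le_trans ?_ (Subgroup.card_le_of_le e)
  rw [Subgroup.card_map_of_injective (T.Hy g).subtype_injective]
  have h := f.ker.card_eq_card_quotient_mul_card_subgroup
  rw [T.card_Hy hg, Nat.card_congr (QuotientGroup.quotientKerEquivRange f).toEquiv] at h
  nlinarith [Nat.card_pos (α := f.ker)]
where
  card_sl2' : Nat.card SL2 = 24 := by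
    rw [Nat.card_eq_fintype_card]
    decide +kernel

theorem com_Qc {g b d : G} (hb : b ∈ T.Qc g) (hd : d ∈ T.Qc g) :
    com b d ∈ Subgroup.zpowers (g * T.z * g⁻¹) := by
  obtain ⟨i, hi⟩ := Subgroup.mem_zpowers_iff.1 (T.com_mem' (T.mem_Qc.1 hb) (T.mem_Qc.1 hd))
  refine ⟨i, ?_⟩
  show (g * T.z * g⁻¹) ^ i = _
  rw [conj_zpow, hi]
  simp only [com]; group

end Pre

end Cfsg.Agent.Spor.OmegaEightThree
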