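import Cfsg.Agent.Lib.Spor.OmegaEightThree.Trans
import Cfsg.Agent.Lib.Solv.SetMul

/-!
The classes of `n` and `r` differ: the derived subgroups of the Sylow subgroups of their centralisers
meet the class of `z` in `Z` alone, and `N(Z)` preserves the fixed points of the central involution.
-/

set_option autoImplicit false
set_option linter.unusedSectionVars false
set_option maxHeartbeats 1000000

namespace Cfsg.Agent.Spor.OmegaEightThree

open Cfsg.Agent.Spor.PSLFourThree (com)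

local notation "SL2" => Matrix.SpecialLinearGroup (Fin 2) (ZMod 3)

theorem exists_four : ∃ γ : SL2, γ ^ 2 = -1 := ⟨⟨!![0, -1; 1, 0], by decide⟩, by decide +kernel⟩

theorem mult_two_sq : ∀ x : Multiplicative (ZMod 2), x ^ 2 = 1 := by decide

namespace Loc

theorem translate_moves : Frame.mU (![0, 1, 0, 0] : Four) = ![1, 0, 0, 0] + ![0, 1, 0, 0] ∧
    Frame.mU (![0, 1, 0, 0] : Four) ≠ ![0, 1, 0, 0] ∧ Frame.mV (![0, 0, 1, 0] : Four) ≠ ![0, 0, 1, 0] ∧
    qf ![0, 1, 0, 0] ≠ 0 := by decide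

variable {G : Type*} [Group G] [Finite G] {T : Loc G}

/-- The normaliser of `Z` preserves the fixed points of the central involution. -/
theorem plus_stable {k : G} (hk : k * T.z * k⁻¹ ∈ T.toPre.Z) {a : G} (ha : a ∈ T.Q)
    (hp : T.bar ⟨a, ha⟩ ∈ T.plus) (hb : k * a * k⁻¹ ∈ T.Q) : T.bar ⟨k * a * k⁻¹, hb⟩ ∈ T.plus := by
  have hkQ := Subgroup.mem_normalizer_iff.1 (T.norm_Q hk)
  have hZ : ∀ x ∈ T.toPre.Z, k * x * k⁻¹ ∈ T.toPre.Z := by
    intro x hx
    obtain ⟨i, rfl⟩ := Subgroup.mem_zpowers_iff.1 hx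
    rw [← conj_zpow]
    exact zpow_mem hk _
  have hconjC : ∀ c : G, c ∈ T.C → k * c * k⁻¹ ∈ T.C := by
    intro c hc
    refine T.mem_C.2 ?_
    have hzi : ∀ y ∈ T.toPre.Z, ∃ x ∈ T.toPre.Z, k * x * k⁻¹ = y := by
      intro y hy
      have hmap : T.toPre.Z.map (MulAut.conj k).toMonoidHom = T.toPre.Z := by
        refine Subgroup.eq_of_le_of_card_ge ?_ (by rw [Subgroup.card_map_of_injective (MulAut.conj k).injective])
        rintro _ ⟨x, hx, rfl⟩
        exact hZ x hx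
      rw [← hmap] at hy
      obtain ⟨x, hx, rfl⟩ := hy
      exact ⟨x, hx, rfl⟩
    obtain ⟨x, hx, hxz⟩ := hzi _ T.z_mem
    calc k * c * k⁻¹ * T.z = k * (c * x) * k⁻¹ := by rw [← hxz]; group
      _ = k * (x * c) * k⁻¹ := by rw [T.Z_central hc hx]
      _ = T.z * (k * c * k⁻¹) := by rw [← hxz]; group
  obtain ⟨γ, hγ⟩ := exists_four
  obtain ⟨c, hc, hcη⟩ := T.ρsurj γ
  set c2 : T.C := c ^ 2 with hc2
  have hρ2 : T.ρ c2 = -1 := by rw [hc2, map_pow, hc, hγ]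
  have hη2 : T.η c2 = 1 := by rw [hc2, map_pow, hcη, one_pow]
  set w : T.C := (⟨k * c * k⁻¹, hconjC _ c.2⟩ : T.C) ^ 2 with hw
  have hwv : (w : G) = k * c2 * k⁻¹ := by
    rw [hw, hc2]; push_cast; rw [conj_pow]
  have hηw : T.η w = 1 := by rw [hw, map_pow]; exact mult_two_sq _
  have hρw2 : T.ρ w * T.ρ w = 1 := by
    rw [← map_mul]
    refine ((T.ρker _).2 ?_).1
    have h : ((c2 * c2 : T.C) : G) ∈ T.Q := (T.ρker (c2 * c2)).1
      ⟨by rw [map_mul, hρ2]; decide +kernel, by rw [map_mul, hη2, one_mul]⟩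
    rw [show ((w * w : T.C) : G) = k * ((c2 * c2 : T.C) : G) * k⁻¹ by push_cast; rw [hwv]; group]
    exact (hkQ _).1 h
  have hρw : T.ρ w = -1 := by
    refine (sq_one_cases _ hρw2).resolve_left fun h => ?_
    have hwQ : (w : G) ∈ T.Q := (T.ρker w).1 ⟨h, hηw⟩
    rw [hwv] at hwQ
    have := ((T.ρker c2).2 ((hkQ _).2 hwQ)).1
    rw [hρ2] at this
    exact absurd this (by decide +kernel)
  have hfix : (a : G)⁻¹ * ((c2 : G) * a * (c2 : G)⁻¹) ∈ T.toPre.Z := by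
    have h := T.act_bar hη2 ⟨a, ha⟩
    rw [hρ2, T.toPre.mem_plus.1 hp] at h
    exact T.bar_eq.1 h
  rw [T.toPre.mem_plus]
  conv_lhs => rw [← hρw, T.act_bar hηw]
  refine (T.bar_eq.2 ?_).symm
  show (k * a * k⁻¹)⁻¹ * ((w : G) * (k * a * k⁻¹) * (w : G)⁻¹) ∈ T.toPre.Z
  rw [hwv, show (k * a * k⁻¹)⁻¹ * (k * c2 * k⁻¹ * (k * a * k⁻¹) * (k * c2 * k⁻¹)⁻¹) =
    k * ((a : G)⁻¹ * ((c2 : G) * a * (c2 : G)⁻¹)) * k⁻¹ by group]
  exact hZ _ hfix

/-- The centralisers of the elements outside the class of `z^{±1}` have no subgroup of order `729`. -/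
theorem card_le_cent {x : G} (hx3 : x ^ 3 = 1) (hx1 : x ≠ 1) (hxZ : ¬ T.IsZ x) {P : Subgroup G}
    (hP : IsPGroup 3 P) (hPx : P ≤ Subgroup.centralizer {x}) : Nat.card P ≤ 243 := by
  classical
  haveI : Fact (Nat.Prime 3) := ⟨Nat.prime_three⟩
  by_contra hlt
  push Not at hlt
  obtain ⟨m, hm⟩ := IsPGroup.iff_card.1 hP
  have hm6 : 729 ≤ Nat.card P := by
    rw [hm] at hlt ⊢
    have : 6 ≤ m := by
      by_contra h
      push Not at h
      have := Nat.pow_le_pow_right (show 1 ≤ 3 by norm_num) (show m ≤ 5 by omega)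
      omega
    calc 729 = 3 ^ 6 := by norm_num
      _ ≤ 3 ^ m := Nat.pow_le_pow_right (by norm_num) this
  have hxn : Subgroup.zpowers x ≤ Subgroup.normalizer (P : Set G) := by
    rw [Subgroup.zpowers_le]
    refine Subgroup.mem_normalizer_fintype fun p hp => ?_
    rw [← Subgroup.mem_centralizer_singleton_iff.1 (hPx hp), mul_inv_cancel_right]
    exact hp
  have hXp : IsPGroup 3 (Subgroup.zpowers x) := IsPGroup.of_card (n := 1) (by
    rw [Nat.card_zpowers, pow_one]; exact orderOf_eq_prime hx3 hx1)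
  obtain ⟨P₁, hP₁⟩ := IsPGroup.exists_le_sylow (hXp.to_sup_of_normal_right' hP hxn)
  have hP₁c := T.sylow P₁ P₁.isPGroup'
  have heq : P = P₁ := Subgroup.eq_of_le_of_card_ge (le_sup_right.trans hP₁) (by omega)
  have hxP : x ∈ P := heq ▸ hP₁ (Subgroup.mem_sup_left (Subgroup.mem_zpowers x))
  obtain ⟨P₀, hP₀⟩ := IsPGroup.exists_le_sylow (IsPGroup.of_card (p := 3) (G := T.Q) (n := 5) (by rw [T.card_Q]; norm_num))
  obtain ⟨g, hg⟩ := MulAction.exists_smul_eq G P₁ P₀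
  have hgP : ∀ a ∈ T.Q, g⁻¹ * a * g ∈ P := by
    intro a ha
    have h : a ∈ ((g • P₁ : Sylow 3 G) : Subgroup G) := by rw [hg]; exact hP₀ ha
    rw [Sylow.coe_subgroup_smul, Subgroup.mem_pointwise_smul_iff_inv_smul_mem] at h
    rw [heq]
    simpa using h
  have hy : g * x * g⁻¹ ∈ T.Q := T.self (Subgroup.mem_centralizer_iff.2 fun a ha => by
    have h := Subgroup.mem_centralizer_singleton_iff.1 (hPx (hgP a ha))
    calc a * (g * x * g⁻¹) = g * (g⁻¹ * a * g * x) * g⁻¹ := by group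
      _ = g * (x * (g⁻¹ * a * g)) * g⁻¹ := by rw [h]
      _ = g * x * g⁻¹ * a := by group)
  have hyZ : g * x * g⁻¹ ∈ T.toPre.Z := T.center _ hy fun a ha => by
    have h := Subgroup.mem_centralizer_singleton_iff.1 (hPx (hgP a ha))
    calc g * x * g⁻¹ * a = g * (x * (g⁻¹ * a * g)) * g⁻¹ := by group
      _ = g * (g⁻¹ * a * g * x) * g⁻¹ := by rw [h]
      _ = a * (g * x * g⁻¹) := by group
  rcases T.z_pow_cases hyZ with e | e | e
  · exact hx1 (conj_eq_one_iff.1 e)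
  · exact hxZ ⟨g⁻¹, Or.inl (by rw [← e]; group)⟩
  · exact hxZ ⟨g⁻¹, Or.inr (by rw [← e]; group)⟩

namespace Frame

variable (F : Frame T)

/-- The extension of `E` by an element of order three of its normaliser. -/
def ext (q : G) : Subgroup G := F.E ⊔ Subgroup.zpowers q

variable {F}

theorem ext_mem {q : G} (hq : q ∈ Subgroup.normalizer (F.E : Set G)) {x : G} (hx : x ∈ F.ext q) :
    ∃ v : Four, ∃ i : ℤ, x = F.el v * q ^ i := by
  rw [ext, ← SetLike.mem_coe, Subgroup.coe_mul_of_right_le_normalizer_left F.E (Subgroup.zpowers q)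
    (Subgroup.zpowers_le.2 hq)] at hx
  obtain ⟨e, he, w, hw, rfl⟩ := hx
  obtain ⟨v, rfl⟩ := F.mem_E_iff.1 he
  obtain ⟨i, rfl⟩ := Subgroup.mem_zpowers_iff.1 hw
  exact ⟨v, i, rfl⟩

theorem card_ext {q : G} (hq : q ∈ Subgroup.normalizer (F.E : Set G)) (hq3 : q ^ 3 = 1) (hqE : q ∉ F.E) :
    IsPGroup 3 (F.ext q) ∧ Nat.card (F.ext q) = 243 := by
  haveI : Fact (Nat.Prime 3) := ⟨Nat.prime_three⟩
  have hq1 : q ≠ 1 := fun h => hqE (h ▸ one_mem _)
  have hc : Nat.card (Subgroup.zpowers q) = 3 := by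
    rw [Nat.card_zpowers]; exact orderOf_eq_prime hq3 hq1
  have hinf : Nat.card (F.E ⊓ Subgroup.zpowers q : Subgroup G) = 1 := by
    rcases (Nat.dvd_prime Nat.prime_three).1 (hc ▸ Subgroup.card_dvd_of_le
      (inf_le_right : F.E ⊓ Subgroup.zpowers q ≤ Subgroup.zpowers q)) with h | h
    · exact h
    · exact absurd ((Subgroup.eq_of_le_of_card_ge inf_le_right (by rw [h, hc])).ge (Subgroup.mem_zpowers q)).1 hqE
  have h1 := Cfsg.Agent.Solv.card_mul_set_mul_card_inf F.E (Subgroup.zpowers q)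
  rw [← Subgroup.coe_mul_of_right_le_normalizer_left F.E (Subgroup.zpowers q) (Subgroup.zpowers_le.2 hq),
    SetLike.coe_sort_coe, F.card_E, hc, hinf, mul_one] at h1
  exact ⟨IsPGroup.of_card (n := 5) (by rw [ext, h1]; norm_num), h1⟩

theorem zsmul_map {φ : Four → Four} {q : G} (h : F.Act q φ) (i : ℤ) :
    ∃ ψ : Four → Four, F.Act (q ^ i) ψ ∧ ∀ c : Fin 4, (∀ v, φ v c = v c) → ∀ v, ψ v c = v c := by
  induction i using Int.induction_on with
  | zero => exact ⟨id, by rw [zpow_zero]; exact Act.one, fun _ _ _ => rfl⟩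
  | succ i ih =>
    obtain ⟨ψ, hψ, hc⟩ := ih
    refine ⟨ψ ∘ φ, by rw [zpow_add_one]; exact hψ.mul h, fun c hφ v => ?_⟩
    rw [Function.comp_apply, hc c hφ, hφ]
  | pred i ih =>
    obtain ⟨ψ, hψ, hc⟩ := ih
    obtain ⟨θ, hθ⟩ := F.exists_act (inv_mem h.mem)
    refine ⟨ψ ∘ θ, by rw [zpow_sub_one]; exact hψ.mul hθ, fun c hφ v => ?_⟩
    have e : φ (θ v) = v := by
      refine F.el_inj ?_
      rw [← h, ← hθ]; group
    rw [Function.comp_apply, hc c hφ, ← hφ (θ v), e]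

variable (hF : F.Classified)
include hF

theorem Classified.not_isZ {v : Four} (hq : qf v ≠ 0) : ¬ T.IsZ (F.el v) := fun h =>
  hq ((hF.iff_qf v).1 h).2

/-- `r` is conjugate neither to `n` nor to `n⁻¹`. -/
theorem Classified.r_ne_n (g : G) : g * F.r * g⁻¹ ≠ F.n ∧ g * F.r * g⁻¹ ≠ F.n⁻¹ := by
  classical
  haveI : Fact (Nat.Prime 3) := ⟨Nat.prime_three⟩
  obtain ⟨q₁, h₁, hU⟩ := hF.exists_U
  obtain ⟨q₀, h₀, -, hV⟩ := hF.exists_V
  have hq₁E : q₁ ∉ F.E := fun h => by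
    obtain ⟨v, rfl⟩ := F.mem_E_iff.1 h
    have := hU ![0, 1, 0, 0]
    rw [F.el_comm, mul_inv_cancel_right] at this
    exact translate_moves.2.1 (F.el_inj this).symm
  have hq₀E : q₀ ∉ F.E := fun h => by
    obtain ⟨v, rfl⟩ := F.mem_E_iff.1 h
    have := hV ![0, 0, 1, 0]
    rw [F.el_comm, mul_inv_cancel_right] at this
    exact translate_moves.2.2.1 (F.el_inj this).symm
  obtain ⟨hP₁p, hP₁c⟩ := card_ext hU.mem (T.exp _ h₁) hq₁E
  obtain ⟨hP₂p, hP₂c⟩ := card_ext hV.mem (T.exp _ h₀) hq₀E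
  have hr : F.el ![0, 0, 1, 0] = F.r := F.el_r
  have hn : F.el ![0, 1, 0, 0] = F.n := F.el_n
  have hPr : F.ext q₁ ≤ Subgroup.centralizer {F.r} := by
    refine sup_le (fun e he => ?_) (Subgroup.zpowers_le.2 ?_) <;> rw [Subgroup.mem_centralizer_singleton_iff]
    · exact F.E_comm he F.r_mem_E
    · refine mul_inv_eq_iff_eq_mul.1 ?_
      rw [← hr, hU]
      rfl
  have hPn : F.ext q₀ ≤ Subgroup.centralizer {F.n} := by
    refine sup_le (fun e he => ?_) (Subgroup.zpowers_le.2 ?_) <;> rw [Subgroup.mem_centralizer_singleton_iff]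
    · exact F.E_comm he F.n_mem_E
    · refine mul_inv_eq_iff_eq_mul.1 ?_
      rw [← hn, hV]
      rfl
  suffices ∀ k : G, (k * F.r * k⁻¹ = F.n ∨ k * F.r * k⁻¹ = F.n⁻¹) →
      (∀ x ∈ F.ext q₁, k * x * k⁻¹ ∈ F.ext q₀) → False by
    by_contra hcon
    have hg : g * F.r * g⁻¹ = F.n ∨ g * F.r * g⁻¹ = F.n⁻¹ := by tauto
    set Cn := Subgroup.centralizer ({F.n} : Set G) with hCn
    set P := (F.ext q₁).map (MulAut.conj g).toMonoidHom with hP
    have hPc : Nat.card P = 243 := by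
      rw [hP, Subgroup.card_map_of_injective (MulAut.conj g).injective, hP₁c]
    have hPle : P ≤ Cn := by
      rintro _ ⟨x, hx, rfl⟩
      have h : Commute x F.r := Subgroup.mem_centralizer_singleton_iff.1 (hPr hx)
      have h' := (Commute.conj_iff g).2 h
      refine Subgroup.mem_centralizer_singleton_iff.2 ?_
      rcases hg with e | e <;> rw [e] at h'
      · exact h'.eq
      · exact (inv_inv F.n ▸ h'.inv_right).eq
    have hmax : ∀ R : Subgroup Cn, IsPGroup 3 R → Nat.card R ≤ 243 := by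
      intro R hR
      rw [Nat.card_congr (R.equivMapOfInjective Cn.subtype Cn.subtype_injective).toEquiv]
      refine card_le_cent (T := T) (x := F.n) (by rw [← hn, F.el_cube]) (fun h => F.n_notZ (by rw [h]; exact one_mem _)) ?_ (hR.map _)
        (Subgroup.map_subtype_le _)
      rw [← hn]
      exact hF.not_isZ translate_moves.2.2.2
    obtain ⟨S₁, hS₁⟩ := IsPGroup.exists_le_sylow (P := P.subgroupOf Cn)
      ((IsPGroup.of_card (p := 3) (n := 5) (by rw [hPc]; norm_num)).comap_subtype (H := P) (K := Cn))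
    obtain ⟨S₂, hS₂⟩ := IsPGroup.exists_le_sylow (P := (F.ext q₀).subgroupOf Cn)
      (hP₂p.comap_subtype (H := F.ext q₀) (K := Cn))
    have hS₂' : (F.ext q₀).subgroupOf Cn = S₂ := Subgroup.eq_of_le_of_card_ge hS₂ (by
      rw [Nat.card_congr (Subgroup.subgroupOfEquivOfLe hPn).toEquiv, hP₂c]
      exact hmax _ S₂.isPGroup')
    obtain ⟨h, hh⟩ := MulAction.exists_smul_eq Cn S₁ S₂
    refine this ((h : G) * g) ?_ fun x hx => ?_
    · have hc := Subgroup.mem_centralizer_singleton_iff.1 h.2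
      rcases hg with e | e
      · left
        rw [show (h : G) * g * F.r * ((h : G) * g)⁻¹ = h * (g * F.r * g⁻¹) * (h : G)⁻¹ by group, e, hc,
          mul_inv_cancel_right]
      · right
        rw [show (h : G) * g * F.r * ((h : G) * g)⁻¹ = h * (g * F.r * g⁻¹) * (h : G)⁻¹ by group, e,
          (show Commute (h : G) F.n⁻¹ from (show Commute (h : G) F.n from hc).inv_right).eq, mul_inv_cancel_right]
    · have h1 : (⟨g * x * g⁻¹, hPle ⟨x, hx, rfl⟩⟩ : Cn) ∈ (S₁ : Subgroup Cn) := hS₁ ⟨x, hx, rfl⟩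
      have h2 : h * ⟨g * x * g⁻¹, hPle ⟨x, hx, rfl⟩⟩ * h⁻¹ ∈ (F.ext q₀).subgroupOf Cn := by
        rw [hS₂', ← hh, Sylow.coe_subgroup_smul, Subgroup.mem_pointwise_smul_iff_inv_smul_mem]
        simpa [mul_assoc] using h1
      have h3 : (h : G) * (g * x * g⁻¹) * (h : G)⁻¹ ∈ F.ext q₀ := h2
      rwa [show (h : G) * (g * x * g⁻¹) * (h : G)⁻¹ = (h : G) * g * x * ((h : G) * g)⁻¹ by group] at h3
  intro k hk hmap
  -- the derived subgroup of `E⟨q₀⟩` lies in `⟨z, r⟩`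
  obtain ⟨v, i, hx⟩ := ext_mem hV.mem (hmap q₁ (Subgroup.mem_sup_right (Subgroup.mem_zpowers _)))
  obtain ⟨w, j, hy⟩ := ext_mem hV.mem (hmap F.n (Subgroup.mem_sup_left F.n_mem_E))
  obtain ⟨Vi, hVi, hi'⟩ := zsmul_map hV i
  obtain ⟨Vj, hVj, hj'⟩ := zsmul_map hV j
  have hkz : k * T.z * k⁻¹ = F.el (v + Vi w + Vj (-v) + -w) := by
    have e : com q₁ F.n = T.z := by
      rw [com, ← hn, hU, translate_moves.1, F.el_mul, F.el_z,
        mul_inv_cancel_right]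
    rw [← e, com, show k * (q₁ * F.n * q₁⁻¹ * F.n⁻¹) * k⁻¹ =
      (k * q₁ * k⁻¹) * (k * F.n * k⁻¹) * (k * q₁ * k⁻¹)⁻¹ * (k * F.n * k⁻¹)⁻¹ by group, hx, hy,
      show F.el v * q₀ ^ i * (F.el w * q₀ ^ j) * (F.el v * q₀ ^ i)⁻¹ * (F.el w * q₀ ^ j)⁻¹ =
        F.el v * (q₀ ^ i * F.el w * (q₀ ^ i)⁻¹) * (q₀ ^ j * (F.el v)⁻¹ * (q₀ ^ j)⁻¹) * (F.el w)⁻¹ by group,
      hVi, ← F.el_neg, hVj, ← F.el_neg, ← F.el_mul, ← F.el_mul, ← F.el_mul]
  obtain ⟨u, hu⟩ : ∃ u, u = v + Vi w + Vj (-v) + -w := ⟨_, rfl⟩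
  have h13 : u 1 = 0 ∧ u 3 = 0 := by
    have a1 := hi' 1 (fun x => (gen_keep x).2.2.1)
    have b1 := hj' 1 (fun x => (gen_keep x).2.2.1)
    have a3 := hi' 3 (fun x => (gen_keep x).2.2.2)
    have b3 := hj' 3 (fun x => (gen_keep x).2.2.2)
    rw [hu]
    simp only [Pi.add_apply, a1, b1, a3, b3, Pi.neg_apply]
    constructor <;> ring
  have hu0 : u 2 = 0 := by
    have h : T.IsZ (F.el u) := hu ▸ hkz ▸ (isZ_z (T := T)).conj k
    have h' := ((hF.iff_qf u).1 h).2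
    simp only [qf, h13.1, h13.2, mul_zero, zero_add, zero_sub, neg_eq_zero, mul_self_eq_zero] at h'
    exact h'
  have hkZ : k * T.z * k⁻¹ ∈ T.toPre.Z := by
    rw [hkz, ← hu, show u = u 0 • (![1, 0, 0, 0] : Four) from by
      funext c; fin_cases c <;> simp [h13.1, h13.2, hu0], F.el_smul, F.el_z]
    exact pow_mem T.z_mem _
  have hb : k * F.r * k⁻¹ ∈ T.Q := (Subgroup.mem_normalizer_iff.1 (T.norm_Q hkZ) _).1 F.r_mem
  have hplus := plus_stable hkZ F.r_mem ((F.ht.plus_iff F.r_mem).2 F.comps.cent) hb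
  have hnp : T.bar ⟨F.n, F.n_mem⟩ ∈ T.plus := by
    rcases hk with e | e
    · exact (show (⟨k * F.r * k⁻¹, hb⟩ : T.Q) = ⟨F.n, F.n_mem⟩ from Subtype.ext e) ▸ hplus
    · rw [show (⟨F.n, F.n_mem⟩ : T.Q) = (⟨k * F.r * k⁻¹, hb⟩ : T.Q)⁻¹ from Subtype.ext (by simp [e]),
        Pre.bar_inv]
      exact inv_mem hplus
  exact F.n_notZ (T.bar_eq_one.1 (T.plus_minus hnp ((F.ht.minus_iff F.n_mem).2 F.comps.hn1)))

end Frame

end Loc

end Cfsg.Agent.Spor.OmegaEightThree
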