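import Cfsg.Agent.Lib.Spor.OmegaEightThree.QuotCore
import Cfsg.Agent.Lib.Spor.OmegaEightThree.Double.Sigma
import Cfsg.Agent.Lib.Fusion.Cores
import Cfsg.Agent.Lib.Solv.Extraspecial

/-!
`C_G(r)/⟨r⟩` satisfies the hypotheses of the `PSp₄(3)` recognition when `C/Q ≅ SL(2,3)`.
-/

set_option autoImplicit false
set_option linter.unusedSectionVars false
set_option linter.style.haveILetI false
set_option maxHeartbeats 1000000
set_option maxRecDepth 100000

namespace Cfsg.Agent.Spor.OmegaEightThree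

open Cfsg.Agent.Spor.PSLFourThree (com)
open scoped commutatorElement

local notation "SL2" => Matrix.SpecialLinearGroup (Fin 2) (ZMod 3)

/-- A nonabelian group of order `27` and exponent `3` is extraspecial. -/
theorem extraspecial_twentyseven {E : Type*} [Group E] [Finite E] (hc : Nat.card E = 27)
    (hnc : ¬ ∀ a b : E, Commute a b) (he : ∀ a : E, a ^ 3 = 1) : Cfsg.IsExtraspecial 3 E := by
  haveI : Fact (Nat.Prime 3) := ⟨Nat.prime_three⟩
  have hp : IsPGroup 3 E := IsPGroup.of_card (n := 3) (by rw [hc]; norm_num)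
  obtain ⟨k, hk0, hk⟩ := IsPGroup.card_center_eq_prime_pow (p := 3) (G := E) (n := 3) (by rw [hc]; norm_num)
    (by norm_num)
  have hmul := Subgroup.card_mul_index (Subgroup.center E)
  rw [hk, hc] at hmul
  have hcyc : ∀ [IsCyclic (E ⧸ Subgroup.center E)], False := fun {_} => hnc fun a b =>
    ((MonoidHom.isMulCommutative_of_isCyclic_of_ker_le_center (QuotientGroup.mk' (Subgroup.center E)) (by rw [QuotientGroup.ker_mk'])).is_comm.comm a b)
  have hk1 : k = 1 := by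
    by_contra hne
    have hk2 : 2 ≤ k := by omega
    have h9 : 9 ≤ 3 ^ k := le_trans (by norm_num) (Nat.pow_le_pow_right (by norm_num) hk2)
    have hi : (Subgroup.center E).index ∣ 3 := by
      rcases Nat.lt_or_ge k 3 with h | h
      · have : k = 2 := by omega
        subst this
        have : (Subgroup.center E).index = 3 := by omega
        rw [this]
      · have h27 : 27 ≤ 3 ^ k := le_trans (by norm_num) (Nat.pow_le_pow_right (by norm_num) h)
        have : (Subgroup.center E).index = 1 := by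
          have := Nat.pos_of_ne_zero (Subgroup.center E).index_ne_zero_of_finite
          nlinarith
        rw [this]
        exact one_dvd _
    rcases (Nat.dvd_prime Nat.prime_three).1 hi with h | h
    · haveI : Subsingleton (E ⧸ Subgroup.center E) :=
        (Nat.card_eq_one_iff_unique.1 (by rw [← Subgroup.index_eq_card, h])).1
      haveI : IsCyclic (E ⧸ Subgroup.center E) := isCyclic_of_subsingleton
      exact hcyc
    · haveI : IsCyclic (E ⧸ Subgroup.center E) :=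
        isCyclic_of_prime_card (p := 3) (by rw [← Subgroup.index_eq_card, h])
      exact hcyc
  subst hk1
  rw [pow_one] at hk
  have hq : Nat.card (E ⧸ Subgroup.center E) = 3 ^ 2 := by
    rw [← Subgroup.index_eq_card]
    omega
  letI := IsPGroup.commGroupOfCardEqPrimeSq hq
  have hle : commutator E ≤ Subgroup.center E := by
    rw [commutator_def, Subgroup.commutator_le]
    intro a _ b _
    rw [← QuotientGroup.eq_one_iff (N := Subgroup.center E), ← QuotientGroup.mk'_apply, map_commutatorElement,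
      commutatorElement_eq_one_iff_mul_comm]
    exact mul_comm (G := E ⧸ Subgroup.center E) _ _
  refine Solv.isExtraspecial_of hp hk (Subgroup.eq_of_le_of_card_ge hle ?_) fun a => by rw [he a]; exact one_mem _
  rcases (Nat.dvd_prime Nat.prime_three).1 (hk ▸ Subgroup.card_dvd_of_le hle) with h | h
  · exfalso
    refine hnc fun a b => commutatorElement_eq_one_iff_mul_comm.1 ?_
    have hmem : ⁅a, b⁆ ∈ commutator E :=
      Subgroup.commutator_mem_commutator (Subgroup.mem_top a) (Subgroup.mem_top b)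
    rwa [Subgroup.card_eq_one.1 h, Subgroup.mem_bot] at hmem
  · rw [h, hk]

namespace Loc

theorem mU_fix_r : Frame.mU (![0, 0, 1, 0] : Four) = ![0, 0, 1, 0] := by decide

variable {G : Type*} [Group G] [Finite G] {T : Loc G}

namespace Frame

variable (F : Frame T)

/-- `C_G(r)`. -/
abbrev Cr : Subgroup G := Subgroup.centralizer ({F.r} : Set G)

/-- `⟨r⟩` inside `C_G(r)`. -/
abbrev Zr : Subgroup F.Cr := (Subgroup.zpowers F.r).subgroupOf F.Cr

instance Zr_normal : F.Zr.Normal where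
  conj_mem x hx g := by
    rw [Subgroup.mem_subgroupOf] at hx ⊢
    obtain ⟨i, hi⟩ := Subgroup.mem_zpowers_iff.1 hx
    refine Subgroup.mem_zpowers_iff.2 ⟨i, ?_⟩
    push_cast
    rw [← hi, ((show Commute (g : G) F.r from Subgroup.mem_centralizer_singleton_iff.1 g.2).zpow_right i).eq,
      mul_inv_cancel_right]

/-- `C_G(r)/⟨r⟩`. -/
abbrev Lr : Type _ := ↥F.Cr ⧸ F.Zr

/-- The projection. -/
def qr : F.Cr →* F.Lr := QuotientGroup.mk' F.Zr

theorem qr_surj : Function.Surjective F.qr := QuotientGroup.mk'_surjective _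

theorem mem_Cr {g : G} : g ∈ F.Cr ↔ g * F.r = F.r * g := Subgroup.mem_centralizer_singleton_iff

theorem z_Cr : T.z ∈ F.Cr := F.mem_Cr.2 F.r_z.symm

/-- The image of `z`. -/
def ar : F.Lr := F.qr ⟨T.z, F.z_Cr⟩

theorem el_Cr (v : Four) : F.el v ∈ F.Cr := F.mem_Cr.2 (by rw [← F.el_r]; exact F.el_comm _ _)

theorem r_cube : F.r ^ 3 = 1 := T.exp _ F.r_mem

theorem qr_eq_one {x : F.Cr} : F.qr x = 1 ↔ ∃ c : ZMod 3, (x : G) = F.r ^ c.val := by
  rw [qr, QuotientGroup.mk'_apply, QuotientGroup.eq_one_iff, Subgroup.mem_subgroupOf, Subgroup.mem_zpowers_iff]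
  refine ⟨fun ⟨i, hi⟩ => ⟨(i : ZMod 3), by rw [pow_val_intCast F.r_cube, hi]⟩, fun ⟨c, hc⟩ => ⟨(c.val : ℤ), ?_⟩⟩
  rw [zpow_natCast, hc]

theorem el_qr_one {v : Four} : F.qr ⟨F.el v, F.el_Cr v⟩ = 1 ↔ v 0 = 0 ∧ v 1 = 0 ∧ v 3 = 0 := by
  rw [F.qr_eq_one]
  have h : ∀ c : ZMod 3, F.r ^ c.val = F.el ![0, 0, c, 0] := fun c => by simp [el]
  refine ⟨fun ⟨c, hc⟩ => ?_, fun ⟨h0, h1, h3⟩ => ⟨v 2, ?_⟩⟩
  · rw [F.el_inj (hc.trans (h c))]
    exact ⟨rfl, rfl, rfl⟩
  · show F.el v = F.r ^ (v 2).val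
    rw [h]
    congr 1
    funext i
    fin_cases i <;> simp [h0, h1, h3]

theorem qr_el_eq {v w : Four} :
    F.qr ⟨F.el v, F.el_Cr v⟩ = F.qr ⟨F.el w, F.el_Cr w⟩ ↔ v 0 = w 0 ∧ v 1 = w 1 ∧ v 3 = w 3 := by
  have e : (⟨F.el v, F.el_Cr v⟩ : F.Cr) = ⟨F.el (v - w), F.el_Cr _⟩ * ⟨F.el w, F.el_Cr w⟩ := Subtype.ext (by
    show F.el v = F.el (v - w) * F.el w
    rw [← F.el_mul, sub_add_cancel])
  rw [e, map_mul, mul_eq_right, F.el_qr_one]
  simp [sub_eq_zero]

theorem ar_ne : F.ar ≠ 1 := by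
  intro h
  have h2 : (⟨T.z, F.z_Cr⟩ : F.Cr) = ⟨F.el ![1, 0, 0, 0], F.el_Cr _⟩ := Subtype.ext F.el_z.symm
  rw [ar, h2, F.el_qr_one] at h
  exact absurd h.1 (by decide)

theorem ar_cube : F.ar ^ 3 = 1 := by
  rw [ar, ← map_pow, show (⟨T.z, F.z_Cr⟩ : F.Cr) ^ 3 = 1 from Subtype.ext T.z_cube, map_one]

theorem order_ar : orderOf F.ar = 3 := by
  haveI : Fact (Nat.Prime 3) := ⟨Nat.prime_three⟩
  exact orderOf_eq_prime F.ar_cube F.ar_ne

/-- The image of `E`. -/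
def Jr : Subgroup F.Lr := (F.E.subgroupOf F.Cr).map F.qr

/-- The elements of `C_G(r)` in `C`. -/
abbrev Mr : Subgroup F.Cr := T.C.subgroupOf F.Cr

variable {F} (hF : F.Classified)
include hF

theorem Classified.no_shift {g : G} {s c : ZMod 3} (h : g * T.z * g⁻¹ = F.el ![s, 0, 0, 0] * F.r ^ c.val) : c = 0 := by
  have e : F.el ![s, 0, 0, 0] * F.r ^ c.val = F.el ![s, 0, c, 0] := by simp [el]
  have hz : T.IsZ (F.el ![s, 0, c, 0]) := ⟨g, Or.inl (h.trans e)⟩
  have hq := ((hF.iff_qf _).1 hz).2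
  simp [qf] at hq
  exact hq

theorem Classified.cent_ar (g : F.Cr) : F.qr g * F.ar = F.ar * F.qr g ↔ (g : G) ∈ T.C := by
  constructor
  · intro h
    have h1 : F.qr (⟨T.z, F.z_Cr⟩⁻¹ * (g * ⟨T.z, F.z_Cr⟩ * g⁻¹)) = 1 := by
      rw [map_mul, map_mul, map_mul, map_inv, map_inv, ← ar, h, mul_inv_cancel_right, inv_mul_cancel]
    obtain ⟨c, hc⟩ := F.qr_eq_one.1 h1
    push_cast at hc
    have h2 : (g : G) * T.z * (g : G)⁻¹ = F.el ![1, 0, 0, 0] * F.r ^ c.val := by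
      rw [F.el_z, ← hc, mul_inv_cancel_left]
    have h3 := hF.no_shift h2
    rw [h3, ZMod.val_zero, pow_zero, mul_one, F.el_z] at h2
    exact T.mem_C.2 (mul_inv_eq_iff_eq_mul.1 h2)
  · intro h
    rw [ar, ← map_mul, ← map_mul]
    exact congrArg F.qr (Subtype.ext (T.mem_C.1 h))

theorem Classified.cent_ar_eq : Subgroup.centralizer ({F.ar} : Set F.Lr) = F.Mr.map F.qr := by
  ext x
  obtain ⟨g, rfl⟩ := F.qr_surj x
  rw [Subgroup.mem_centralizer_singleton_iff, hF.cent_ar]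
  refine ⟨fun h => ⟨g, h, rfl⟩, ?_⟩
  rintro ⟨g', hg', e⟩
  rw [← hF.cent_ar, ← e]
  exact (hF.cent_ar g').2 hg'

theorem Classified.not_inverted (hS : T.Single) (x : F.Lr) : x * F.ar * x⁻¹ ≠ F.ar⁻¹ := by
  obtain ⟨g, rfl⟩ := F.qr_surj x
  intro h
  have h1 : F.qr (⟨T.z, F.z_Cr⟩ * (g * ⟨T.z, F.z_Cr⟩ * g⁻¹)) = 1 := by
    rw [map_mul, map_mul, map_mul, map_inv, ← ar, h, mul_inv_cancel]
  obtain ⟨c, hc⟩ := F.qr_eq_one.1 h1
  push_cast at hc
  have hm : F.el ![-1, 0, 0, 0] = T.z⁻¹ := by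
    rw [← F.el_z, ← F.el_neg]
    congr 1
    funext i; fin_cases i <;> simp
  have h2 : (g : G) * T.z * (g : G)⁻¹ = F.el ![-1, 0, 0, 0] * F.r ^ c.val := by
    rw [hm, ← hc, inv_mul_cancel_left]
  have h3 := hF.no_shift h2
  rw [h3, ZMod.val_zero, pow_zero, mul_one, hm] at h2
  obtain ⟨u, hu, -, -⟩ := hF.exists_neg
  have hz : u * T.z * u⁻¹ = T.z⁻¹ := by
    have := hu ![1, 0, 0, 0]
    rwa [F.el_z, F.el_neg, F.el_z] at this
  have hr : u * F.r * u⁻¹ = F.r⁻¹ := by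
    have := hu ![0, 0, 1, 0]
    rwa [F.el_r, F.el_neg, F.el_r] at this
  have hC : u * g ∈ T.C := T.mem_C.2 (mul_inv_eq_iff_eq_mul.1 (by
    rw [show u * g * T.z * (u * (g : G))⁻¹ = u * ((g : G) * T.z * (g : G)⁻¹) * u⁻¹ by group, h2, ← conj_inv, hz,
      inv_inv]))
  obtain ⟨-, -, hline, -⟩ := pair_comp F.ht F.hg F.comps.hn F.comps.hr F.comps.he F.comps.hn1 F.comps.cent
  have ha := T.act_bar (hS ⟨u * g, hC⟩) ⟨F.r, F.r_mem⟩
  rw [hline.2] at ha
  have hzc : F.r⁻¹ * (u * g * F.r * (u * (g : G))⁻¹) ∈ T.toPre.Z := T.bar_eq.1 ha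
  rw [show u * g * F.r * (u * (g : G))⁻¹ = u * ((g : G) * F.r * (g : G)⁻¹) * u⁻¹ by group, F.mem_Cr.1 g.2,
    mul_inv_cancel_right, hr] at hzc
  refine F.r_notZ ?_
  rwa [← mul_inv_rev, ← pow_two, show (F.r ^ 2)⁻¹ = F.r from inv_eq_of_mul_eq_one_left (by
    rw [← pow_succ', F.r_cube])] at hzc

theorem Classified.card_Q_cent : Nat.card (T.Q.subgroupOf F.Cr) = 81 := by
  let χ : T.Q →* T.toPre.Z := MonoidHom.mk' (fun a => ⟨com (a : G) F.r, T.com_mem' a.2 F.r_mem⟩)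
    fun a b => Subtype.ext (T.com_mul_left a.2 b.2 F.r_mem)
  obtain ⟨σ, hσ, -, hσr⟩ := exists_plus_com F.ht F.r_mem F.r_notZ F.comps.cent
  have hsurj : Function.Surjective χ := by
    rw [← MonoidHom.range_eq_top]
    refine Subgroup.eq_top_of_card_eq _ ?_
    refine le_antisymm (Subgroup.card_le_card_group _) ?_
    rw [T.toPre.card_Z]
    haveI : Fact (Nat.Prime 3) := ⟨Nat.prime_three⟩
    have h1 : (⟨T.z, T.toPre.z_mem⟩ : T.toPre.Z) ∈ χ.range := ⟨⟨σ, hσ⟩, Subtype.ext hσr⟩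
    have h2 := Subgroup.card_le_of_le (Subgroup.zpowers_le.2 h1)
    rwa [Nat.card_zpowers, orderOf_eq_prime (Subtype.ext T.z_cube) fun e => T.z_ne (congrArg Subtype.val e)] at h2
  have h := χ.ker.card_eq_card_quotient_mul_card_subgroup
  rw [Nat.card_congr (QuotientGroup.quotientKerEquivOfSurjective χ hsurj).toEquiv, T.card_Q, T.toPre.card_Z] at h
  have e : Nat.card (T.Q.subgroupOf F.Cr) = Nat.card χ.ker := Nat.card_congr
    { toFun := fun x => ⟨⟨x.1, x.2⟩, Subtype.ext (Pre.com_eq_one_iff.2 (F.mem_Cr.1 x.1.2))⟩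
      invFun := fun x => ⟨⟨x.1, F.mem_Cr.2 (Pre.com_eq_one_iff.1 (congrArg Subtype.val x.2))⟩, x.1.2⟩
      left_inv := fun _ => rfl
      right_inv := fun _ => rfl }
  omega

/-- `C_L(a)` maps onto `SL(2,3)`, with kernel the image of `Q`. -/
theorem Classified.exists_proj :
    ∃ θ : Subgroup.centralizer ({F.ar} : Set F.Lr) →* SL2, Function.Surjective θ ∧
      θ.ker.map (Subgroup.centralizer ({F.ar} : Set F.Lr)).subtype = (T.Q.subgroupOf F.Cr).map F.qr := by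
  let π : F.Mr →* Subgroup.centralizer ({F.ar} : Set F.Lr) :=
    (F.qr.comp F.Mr.subtype).codRestrict _ fun g => Subgroup.mem_centralizer_singleton_iff.2 ((hF.cent_ar g.1).2 g.2)
  have hπ : Function.Surjective π := by
    rintro ⟨x, hx⟩
    rw [hF.cent_ar_eq] at hx
    obtain ⟨g, hg, rfl⟩ := hx
    exact ⟨⟨g, hg⟩, Subtype.ext rfl⟩
  let ρ' : F.Mr →* SL2 := T.ρ.comp (MonoidHom.mk' (fun g => (⟨(g.1 : G), g.2⟩ : T.C)) fun _ _ => rfl)
  have hρ' : ∀ g : F.Mr, ρ' g = 1 ↔ ((g.1 : F.Cr) : G) ∈ T.Q := fun g =>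
    ⟨fun h => (T.ρker _).1 ⟨h, hF.η_of_fix_r _ (F.mem_Cr.1 g.1.2)⟩, fun h => ((T.ρker _).2 h).1⟩
  have hker : π.ker ≤ ρ'.ker := by
    intro g hg
    obtain ⟨c, hc⟩ := F.qr_eq_one.1 (congrArg Subtype.val hg)
    exact (hρ' g).2 (hc ▸ pow_mem F.r_mem _)
  refine ⟨π.liftOfSurjective hπ ⟨ρ', hker⟩, fun γ => ?_, ?_⟩
  · obtain ⟨c, hc, hcr⟩ := hF.lift_r γ
    refine ⟨π ⟨⟨(c : G), F.mem_Cr.2 hcr⟩, c.2⟩, ?_⟩
    rw [MonoidHom.liftOfRightInverse_comp_apply]
    exact hc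
  · ext x
    constructor
    · rintro ⟨y, hy, rfl⟩
      obtain ⟨g, rfl⟩ := hπ y
      rw [SetLike.mem_coe, MonoidHom.mem_ker, MonoidHom.liftOfRightInverse_comp_apply] at hy
      exact ⟨g.1, (hρ' g).1 hy, rfl⟩
    · rintro ⟨g, hg, rfl⟩
      refine ⟨π ⟨g, T.Q_le_C hg⟩, ?_, rfl⟩
      rw [SetLike.mem_coe, MonoidHom.mem_ker, MonoidHom.liftOfRightInverse_comp_apply]
      exact (hρ' _).2 hg

theorem Classified.core_facts :
    Cfsg.IsExtraspecial 3 (Cfsg.pCore 3 (Subgroup.centralizer ({F.ar} : Set F.Lr))) ∧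
    Nat.card (Cfsg.pCore 3 (Subgroup.centralizer ({F.ar} : Set F.Lr))) = 27 ∧
    (∀ r ∈ Cfsg.pCore 3 (Subgroup.centralizer ({F.ar} : Set F.Lr)), r ^ 3 = 1) ∧
    Nonempty ((Subgroup.centralizer ({F.ar} : Set F.Lr)) ⧸ Cfsg.pCore 3 (Subgroup.centralizer ({F.ar} : Set F.Lr)) ≃* SL2) := by
  classical
  haveI : Fact (Nat.Prime 3) := ⟨Nat.prime_three⟩
  set A := Subgroup.centralizer ({F.ar} : Set F.Lr) with hA
  obtain ⟨θ, hθ, hmap⟩ := hF.exists_proj
  have hexp : ∀ x ∈ θ.ker, x ^ 3 = 1 := by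
    intro x hx
    obtain ⟨g, hg, e⟩ : (x : F.Lr) ∈ (T.Q.subgroupOf F.Cr).map F.qr := hmap ▸ Subgroup.mem_map_of_mem _ hx
    refine Subtype.ext ?_
    rw [SubgroupClass.coe_pow, ← e, ← map_pow, show g ^ 3 = 1 from Subtype.ext (T.exp _ hg), map_one]
    rfl
  have hcard : Nat.card θ.ker = 27 := by
    have h0 : Nat.card (θ.ker.map A.subtype) = Nat.card θ.ker := Subgroup.card_map_of_injective A.subtype_injective
    rw [← h0, hmap]
    have h := (F.qr.comp (T.Q.subgroupOf F.Cr).subtype).ker.card_eq_card_quotient_mul_card_subgroup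
    rw [Nat.card_congr (QuotientGroup.quotientKerEquivRange _).toEquiv, MonoidHom.range_comp,
      Subgroup.range_subtype, hF.card_Q_cent] at h
    have hk : Nat.card (F.qr.comp (T.Q.subgroupOf F.Cr).subtype).ker = 3 := by
      have : Nat.card (Subgroup.zpowers F.r) = 3 := by
        rw [Nat.card_zpowers, orderOf_eq_prime F.r_cube fun e => F.r_notZ (by rw [e]; exact one_mem _)]
      rw [← this]
      refine Nat.card_congr
        { toFun := fun x => ⟨(x.1.1 : G), Subgroup.mem_subgroupOf.1 ((QuotientGroup.eq_one_iff _).1 x.2)⟩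
          invFun := fun x => ⟨⟨⟨x.1, ?_⟩, ?_⟩, ?_⟩
          left_inv := fun _ => rfl
          right_inv := fun _ => rfl }
      · exact (Subgroup.zpowers_le.2 (F.mem_Cr.2 rfl : F.r ∈ F.Cr)) x.2
      · exact (Subgroup.zpowers_le.2 F.r_mem) x.2
      · exact (QuotientGroup.eq_one_iff _).2 (Subgroup.mem_subgroupOf.2 x.2)
    rw [hk] at h
    omega
  have hp : IsPGroup 3 θ.ker := IsPGroup.of_card (n := 3) (by rw [hcard]; norm_num)
  have hcore : Cfsg.pCore 3 A = θ.ker := by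
    refine le_antisymm ?_ (Fusion.le_pCore hp)
    intro x hx
    haveI : ((Cfsg.pCore 3 A).map θ).Normal := Subgroup.Normal.map inferInstance θ hθ
    obtain ⟨m, hm⟩ := IsPGroup.iff_card.1 ((Fusion.isPGroup_pCore 3 A).map θ)
    have hd : Nat.card ((Cfsg.pCore 3 A).map θ) ∣ 81 := by
      have hdd := Subgroup.card_subgroup_dvd_card ((Cfsg.pCore 3 A).map θ)
      rw [Nat.card_eq_fintype_card (α := SL2), show Fintype.card SL2 = 24 by decide +kernel, hm] at hdd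
      rw [hm]
      have : m ≤ 1 := by
        by_contra h
        exact absurd ((pow_dvd_pow 3 (not_le.1 h)).trans hdd) (by norm_num)
      exact (pow_dvd_pow 3 (show m ≤ 4 by omega)).trans (by norm_num)
    have hb := Lie.PSpFourThreeFull.normal_three_bot Lie.PSpFourThreeFull.sl_three_order
      Lie.PSpFourThreeFull.sl_no_normal_three ((Cfsg.pCore 3 A).map θ) hd
    exact MonoidHom.mem_ker.2 (Subgroup.mem_bot.1 (hb ▸ Subgroup.mem_map_of_mem θ hx))
  refine ⟨hcore ▸ ?_, by rw [hcore]; exact hcard, by rw [hcore]; exact hexp,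
    ⟨(QuotientGroup.quotientMulEquivOfEq hcore).trans (QuotientGroup.quotientKerEquivOfSurjective θ hθ)⟩⟩
  refine extraspecial_twentyseven hcard (fun hcomm => ?_) fun a => Subtype.ext (hexp a a.2)
  obtain ⟨q, hq, hU⟩ := hF.exists_U
  have hn := hU ![0, 1, 0, 0]
  rw [translate_moves.1, F.el_mul, F.el_z, F.el_n] at hn
  have hr := hU ![0, 0, 1, 0]
  rw [show mU (![0, 0, 1, 0] : Four) = ![0, 0, 1, 0] from (mU_fix_r), F.el_r] at hr
  have hqr : q ∈ F.Cr := F.mem_Cr.2 (mul_inv_eq_iff_eq_mul.1 hr)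
  have hnr : F.n ∈ F.Cr := F.mem_Cr.2 F.n_r
  obtain ⟨a, ha, ea⟩ : F.qr ⟨q, hqr⟩ ∈ θ.ker.map A.subtype := hmap ▸ Subgroup.mem_map_of_mem _ hq
  obtain ⟨b, hb, eb⟩ : F.qr ⟨F.n, hnr⟩ ∈ θ.ker.map A.subtype := hmap ▸ Subgroup.mem_map_of_mem _ F.n_mem
  have h := congrArg (fun x : θ.ker => ((x.1 : A) : F.Lr)) (hcomm ⟨a, ha⟩ ⟨b, hb⟩).eq
  simp only [Subgroup.coe_mul] at h
  rw [show ((a : A) : F.Lr) = A.subtype a from rfl, show ((b : A) : F.Lr) = A.subtype b from rfl, ea, eb,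
    ← map_mul, ← map_mul] at h
  refine F.ar_ne ?_
  rw [ar, show (⟨T.z, F.z_Cr⟩ : F.Cr) = (⟨q, hqr⟩ * ⟨F.n, hnr⟩) * (⟨F.n, hnr⟩ * ⟨q, hqr⟩)⁻¹ from Subtype.ext (by
    push_cast
    rw [show q * F.n * (F.n * q)⁻¹ = q * F.n * q⁻¹ * F.n⁻¹ by group, hn, mul_inv_cancel_right]),
    map_mul, map_inv, h, mul_inv_cancel]

theorem Classified.J_facts : F.Jr ≤ Subgroup.centralizer ({F.ar} : Set F.Lr) ∧ IsMulCommutative F.Jr ∧
    (∀ j ∈ F.Jr, j ^ 3 = 1) ∧ Nat.card F.Jr = 27 := by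
  have hmem : ∀ j ∈ F.Jr, ∃ v, j = F.qr ⟨F.el v, F.el_Cr v⟩ := by
    rintro _ ⟨x, hx, rfl⟩
    obtain ⟨v, hv⟩ := F.mem_E_iff.1 hx
    exact ⟨v, congrArg F.qr (Subtype.ext hv.symm)⟩
  refine ⟨fun j hj => ?_, ⟨⟨fun a b => Subtype.ext ?_⟩⟩, fun j hj => ?_, ?_⟩
  · obtain ⟨v, rfl⟩ := hmem j hj
    exact Subgroup.mem_centralizer_singleton_iff.2 ((hF.cent_ar _).2 (F.el_C v))
  · obtain ⟨v, hv⟩ := hmem a a.2
    obtain ⟨w, hw⟩ := hmem b b.2
    push_cast
    rw [hv, hw, ← map_mul, ← map_mul]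
    exact congrArg F.qr (Subtype.ext (F.el_comm v w))
  · obtain ⟨v, rfl⟩ := hmem j hj
    rw [← map_pow, show (⟨F.el v, F.el_Cr v⟩ : F.Cr) ^ 3 = 1 from Subtype.ext (F.el_cube v), map_one]
  · let ι : (Fin 3 → ZMod 3) → F.Jr := fun u =>
      ⟨F.qr ⟨F.el ![u 0, u 1, 0, u 2], F.el_Cr _⟩, Subgroup.mem_map_of_mem _ (F.el_mem _)⟩
    have hι : Function.Bijective ι := by
      refine ⟨fun u u' e => ?_, fun ⟨j, hj⟩ => ?_⟩
      · have h := congrArg Subtype.val e
        simp only [ι] at h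
        obtain ⟨a, b, c⟩ := F.qr_el_eq.1 h
        funext i
        fin_cases i
        · simpa using a
        · simpa using b
        · simpa using c
      · obtain ⟨v, rfl⟩ := hmem j hj
        refine ⟨![v 0, v 1, v 3], Subtype.ext ?_⟩
        show F.qr ⟨F.el ![v 0, v 1, 0, v 3], F.el_Cr _⟩ = _
        exact F.qr_el_eq.2 (by simp)
    rw [← Nat.card_congr (Equiv.ofBijective ι hι)]
    simp

omit hF in
/-- The part of order prime to three of a subgroup containing `r` centrally. -/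
theorem coprime_part (W₀ : Subgroup F.Cr) (h : (Nat.card (W₀.map F.qr)).Coprime 3) :
    ∃ W : Subgroup G, (∀ w, w ∈ W ↔ ∃ hw : w ∈ F.Cr, (⟨w, hw⟩ : F.Cr) ∈ W₀ ∧ (orderOf w).Coprime 3) ∧
      (Nat.card W).Coprime 3 ∧ ∀ w : F.Cr, w ∈ W₀ → ∃ w' : F.Cr, (w' : G) ∈ W ∧ F.qr w' = F.qr w := by
  classical
  let f : W₀ →* F.Lr := F.qr.comp W₀.subtype
  have hi : f.ker.index = Nat.card (W₀.map F.qr) := by
    rw [Subgroup.index_ker, MonoidHom.range_comp, Subgroup.range_subtype]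
  have h3 : ∀ x ∈ f.ker, x ^ 3 = 1 ∧ ∀ y : W₀, x * y = y * x := by
    intro x hx
    obtain ⟨c, hc⟩ := F.qr_eq_one.1 (show F.qr (x : F.Cr) = 1 from hx)
    refine ⟨Subtype.ext (Subtype.ext ?_), fun y => Subtype.ext (Subtype.ext ?_)⟩
    · push_cast
      rw [hc, ← pow_mul, mul_comm, pow_mul, F.r_cube, one_pow]
    · push_cast
      rw [hc]
      exact ((show Commute ((y : F.Cr) : G) F.r from F.mem_Cr.1 y.1.2).pow_right _).symm.eq
  haveI : Fact (Nat.Prime 3) := ⟨Nat.prime_three⟩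
  obtain ⟨m, hm⟩ := IsPGroup.iff_card.1 (fun x => ⟨1, Subtype.ext (by simpa using (h3 x x.2).1)⟩ : IsPGroup 3 f.ker)
  obtain ⟨H, hH⟩ := Subgroup.exists_right_complement'_of_coprime (N := f.ker)
    (by rw [hm, hi]; exact h.symm.pow_left m)
  have hHcard : Nat.card H = f.ker.index := hH.symm.index_eq_card.symm
  refine ⟨(H.map W₀.subtype).map F.Cr.subtype, fun w => ⟨?_, ?_⟩, ?_, fun w hw => ?_⟩
  · rintro ⟨_, ⟨y, hy, rfl⟩, rfl⟩
    refine ⟨(y : F.Cr).2, y.2, ?_⟩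
    show (orderOf ((y : F.Cr) : G)).Coprime 3
    rw [orderOf_submonoid, orderOf_submonoid]
    exact (h.coprime_dvd_left (hi ▸ hHcard ▸ Subgroup.orderOf_dvd_natCard H hy))
  · rintro ⟨hw, hw0, hwo⟩
    obtain ⟨⟨⟨n, hn⟩, ⟨y, hy⟩⟩, e⟩ := hH.2 ⟨⟨w, hw⟩, hw0⟩
    simp only at e
    have hc : Commute n y := (h3 n hn).2 y
    have hn1 : n = 1 := by
      have h1 := hc.mul_pow (Nat.card H)
      rw [show y ^ Nat.card H = 1 from orderOf_dvd_iff_pow_eq_one.1 (Subgroup.orderOf_dvd_natCard H hy), mul_one] at h1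
      have h2 : orderOf (n ^ Nat.card H) ∣ 3 := orderOf_dvd_of_pow_eq_one (by
        rw [← pow_mul, mul_comm, pow_mul, (h3 n hn).1, one_pow])
      have h4 : orderOf (n ^ Nat.card H) ∣ orderOf w := by
        rw [← h1, e]
        refine (orderOf_pow_dvd _).trans ?_
        rw [← orderOf_submonoid, ← orderOf_submonoid]
      have h5 := Nat.dvd_gcd h4 h2
      rw [hwo.gcd_eq_one, Nat.dvd_one, orderOf_eq_one_iff] at h5
      have h6 := Nat.dvd_gcd (orderOf_dvd_of_pow_eq_one h5) (orderOf_dvd_of_pow_eq_one (h3 n hn).1)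
      rw [hHcard, hi, h.gcd_eq_one, Nat.dvd_one, orderOf_eq_one_iff] at h6
      exact h6
    rw [hn1, one_mul] at e
    exact ⟨_, ⟨y, hy, rfl⟩, congrArg (fun x : W₀ => ((x : F.Cr) : G)) e⟩
  · rw [Subgroup.card_map_of_injective F.Cr.subtype_injective, Subgroup.card_map_of_injective W₀.subtype_injective,
      hHcard, hi]
    exact h
  · obtain ⟨⟨⟨n, hn⟩, ⟨y, hy⟩⟩, e⟩ := hH.2 ⟨w, hw⟩
    simp only at e
    refine ⟨y, ⟨_, ⟨y, hy, rfl⟩, rfl⟩, ?_⟩
    rw [show w = ((n * y : W₀) : F.Cr) from (congrArg Subtype.val e).symm]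
    push_cast
    rw [map_mul, show F.qr (n : F.Cr) = 1 from hn, one_mul]

theorem Classified.J_signalizer (K : Subgroup F.Lr) (hK : (Nat.card K).Coprime 3)
    (hKJ : ∀ j ∈ F.Jr, K.map (MulAut.conj j).toMonoidHom = K) : K = ⊥ := by
  classical
  have hnorm : F.Jr ≤ Subgroup.normalizer (K : Set F.Lr) := fun j hj => by
    rw [Subgroup.mem_normalizer_iff]
    intro x
    refine ⟨fun hx => (hKJ j hj) ▸ ⟨x, hx, rfl⟩, fun hx => ?_⟩
    rw [← hKJ j hj] at hx
    obtain ⟨y, hy, e⟩ := hx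
    simp at e
    rwa [e] at hy
  -- the plane generated by the images of `z` and `n`
  let ι : (Fin 2 → ZMod 3) → Four := fun u => ![u 0, u 1, 0, 0]
  let P : Subgroup F.Lr :=
    { carrier := {j | ∃ u, j = F.qr ⟨F.el (ι u), F.el_Cr _⟩}
      one_mem' := ⟨0, by
        rw [← map_one F.qr]
        exact congrArg F.qr (Subtype.ext (by
          show 1 = F.el (ι 0)
          rw [show ι 0 = 0 by funext i; fin_cases i <;> rfl, F.el_zero]))⟩
      mul_mem' := by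
        rintro _ _ ⟨u, rfl⟩ ⟨u', rfl⟩
        exact ⟨u + u', by
          rw [← map_mul]
          exact congrArg F.qr (Subtype.ext (by
            push_cast; rw [← F.el_mul]; congr 1; funext i; fin_cases i <;> simp [ι]))⟩
      inv_mem' := by
        rintro _ ⟨u, rfl⟩
        exact ⟨-u, by
          rw [← map_inv]
          exact congrArg F.qr (Subtype.ext (by
            push_cast; rw [← F.el_neg]; congr 1; funext i; fin_cases i <;> simp [ι]))⟩ }
  have hPJ : P ≤ F.Jr := by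
    rintro _ ⟨u, rfl⟩
    exact Subgroup.mem_map_of_mem _ (F.el_mem _)
  have hP9 : Nat.card P = 9 := by
    let κ : (Fin 2 → ZMod 3) → P := fun u => ⟨_, u, rfl⟩
    have hκ : Function.Bijective κ := by
      refine ⟨fun u u' e => ?_, fun ⟨j, u, hu⟩ => ⟨u, Subtype.ext hu.symm⟩⟩
      have h := congrArg Subtype.val e
      simp only [κ] at h
      obtain ⟨a, b, -⟩ := F.qr_el_eq.1 h
      funext i
      fin_cases i
      · simpa [ι] using a
      · simpa [ι] using b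
    rw [← Nat.card_congr (Equiv.ofBijective κ hκ)]
    simp
  haveI : IsMulCommutative P := ⟨⟨fun a b => Subtype.ext (congrArg Subtype.val
    (hF.J_facts.2.1.is_comm.comm ⟨a, hPJ a.2⟩ ⟨b, hPJ b.2⟩) :)⟩⟩
  have hPc : ¬ IsCyclic P := fun h => by
    obtain ⟨g, hg⟩ := h.exists_generator
    have h1 := orderOf_eq_card_of_forall_mem_zpowers hg
    have h2 : orderOf g ∣ 3 := orderOf_dvd_iff_pow_eq_one.2 (Subtype.ext (hF.J_facts.2.2.1 _ (hPJ g.2)))
    rw [h1, hP9] at h2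
    norm_num at h2
  rw [← Cfsg.Agent.S0058.result P K hPc (hPJ.trans hnorm)
    (by rw [hP9, show (9 : ℕ) = 3 ^ 2 from rfl]; exact hK.symm.pow_left 2), ← le_bot_iff]
  refine iSup₂_le fun j hj => ?_
  obtain ⟨⟨u, rfl⟩, hj1⟩ := hj
  -- a singular point over `j`
  set x : Four := ![u 0, u 1, u 1, 0] with hxdef
  have hxj : F.qr ⟨F.el x, F.el_Cr _⟩ = F.qr ⟨F.el (ι u), F.el_Cr _⟩ := by
    exact F.qr_el_eq.2 (by simp [hxdef, ι])
  have hx0 : x ≠ 0 := by
    intro e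
    refine hj1 ?_
    rw [← hxj, show (⟨F.el x, F.el_Cr _⟩ : F.Cr) = 1 from Subtype.ext (by
      show F.el x = 1
      rw [e, F.el_zero]), map_one]
  have hxq : qf x = 0 := by simp [hxdef, qf]
  -- the preimage
  set W₀ : Subgroup F.Cr := (K ⊓ Subgroup.centralizer {F.qr ⟨F.el (ι u), F.el_Cr _⟩}).comap F.qr with hW₀
  -- its part of order prime to three
  obtain ⟨W, hWmem, hW3, hone⟩ := coprime_part (F := F) W₀ (hK.coprime_dvd_left (by
    refine Subgroup.card_dvd_of_le ?_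
    exact (Subgroup.map_comap_le _ _).trans inf_le_left))
  -- it is trivial
  have hfix : ∀ w ∈ W, w * F.el x = F.el x * w := by
    intro w hw
    have hset : {w | ∃ hw : w ∈ F.Cr, (⟨w, hw⟩ : F.Cr) ∈ W₀ ∧ (orderOf w).Coprime 3} ⊆
        (Subgroup.centralizer ({F.el x} : Set G) : Set G) := by
      rintro w ⟨hwC, hw0, hwo⟩
      refine Subgroup.mem_centralizer_singleton_iff.2 ?_
      have h1 := Subgroup.mem_centralizer_singleton_iff.1 hw0.2
      rw [← hxj] at h1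
      have h2 : F.qr (⟨F.el x, F.el_Cr _⟩⁻¹ * (⟨w, hwC⟩ * ⟨F.el x, F.el_Cr _⟩ * ⟨w, hwC⟩⁻¹)) = 1 := by
        rw [map_mul, map_mul, map_mul, map_inv, map_inv, h1, mul_inv_cancel_right, inv_mul_cancel]
      obtain ⟨c, hc⟩ := F.qr_eq_one.1 h2
      push_cast at hc
      have h3 : w * F.el x * w⁻¹ = F.el x * F.r ^ c.val := by rw [← hc, mul_inv_cancel_left]
      have hr : Commute w (F.r ^ c.val) := (show Commute w F.r from F.mem_Cr.1 hwC).pow_right _
      have hrx : Commute (F.el x) (F.r ^ c.val) :=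
        (show Commute (F.el x) F.r from F.mem_Cr.1 (F.el_Cr x)).pow_right _
      have hiter : ∀ m : ℕ, w ^ m * F.el x * (w ^ m)⁻¹ = F.el x * (F.r ^ c.val) ^ m := by
        intro m
        induction m with
        | zero => simp
        | succ m ih =>
          rw [pow_succ', show w * w ^ m * F.el x * (w * w ^ m)⁻¹ = w * (w ^ m * F.el x * (w ^ m)⁻¹) * w⁻¹ by group,
            ih, show w * (F.el x * (F.r ^ c.val) ^ m) * w⁻¹ = (w * F.el x * w⁻¹) * (w * (F.r ^ c.val) ^ m * w⁻¹) by group,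
            h3, (hr.pow_right m).eq, mul_inv_cancel_right, mul_assoc, ← pow_succ']
      have h4 := hiter (orderOf w)
      rw [pow_orderOf_eq_one, one_mul, inv_one, mul_one, left_eq_mul, ← pow_mul] at h4
      have h5 : 3 ∣ c.val * orderOf w := by
        haveI : Fact (Nat.Prime 3) := ⟨Nat.prime_three⟩
        have hd := orderOf_dvd_of_pow_eq_one h4
        rwa [orderOf_eq_prime F.r_cube fun e => F.r_notZ (by rw [e]; exact one_mem _)] at hd
      rcases (Nat.Prime.dvd_mul Nat.prime_three).1 h5 with h | h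
      · rw [Nat.eq_zero_of_dvd_of_lt h (ZMod.val_lt c), pow_zero, mul_one] at h3
        exact mul_inv_eq_iff_eq_mul.1 h3
      · have := Nat.dvd_gcd h (dvd_refl 3)
        rw [hwo.gcd_eq_one] at this
        norm_num at this
    exact Subgroup.mem_centralizer_singleton_iff.1 (hset ((hWmem w).1 hw))
  have hEn : F.E ≤ Subgroup.normalizer (W : Set G) := by
    intro a ha
    obtain ⟨v, rfl⟩ := F.mem_E_iff.1 ha
    have key : ∀ v, W.map (MulAut.conj (F.el v)).toMonoidHom ≤ W := by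
      intro v
      rintro _ ⟨w, hw, rfl⟩
      obtain ⟨hwC, hw0, hwo⟩ := (hWmem w).1 hw
      refine (hWmem _).2 ⟨mul_mem (mul_mem (F.el_Cr v) hwC) (inv_mem (F.el_Cr v)), ?_, ?_⟩
      · have e : F.qr ⟨F.el v * w * (F.el v)⁻¹, mul_mem (mul_mem (F.el_Cr v) hwC) (inv_mem (F.el_Cr v))⟩ =
            F.qr ⟨F.el v, F.el_Cr v⟩ * F.qr ⟨w, hwC⟩ * (F.qr ⟨F.el v, F.el_Cr v⟩)⁻¹ := by
          rw [← map_inv, ← map_mul, ← map_mul]; rfl
        have hj : F.qr ⟨F.el v, F.el_Cr v⟩ ∈ F.Jr := Subgroup.mem_map_of_mem _ (F.el_mem v)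
        refine Subgroup.mem_comap.2 ⟨?_, Subgroup.mem_centralizer_singleton_iff.2 ?_⟩
        · show F.qr ⟨F.el v * w * (F.el v)⁻¹, mul_mem (mul_mem (F.el_Cr v) hwC) (inv_mem (F.el_Cr v))⟩ ∈ K
          exact e ▸ (hKJ _ hj ▸ ⟨_, hw0.1, rfl⟩ : _ ∈ K)
        · show F.qr ⟨F.el v * w * (F.el v)⁻¹, mul_mem (mul_mem (F.el_Cr v) hwC) (inv_mem (F.el_Cr v))⟩ * _ = _ * F.qr ⟨F.el v * w * (F.el v)⁻¹, mul_mem (mul_mem (F.el_Cr v) hwC) (inv_mem (F.el_Cr v))⟩
          rw [e]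
          have c1 : Commute (F.qr ⟨w, hwC⟩) (F.qr ⟨F.el (ι u), F.el_Cr _⟩) :=
            Subgroup.mem_centralizer_singleton_iff.1 hw0.2
          have c2 : Commute (F.qr ⟨F.el v, F.el_Cr v⟩) (F.qr ⟨F.el (ι u), F.el_Cr _⟩) := by
            show _ * _ = _ * _
            rw [← map_mul, ← map_mul]
            exact congrArg F.qr (Subtype.ext (F.el_comm _ _))
          exact ((c2.mul_left c1).mul_left c2.inv_left).eq
      · rwa [orderOf_injective (MulAut.conj (F.el v)).toMonoidHom (MulAut.conj (F.el v)).injective w]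
    rw [Subgroup.mem_normalizer_iff]
    intro w
    refine ⟨fun hw => key v ⟨w, hw, rfl⟩, fun hw => ?_⟩
    have h := key (-v) ⟨_, hw, rfl⟩
    rw [F.el_neg] at h
    simpa [mul_assoc] using h
  have hWbot := hF.no_signalizer_point hx0 hxq (fun w hw => Subgroup.mem_centralizer_singleton_iff.2 (hfix w hw))
    hW3 hEn
  intro y hy
  obtain ⟨w, rfl⟩ := F.qr_surj y
  obtain ⟨w', hw', e⟩ := hone w hy
  rw [hWbot, Subgroup.mem_bot] at hw'
  rw [Subgroup.mem_bot, ← e, show w' = 1 from Subtype.ext hw', map_one]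

end Frame

end Loc

end Cfsg.Agent.Spor.OmegaEightThree
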