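import Cfsg.Agent.Lib.Spor.OmegaEightThree.Level
import Cfsg.Agent.Lib.Lie.PSpFourThreeFull.PartOne
import Cfsg.Agent.S0058

/-!
The centraliser of the nonsingular point `r` when `C/Q ≅ SL(2,3)`: its intersection with `C`, and the
subgroups of order prime to three normalised by `E`.
-/

set_option autoImplicit false
set_option linter.unusedSectionVars false
set_option maxHeartbeats 1000000
set_option maxRecDepth 100000

namespace Cfsg.Agent.Spor.OmegaEightThree

open Cfsg.Agent.Spor.PSLFourThree (com)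

local notation "SL2" => Matrix.SpecialLinearGroup (Fin 2) (ZMod 3)
local notation "C3" => Multiplicative (ZMod 3)

theorem sl2_two_elem : ∀ γ : SL2, γ ^ 8 = 1 → γ ≠ 1 → γ = -1 ∨ γ ^ 2 = -1 := by decide +kernel

theorem sl2_card_eight : ∀ γ : SL2, γ ^ 24 = 1 := by decide +kernel

namespace Loc

variable {G : Type*} [Group G] [Finite G] {T : Loc G}

/-- An element of order prime to three of `C` centralising an abelian subgroup of `Q` of order at least `27`
is trivial. -/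
theorem no_cent_abelian {w : G} (hwC : w ∈ T.C) (hw : (orderOf w).Coprime 3) {D : Subgroup G}
    (hD : D ≤ T.Q) (hDc : ∀ a ∈ D, ∀ b ∈ D, a * b = b * a) (hcard : 27 ≤ Nat.card D)
    (hwD : ∀ a ∈ D, w * a = a * w) : w = 1 := by
  classical
  -- `D` is its own centraliser in `Q`
  have hself : ∀ c ∈ T.Q, (∀ b ∈ D, c * b = b * c) → c ∈ D := by
    intro c hc hcD
    have hle : D ⊔ Subgroup.zpowers c ≤ T.Q := sup_le hD (Subgroup.zpowers_le.2 hc)
    haveI : IsMulCommutative (Subgroup.closure ((D : Set G) ∪ {c})) := Subgroup.isMulCommutative_closure (by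
      rintro a (ha | ha) b (hb | hb)
      · exact hDc a ha b hb
      · rw [Set.mem_singleton_iff.1 hb]; exact (hcD a ha).symm
      · rw [Set.mem_singleton_iff.1 ha]; exact hcD b hb
      · rw [Set.mem_singleton_iff.1 ha, Set.mem_singleton_iff.1 hb])
    have hcl : D ⊔ Subgroup.zpowers c = Subgroup.closure ((D : Set G) ∪ {c}) := by
      rw [Subgroup.closure_union, Subgroup.closure_eq, Subgroup.zpowers_eq_closure]
    have h27 := T.comm_card_le (D ⊔ Subgroup.zpowers c) hle fun a ha b hb => by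
      rw [hcl] at ha hb
      exact congrArg Subtype.val (mul_comm' (⟨a, ha⟩ : Subgroup.closure ((D : Set G) ∪ {c})) ⟨b, hb⟩)
    have heq := Subgroup.eq_of_le_of_card_ge (le_sup_left : D ≤ D ⊔ Subgroup.zpowers c) (h27.trans hcard)
    rw [heq]
    exact Subgroup.mem_sup_right (Subgroup.mem_zpowers c)
  have hQ1 : ∀ x : G, x ∈ T.Q → (orderOf x).Coprime 3 → x = 1 := fun x hx h => by
    have h3 : orderOf x ∣ 3 := orderOf_dvd_of_pow_eq_one (T.exp x hx)
    have := Nat.dvd_gcd dvd_rfl h3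
    rw [h.gcd_eq_one] at this
    exact orderOf_eq_one_iff.1 (Nat.dvd_one.1 this)
  refine hQ1 w (T.self (Subgroup.mem_centralizer_iff.2 fun a ha => ?_)) hw
  set c := a⁻¹ * (w * a * w⁻¹) with hc
  have hcQ : c ∈ T.Q := mul_mem (inv_mem ha) (T.toPre.conj_Q hwC ha)
  have hcc : ∀ b ∈ D, c * b = b * c := by
    intro b hb
    refine Pre.com_eq_one_iff.1 ?_
    have h1 : com (w * a * w⁻¹) b = com a b := by
      conv_lhs => rw [show b = w * b * w⁻¹ by rw [hwD b hb, mul_inv_cancel_right]]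
      rw [← Pre.com_conj]
      exact T.toPre.conj_Z hwC (T.com_mem' ha (hD hb))
    have h2 := T.com_mul_left (inv_mem ha) (T.toPre.conj_Q hwC ha) (hD hb)
    have h3 := T.com_mul_left (inv_mem ha) ha (hD hb)
    rw [inv_mul_cancel, show com 1 b = 1 by simp [com]] at h3
    rw [hc, h2, h1, ← h3]
  have hcD := hself c hcQ hcc
  have hfix : w * c * w⁻¹ = c := by rw [hwD c hcD, mul_inv_cancel_right]
  have hpow : ∀ k : ℕ, w ^ k * a * (w ^ k)⁻¹ = a * c ^ k := by
    intro k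
    induction k with
    | zero => simp
    | succ k ih =>
      rw [pow_succ', show w * w ^ k * a * (w * w ^ k)⁻¹ = w * (w ^ k * a * (w ^ k)⁻¹) * w⁻¹ by group, ih,
        show w * (a * c ^ k) * w⁻¹ = w * a * w⁻¹ * (w * c ^ k * w⁻¹) by group, ← conj_pow, hfix,
        show w * a * w⁻¹ = a * c by rw [hc, mul_inv_cancel_left], mul_assoc, ← pow_succ']
  have h1 := hpow (orderOf w)
  rw [pow_orderOf_eq_one, one_mul, inv_one, mul_one, left_eq_mul] at h1
  have hc1 : c = 1 := by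
    have hd := Nat.dvd_gcd (orderOf_dvd_of_pow_eq_one h1) (orderOf_dvd_of_pow_eq_one (T.exp c hcQ))
    rw [hw.gcd_eq_one, Nat.dvd_one, orderOf_eq_one_iff] at hd
    exact hd
  rw [hc, inv_mul_eq_one] at hc1
  exact (mul_inv_eq_iff_eq_mul.1 hc1.symm).symm

/-- No nontrivial subgroup of order prime to three of `C` is normalised by an abelian group of order `81`
containing `Z`. -/
theorem no_signalizer {E' W : Subgroup G} (hE : E' ≤ T.C) (hE3 : ∀ a ∈ E', a ^ 3 = 1)
    (hEc : ∀ a ∈ E', ∀ b ∈ E', a * b = b * a) (hEcard : Nat.card E' = 81) (hW : W ≤ T.C)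
    (hW3 : (Nat.card W).Coprime 3) (hn : E' ≤ Subgroup.normalizer (W : Set G)) : W = ⊥ := by
  classical
  rw [Subgroup.eq_bot_iff_forall]
  intro w hw
  have hworder : (orderOf w).Coprime 3 := hW3.coprime_dvd_left (Subgroup.orderOf_dvd_natCard W hw)
  refine no_cent_abelian (hW hw) hworder (D := E' ⊓ T.Q) inf_le_right
    (fun a ha b hb => hEc a ha.1 b hb.1) ?_ fun a ha => ?_
  · let η' : E' →* SL2 := T.ρ.comp (Subgroup.inclusion hE)
    have hr : Nat.card η'.range ≤ 3 := by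
      haveI : Fact (Nat.Prime 3) := ⟨Nat.prime_three⟩
      have h3 : IsPGroup 3 η'.range := fun ⟨x, y, hy⟩ => ⟨1, Subtype.ext (by
        show x ^ (3 ^ 1) = 1
        rw [← hy, ← map_pow, show y ^ (3 ^ 1) = 1 from Subtype.ext (hE3 y y.2), map_one])⟩
      obtain ⟨m, hm⟩ := IsPGroup.iff_card.1 h3
      have hd := Subgroup.card_subgroup_dvd_card η'.range
      rw [Nat.card_eq_fintype_card (α := SL2), show Fintype.card SL2 = 24 by decide +kernel, hm] at hd
      have hm1 : m ≤ 1 := by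
        by_contra h
        exact absurd ((pow_dvd_pow 3 (not_le.1 h)).trans hd) (by norm_num)
      rw [hm]
      exact (Nat.pow_le_pow_right (by norm_num) hm1)
    have hk : Nat.card η'.ker ≤ Nat.card (E' ⊓ T.Q : Subgroup G) := by
      refine Nat.card_le_card_of_injective
        (fun x => ⟨(x.1 : G), x.1.2, (T.ρker (Subgroup.inclusion hE x.1)).1 ⟨x.2, T.η_cube (n := 1) (Subtype.ext (by simpa using hE3 _ x.1.2))⟩⟩) fun x y e => ?_
      exact Subtype.ext (Subtype.ext (congrArg Subtype.val e :))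
    have h := η'.ker.card_eq_card_quotient_mul_card_subgroup
    rw [Nat.card_congr (QuotientGroup.quotientKerEquivRange η').toEquiv, hEcard] at h
    by_contra hlt
    push Not at hlt
    have h5 : Nat.card η'.range * Nat.card η'.ker ≤ 3 * 26 := Nat.mul_le_mul hr (by omega)
    omega
  · have h1 : w * a * w⁻¹ * a⁻¹ ∈ T.Q := mul_mem (T.toPre.conj_Q (hW hw) ha.2) (inv_mem ha.2)
    have h2 : w * a * w⁻¹ * a⁻¹ ∈ W := by
      rw [show w * a * w⁻¹ * a⁻¹ = w * (a * w⁻¹ * a⁻¹) by group]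
      exact mul_mem hw ((Subgroup.mem_normalizer_iff.1 (hn ha.1) _).1 (inv_mem hw))
    have ho : orderOf (w * a * w⁻¹ * a⁻¹) ∣ Nat.gcd (Nat.card W) 3 :=
      Nat.dvd_gcd (Subgroup.orderOf_dvd_natCard W h2) (orderOf_dvd_of_pow_eq_one (T.exp _ h1))
    rw [hW3.gcd_eq_one, Nat.dvd_one, orderOf_eq_one_iff] at ho
    exact mul_inv_eq_iff_eq_mul.1 (mul_inv_eq_one.1 ho)

namespace Frame

variable {F : Frame T} (hF : F.Classified)
include hF

/-- A subgroup of order prime to three centralising a singular point of `E` and normalised by `E` is trivial. -/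
theorem Classified.no_signalizer_point {x : Four} (hx : x ≠ 0) (hq : qf x = 0) {W : Subgroup G}
    (hW : W ≤ Subgroup.centralizer {F.el x}) (hW3 : (Nat.card W).Coprime 3)
    (hn : F.E ≤ Subgroup.normalizer (W : Set G)) : W = ⊥ := by
  obtain ⟨g, hg⟩ := ((hF.iff_qf x).2 ⟨hx, hq⟩)
  have hconj : ∀ a : G, a * F.el x = F.el x * a → g⁻¹ * a * g ∈ T.C := by
    intro a ha
    refine T.mem_C.2 ?_
    have h1 : Commute (g⁻¹ * a * g) (g⁻¹ * F.el x * g) := by
      have := (Commute.conj_iff g⁻¹).2 (show Commute a (F.el x) from ha)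
      simpa using this
    rcases hg with h | h <;> rw [← h] at h1
    · rw [show g⁻¹ * (g * T.z * g⁻¹) * g = T.z by group] at h1
      exact h1.eq
    · rw [show g⁻¹ * (g * T.z⁻¹ * g⁻¹) * g = T.z⁻¹ by group] at h1
      exact (inv_inv T.z ▸ h1.inv_right : Commute _ T.z).eq
  have hbot : W.map (MulAut.conj g⁻¹).toMonoidHom = ⊥ := by
    refine no_signalizer (T := T) (E' := F.E.map (MulAut.conj g⁻¹).toMonoidHom) ?_ ?_ ?_ ?_ ?_ ?_ ?_
    · rintro _ ⟨a, ha, rfl⟩
      obtain ⟨v, rfl⟩ := F.mem_E_iff.1 ha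
      simpa using hconj _ (F.el_comm v x)
    · rintro _ ⟨a, ha, rfl⟩
      obtain ⟨v, rfl⟩ := F.mem_E_iff.1 ha
      rw [← map_pow, F.el_cube, map_one]
    · rintro _ ⟨a, ha, rfl⟩ _ ⟨b, hb, rfl⟩
      rw [← map_mul, F.E_comm ha hb, map_mul]
    · rw [Subgroup.card_map_of_injective (MulAut.conj g⁻¹).injective, F.card_E]
    · rintro _ ⟨a, ha, rfl⟩
      simpa using hconj a (Subgroup.mem_centralizer_singleton_iff.1 (hW ha))
    · rwa [Subgroup.card_map_of_injective (MulAut.conj g⁻¹).injective]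
    · exact (Subgroup.map_mono hn).trans (Subgroup.le_normalizer_map _)
  exact (Subgroup.map_eq_bot_iff_of_injective _ (MulAut.conj g⁻¹).injective).1 hbot

/-- Every element of `SL(2,3)` lifts to an element of `C` centralising `r`. -/
theorem Classified.lift_r (γ : SL2) : ∃ c : T.C, T.ρ c = γ ∧ (c : G) * F.r = F.r * c := by
  obtain ⟨c, hc, hcη⟩ := T.ρsurj γ
  obtain ⟨-, -, hline, -⟩ := pair_comp F.ht F.hg F.comps.hn F.comps.hr F.comps.he F.comps.hn1 F.comps.cent
  have h := T.act_bar hcη ⟨F.r, F.r_mem⟩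
  rw [hline.2] at h
  have hzc : F.r⁻¹ * ((c : G) * F.r * (c : G)⁻¹) ∈ T.toPre.Z := T.bar_eq.1 h
  obtain ⟨i, hi⟩ := Subgroup.mem_zpowers_iff.1 hzc
  obtain ⟨σ, hσ, hσt, hσr⟩ := exists_plus_com F.ht F.r_mem F.r_notZ F.comps.cent
  refine ⟨⟨σ, T.Q_le_C hσ⟩ ^ (-i) * c, ?_, ?_⟩
  · rw [map_mul, map_zpow, ((T.ρker ⟨σ, T.Q_le_C hσ⟩).2 hσ).1, one_zpow, one_mul, hc]
  · push_cast
    have hconj : ∀ j : ℤ, σ ^ j * F.r * (σ ^ j)⁻¹ = T.z ^ j * F.r := by
      have h1 : σ * F.r * σ⁻¹ = T.z * F.r := by rw [← hσr]; simp [com]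
      intro j
      induction j using Int.induction_on with
      | zero => simp
      | succ j ih =>
        rw [zpow_add_one, show σ ^ (j : ℤ) * σ * F.r * (σ ^ (j : ℤ) * σ)⁻¹ =
          σ ^ (j : ℤ) * (σ * F.r * σ⁻¹) * (σ ^ (j : ℤ))⁻¹ by group, h1,
          show σ ^ (j : ℤ) * (T.z * F.r) * (σ ^ (j : ℤ))⁻¹ =
            (σ ^ (j : ℤ) * T.z) * F.r * (σ ^ (j : ℤ))⁻¹ by group,
          (show Commute σ T.z from T.mem_C.1 (T.Q_le_C hσ)).zpow_left (j : ℤ) |>.eq, mul_assoc, mul_assoc,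
          ← mul_assoc (σ ^ (j : ℤ)), ih, ← mul_assoc, zpow_add_one,
          ((Commute.refl T.z).zpow_right (j : ℤ)).eq]
      | pred j ih =>
        rw [zpow_sub_one, show σ ^ (-(j : ℤ)) * σ⁻¹ * F.r * (σ ^ (-(j : ℤ)) * σ⁻¹)⁻¹ =
          σ ^ (-(j : ℤ)) * (σ⁻¹ * F.r * σ) * (σ ^ (-(j : ℤ)))⁻¹ by group,
          show σ⁻¹ * F.r * σ = T.z⁻¹ * F.r by
            have hzσ : Commute σ T.z := T.mem_C.1 (T.Q_le_C hσ)
            calc σ⁻¹ * F.r * σ = σ⁻¹ * (T.z⁻¹ * (T.z * F.r)) * σ := by group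
              _ = (σ⁻¹ * T.z⁻¹) * (T.z * F.r) * σ := by group
              _ = T.z⁻¹ * F.r := by
                rw [hzσ.inv_inv.eq, ← h1]; group,
          show σ ^ (-(j : ℤ)) * (T.z⁻¹ * F.r) * (σ ^ (-(j : ℤ)))⁻¹ =
            (σ ^ (-(j : ℤ)) * T.z⁻¹) * F.r * (σ ^ (-(j : ℤ)))⁻¹ by group,
          ((show Commute σ T.z from T.mem_C.1 (T.Q_le_C hσ)).inv_right.zpow_left (-(j : ℤ))).eq, mul_assoc,
          mul_assoc, ← mul_assoc (σ ^ (-(j : ℤ))), ih, ← mul_assoc, zpow_sub_one,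
          ((Commute.refl T.z).inv_left.zpow_right (-(j : ℤ))).eq]
    have hc2 : (c : G) * F.r * (c : G)⁻¹ = T.z ^ i * F.r := by
      rw [show (c : G) * F.r * (c : G)⁻¹ = F.r * (F.r⁻¹ * ((c : G) * F.r * (c : G)⁻¹)) by group, ← hi,
        ((show Commute F.r T.z from F.r_z).zpow_right i).eq]
    refine mul_inv_eq_iff_eq_mul.1 ?_
    calc σ ^ (-i) * (c : G) * F.r * (σ ^ (-i) * (c : G))⁻¹
        = σ ^ (-i) * ((c : G) * F.r * (c : G)⁻¹) * (σ ^ (-i))⁻¹ := by group
      _ = (σ ^ (-i) * T.z ^ i) * F.r * (σ ^ (-i))⁻¹ := by rw [hc2]; group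
      _ = F.r := by
        rw [((show Commute σ T.z from T.mem_C.1 (T.Q_le_C hσ)).zpow_zpow (-i) i).eq, mul_assoc, mul_assoc,
          ← mul_assoc (σ ^ (-i)), hconj, ← mul_assoc, ← zpow_add, add_neg_cancel, zpow_zero, one_mul]

end Frame

end Loc

end Cfsg.Agent.Spor.OmegaEightThree
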