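import Cfsg.Agent.Lib.Spor.OmegaEightThree.Final

/-!
The reduction of `C/Q ≅ SL(2,3) × 2` to `C/Q ≅ SL(2,3)` in the kernel of a character of order two,
and the uniqueness of the subgroup of index three.
-/

set_option autoImplicit false
set_option linter.unusedSectionVars false
set_option linter.style.haveILetI false
set_option maxHeartbeats 1000000

namespace Cfsg.Agent.Spor.OmegaEightThree

open Cfsg.Agent.Spor.PSLFourThree (com x2 i2 x2_cube rel_x2_i2 gen_induction)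

local notation "SL2" => Matrix.SpecialLinearGroup (Fin 2) (ZMod 3)
local notation "C2" => Multiplicative (ZMod 2)
local notation "C3" => Multiplicative (ZMod 3)

theorem c2_cases : ∀ a : C2, (a ^ 3 = 1 → a = 1) ∧ (a ^ 9 = 1 → a = 1) ∧
    ∀ b : C2, a ≠ 1 → b ≠ 1 → a = b ∧ a * b = 1 := by decide +kernel

theorem c3_gen : ∀ a b : C3, a ≠ 1 → ∃ k : Fin 3, b = a ^ k.val := by decide +kernel

namespace Loc

variable {G : Type*} [Group G] [Finite G]

namespace Level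

variable {T : Loc G} (L : Level T)

/-- A character of order three killing `q₀` kills everything. -/
theorem char_trivial (ω : G →* C3) (h₀ : ω L.q₀ = 1) (g : G) : ω g = 1 := by
  obtain ⟨q₁, hq₁, hU⟩ := L.hF.exists_U
  have hz : ω T.z = 1 := by
    have h := congrArg ω (hU ![0, 1, 0, 0])
    rw [translate_moves.1, L.F.el_mul, L.F.el_z, map_mul, map_mul, map_inv, mul_comm (ω q₁),
      mul_inv_cancel_right, map_mul] at h
    exact left_eq_mul.1 (h.trans (mul_comm _ _))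
  have hmove : ∀ (k : G) (χ : Four → Four), L.F.Act k χ → ∀ u : Four,
      χ ![0, 0, 0, 1] = u + ![0, 0, 0, 1] → ω (L.F.el u) = 1 := by
    intro k χ hk u hu
    have h := congrArg ω (hk ![0, 0, 0, 1])
    rw [hu, L.F.el_mul, map_mul, map_mul, map_inv, mul_comm (ω k), mul_inv_cancel_right, map_mul] at h
    exact right_eq_mul.1 h
  have hn : ω L.F.n = 1 := by
    have h := hmove _ _ hU ![-1, 1, 0, 0] (by funext i; fin_cases i <;> simp [Frame.mU])
    rw [Frame.el, map_mul, map_mul, map_mul, map_pow, map_pow, map_pow, map_pow, hz] at h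
    simpa [ZMod.val_one] using h
  have hr : ω L.F.r = 1 := by
    have h := hmove _ _ L.hV ![1, 0, -1, 0] (by funext i; fin_cases i <;> simp [Frame.mV])
    rw [Frame.el, map_mul, map_mul, map_mul, map_pow, map_pow, map_pow, map_pow, hz,
      show ((![1, 0, -1, 0] : Four) 2).val = 2 from rfl] at h
    simp at h
    exact c3_two _ (by rw [← pow_two]; exact h)
  have hf : ω L.F.f = 1 := by
    obtain ⟨k, hk | hk⟩ := L.F.f_Z
    · rw [← hk, map_mul, map_mul, map_inv, hz, mul_one, mul_inv_cancel]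
    · rw [← hk, map_mul, map_mul, map_inv, map_inv, hz, inv_one, mul_one, mul_inv_cancel]
  have hel : ∀ v, ω (L.F.el v) = 1 := fun v => by simp [Frame.el, hz, hn, hr, hf]
  have hq1 : ω q₁ = 1 := by
    have hA := hU.mul ((L.F.act_t.mul hU).mul L.F.act_t)
    have hx : q₁ * (L.F.t * q₁ * L.F.t) ∈ L.F.E := L.hF.cent_E fun v => mul_inv_eq_iff_eq_mul.1 (by
      rw [hA]
      simp only [Function.comp_apply]
      congr 1
      rw [conjU_t]
      exact (four_eta v).symm)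
    obtain ⟨y, hy⟩ := L.F.mem_E_iff.1 hx
    have h := congrArg ω hy
    rw [hel, map_mul, map_mul, map_mul,
      show ω L.F.t = 1 from c3_two _ (by rw [← map_mul, L.F.ht.sq, map_one]),
      one_mul, mul_one] at h
    exact c3_two _ h.symm
  have hQ : ∀ a ∈ T.Q, ω a = 1 := fun a ha => by
    obtain ⟨i, j, c, hc, rfl⟩ := Frame.Q_gen hq₁ hU L.q₀Q L.hV ha
    obtain ⟨x, rfl⟩ := L.F.mem_E_iff.1 hc
    rw [map_mul, map_mul, map_pow, map_pow, hq1, h₀, hel, one_pow, one_pow, one_mul, one_mul]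
  have hC : T.C ≤ ω.ker := by
    intro c hc
    have hσ3 : T.ρ ⟨L.F.f, L.F.f_C⟩ ^ 3 = 1 := by
      rw [← map_pow, show (⟨L.F.f, L.F.f_C⟩ : T.C) ^ 3 = 1 from Subtype.ext L.F.f_cube, map_one]
    obtain ⟨δ, hδ, hcase⟩ := four_mul_three _ (T.ρ ⟨c, hc⟩) hσ3 L.F.ρ_f_ne
    obtain ⟨y, hy, hyρ⟩ := quat_lift L.F.ht L.hS hδ
    obtain ⟨e, he⟩ : ∃ e : ℕ, T.ρ ⟨c, hc⟩ = δ * T.ρ ⟨L.F.f, L.F.f_C⟩ ^ e := by
      rcases hcase with h | h | h
      · exact ⟨0, by rw [h, pow_zero, mul_one]⟩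
      · exact ⟨1, by rw [h, pow_one]⟩
      · exact ⟨2, by rw [h, pow_two]⟩
    set q : T.C := (⟨y, T.mem_C.2 hy.2.1⟩ * ⟨L.F.f, L.F.f_C⟩ ^ e)⁻¹ * ⟨c, hc⟩ with hq
    have hqQ : (q : G) ∈ T.Q := (T.ρker q).1
      ⟨by rw [hq, map_mul, map_inv, map_mul, map_pow, hyρ, he, inv_mul_cancel], L.hS _⟩
    have h := hQ _ hqQ
    rw [hq] at h
    push_cast at h
    rw [map_mul, map_inv, map_mul, map_pow, hf, one_pow, mul_one, inv_mul_eq_one] at h
    refine MonoidHom.mem_ker.2 (h ▸ c3_four _ ?_)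
    rw [← map_pow, hy.2.2, map_one]
  have hidx : ω.ker.index = 1 := by
    have h1 : ω.ker.index ∣ 3 := by
      rw [Subgroup.index_ker]
      have hd := Subgroup.card_subgroup_dvd_card ω.range
      rwa [Nat.card_eq_fintype_card (α := C3), Fintype.card_multiplicative, ZMod.card] at hd
    rcases (Nat.dvd_prime Nat.prime_three).1 h1 with h | h
    · exact h
    · exact absurd (h ▸ Subgroup.index_dvd_of_le hC) index_C
  exact MonoidHom.mem_ker.1 ((Subgroup.index_eq_one.1 hidx).symm ▸ Subgroup.mem_top g)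

theorem char_le (χ : G →* C3) : L.Hs ≤ χ.ker := by
  intro g hg
  obtain ⟨k, hk⟩ := c3_gen (L.φ L.q₀) (χ L.q₀) L.hφ
  have h := L.char_trivial (χ / L.φ ^ k.val) (by
    rw [MonoidHom.div_apply, MonoidHom.pow_apply, hk, div_self']) g
  rw [MonoidHom.div_apply, MonoidHom.pow_apply, MonoidHom.mem_ker.1 hg, one_pow, div_one] at h
  exact h

theorem index_Hs : L.Hs.index = 3 := by
  rw [Subgroup.index_ker]
  have hd := Subgroup.card_subgroup_dvd_card L.φ.range
  rw [Nat.card_eq_fintype_card (α := C3), Fintype.card_multiplicative, ZMod.card] at hd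
  rcases (Nat.dvd_prime Nat.prime_three).1 hd with h | h
  · exact absurd (Subgroup.mem_bot.1 ((Subgroup.card_eq_one.1 h) ▸ (⟨L.q₀, rfl⟩ : L.φ L.q₀ ∈ L.φ.range))) L.hφ
  · exact h

/-- The normal subgroup of index three is unique. -/
theorem unique_three (M : Subgroup G) [M.Normal] (hM : M.index = 3) : M = L.Hs := by
  haveI : Fact (Nat.Prime 3) := ⟨Nat.prime_three⟩
  rw [Subgroup.index_eq_card] at hM
  let e : G ⧸ M ≃* C3 := mulEquivOfPrimeCardEq (p := 3) hM (by simp)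
  have hle : L.Hs ≤ M := fun g hg => by
    have h := L.char_le (e.toMonoidHom.comp (QuotientGroup.mk' M)) hg
    rw [MonoidHom.mem_ker] at h
    exact (QuotientGroup.eq_one_iff g).1 (e.injective (h.trans (map_one e).symm))
  symm
  refine Subgroup.eq_of_le_of_card_ge hle ?_
  have h1 := M.card_mul_index
  have h2 := L.Hs.card_mul_index
  rw [L.index_Hs] at h2
  rw [Subgroup.index_eq_card, hM] at h1
  omega

end Level

/-- The case `C/Q ≅ SL(2,3)`. -/
theorem single_case {T : Loc G} (hp : ∃ g, T.IsPair g) (hS : T.Single) :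
    ∃ N : Subgroup G, N.Normal ∧ Nonempty (N ≃* Cfsg.Omega (ZMod 2) (Cfsg.quadFormPlus 4 (ZMod 2))) ∧
      Subgroup.centralizer (N : Set G) = ⊥ ∧ N.index = 3 := by
  obtain ⟨F⟩ := T.exists_frame hp
  obtain ⟨F', hF'⟩ := F.exists_classified
  obtain ⟨L⟩ := exists_level hF' hS
  exact L.recognition

section Restrict

variable (T : Loc G) (ψ : G →* C2)

theorem ψ_z : ψ T.z = 1 := (c2_cases _).1 (by rw [← map_pow, T.z_cube, map_one])

theorem ψ_Q {a : G} (ha : a ∈ T.Q) : ψ a = 1 := (c2_cases _).1 (by rw [← map_pow, T.exp a ha, map_one])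

theorem ψ_K {c : T.C} (hc : T.η c = 1) : ψ c = 1 := by
  have key : ∀ γ : SL2, ∃ d : T.C, T.ρ d = γ ∧ T.η d = 1 ∧ ψ d = 1 := by
    intro γ
    have hord : ∀ σ : SL2, σ ^ 3 = 1 → ∃ d : T.C, T.ρ d = σ ∧ T.η d = 1 ∧ ψ d = 1 := by
      intro σ hσ
      obtain ⟨d, hd, hd'⟩ := T.ρsurj σ
      refine ⟨d, hd, hd', (c2_cases _).2.1 ?_⟩
      have h3 : ((d ^ 3 : T.C) : G) ∈ T.Q :=
        (T.ρker _).1 ⟨by rw [map_pow, hd, hσ], by rw [map_pow, hd', one_pow]⟩
      rw [show (9 : ℕ) = 3 * 3 from rfl, pow_mul, ← map_pow]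
      have h := T.ψ_Q ψ h3
      push_cast at h
      rw [h, one_pow]
    refine gen_induction (p := fun γ => ∃ d : T.C, T.ρ d = γ ∧ T.η d = 1 ∧ ψ d = 1)
      (hord _ x2_cube) ?_ ⟨1, map_one _, map_one _, map_one _⟩ ?_ ?_ γ
    · obtain ⟨a, ha, ha', ha''⟩ := hord _ x2_cube
      obtain ⟨b, hb, hb', hb''⟩ := hord (i2 * x2 * i2⁻¹) (by rw [conj_pow, x2_cube, mul_one, mul_inv_cancel])
      exact ⟨a * b * a, by rw [map_mul, map_mul, ha, hb, rel_x2_i2], by simp [ha', hb'],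
        by simp [ha'', hb'']⟩
    · rintro _ _ ⟨a, rfl, ha', ha''⟩ ⟨b, rfl, hb', hb''⟩
      exact ⟨a * b, map_mul _ _ _, by simp [ha', hb'], by simp [ha'', hb'']⟩
    · rintro _ ⟨a, rfl, ha', ha''⟩
      exact ⟨a⁻¹, map_inv _ _, by simp [ha'], by simp [ha'']⟩
  obtain ⟨d, hd, hd', hd''⟩ := key (T.ρ c)
  have hq := T.ψ_Q ψ ((T.ρker (d⁻¹ * c)).1
    ⟨by rw [map_mul, map_inv, hd, inv_mul_cancel], by rw [map_mul, map_inv, hd', hc, inv_one, one_mul]⟩)
  simpa [hd''] using hq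

theorem η_of_ψ {s : G} (hs : s ∈ T.C) (hsψ : ψ s ≠ 1) {c : T.C} (hc : ψ c = 1) : T.η c = 1 := by
  by_contra hne
  have h1 : T.η ⟨s, hs⟩ ≠ 1 := fun h => hsψ (T.ψ_K ψ h)
  have h2 := T.ψ_K ψ (c := c * ⟨s, hs⟩) (by rw [map_mul]; exact ((c2_cases _).2.2 _ hne h1).2)
  push_cast at h2
  rw [map_mul, hc, one_mul] at h2
  exact hsψ h2

variable {T ψ}
variable {s : G} (hs : s ∈ T.C) (hsψ : ψ s ≠ 1)

/-- `z` in the kernel. -/
def zK : ψ.ker := ⟨T.z, T.ψ_z ψ⟩

/-- The centraliser of `z` in the kernel, as a subgroup of `C`. -/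
def incl : ↥(Subgroup.centralizer ({zK (T := T) (ψ := ψ)} : Set ψ.ker)) →* T.C where
  toFun c := ⟨c.1.1, T.mem_C.2 (congrArg Subtype.val (Subgroup.mem_centralizer_singleton_iff.1 c.2))⟩
  map_one' := rfl
  map_mul' _ _ := rfl

theorem mem_zK {x : ψ.ker} : x ∈ Subgroup.zpowers (zK (T := T) (ψ := ψ)) ↔ (x : G) ∈ T.Z := by
  rw [Pre.Z, Subgroup.mem_zpowers_iff, Subgroup.mem_zpowers_iff]
  exact ⟨fun ⟨k, e⟩ => ⟨k, by rw [← e]; rfl⟩, fun ⟨k, e⟩ => ⟨k, Subtype.ext (by rw [← e]; rfl)⟩⟩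

theorem mem_centK {x : ψ.ker} (h : (x : G) ∈ T.C) :
    x ∈ Subgroup.centralizer ({zK (T := T) (ψ := ψ)} : Set ψ.ker) :=
  Subgroup.mem_centralizer_singleton_iff.2 (Subtype.ext (T.mem_C.1 h))

/-- The data in the kernel. -/
def preK : Pre ψ.ker where
  z := zK (T := T)
  Q := T.Q.subgroupOf ψ.ker
  ρ := T.ρ.comp incl
  η := 1
  hz := by rw [← T.hz, ← Subgroup.orderOf_coe]; rfl
  hzQ := Subgroup.mem_subgroupOf.2 T.hzQ
  card_Q := by
    rw [Nat.card_congr (Subgroup.subgroupOfEquivOfLe (fun a ha => MonoidHom.mem_ker.2 (T.ψ_Q ψ ha))).toEquiv]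
    exact T.card_Q
  exp a ha := Subtype.ext (T.exp _ (Subgroup.mem_subgroupOf.1 ha))
  center a ha h := mem_zK.2 (T.center _ (Subgroup.mem_subgroupOf.1 ha) fun b hb =>
    congrArg Subtype.val (h ⟨b, T.ψ_Q ψ hb⟩ (Subgroup.mem_subgroupOf.2 hb)))
  com_mem a ha b hb := mem_zK.2 (by
    simpa [com, Pre.Z] using T.com_mem _ (Subgroup.mem_subgroupOf.1 ha) _ (Subgroup.mem_subgroupOf.1 hb))
  normQ c hc := Subgroup.mem_normalizer_iff.2 fun x => by
    have h := Subgroup.mem_normalizer_iff.1 (T.normQ (incl ⟨c, hc⟩).2) (x : G)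
    exact h
  QC a ha := mem_centK (T.QC (Subgroup.mem_subgroupOf.1 ha))
  self a ha := Subgroup.mem_subgroupOf.2 (T.self (Subgroup.mem_centralizer_iff.2 fun b hb =>
    congrArg Subtype.val (Subgroup.mem_centralizer_iff.1 ha ⟨b, T.ψ_Q ψ hb⟩ (Subgroup.mem_subgroupOf.2 hb))))
  ρsurj g := by
    obtain ⟨c, hc, hc'⟩ := T.ρsurj g
    exact ⟨⟨⟨c, T.ψ_K ψ hc'⟩, mem_centK c.2⟩, hc, rfl⟩
  ρker c := by
    have hη : T.η (incl c) = 1 := T.η_of_ψ ψ hs hsψ c.1.2
    rw [Subgroup.mem_subgroupOf]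
    exact ⟨fun h => (T.ρker (incl c)).1 ⟨h.1, hη⟩, fun h => ⟨((T.ρker (incl c)).2 h).1, rfl⟩⟩
  sylow P hP := by
    rw [← Subgroup.card_map_of_injective ψ.ker.subtype_injective]
    exact T.sylow _ (hP.map _)

/-- The map of the quotients `Q/Z`. -/
def vMap : (preK hs hsψ).V →* T.V :=
  QuotientGroup.map _ _
    { toFun := fun a => (⟨((a : ψ.ker) : G), Subgroup.mem_subgroupOf.1 a.2⟩ : T.Q)
      map_one' := rfl
      map_mul' := fun _ _ => rfl }
    fun a ha => by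
      rw [Subgroup.mem_subgroupOf] at ha
      rw [Subgroup.mem_comap, Subgroup.mem_subgroupOf]
      exact mem_zK.1 ha

theorem vMap_bar (a : (preK hs hsψ).Q) :
    vMap hs hsψ ((preK hs hsψ).bar a) = T.bar ⟨((a : ψ.ker) : G), Subgroup.mem_subgroupOf.1 a.2⟩ := rfl

theorem vMap_bij : Function.Bijective (vMap hs hsψ) := by
  constructor
  · rw [injective_iff_map_eq_one]
    intro v hv
    obtain ⟨a, rfl⟩ := (preK hs hsψ).bar_surj v
    rw [vMap_bar, T.bar_eq_one] at hv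
    exact (preK hs hsψ).bar_eq_one.2 (mem_zK.2 hv)
  · intro v
    obtain ⟨a, rfl⟩ := T.bar_surj v
    exact ⟨(preK hs hsψ).bar ⟨⟨a, T.ψ_Q ψ a.2⟩, Subgroup.mem_subgroupOf.2 a.2⟩, rfl⟩

theorem vMap_act (γ : SL2) (v : (preK hs hsψ).V) :
    vMap hs hsψ ((preK hs hsψ).act γ v) = T.act γ (vMap hs hsψ v) := by
  obtain ⟨c, hc, hcη⟩ := (preK hs hsψ).ρsurj γ
  obtain ⟨a, rfl⟩ := (preK hs hsψ).bar_surj v
  have hη : T.η (incl c) = 1 := T.η_of_ψ ψ hs hsψ c.1.2
  subst hc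
  rw [(preK hs hsψ).act_bar hcη, vMap_bar, vMap_bar]
  show _ = T.act (T.ρ (incl c)) _
  rw [T.act_bar hη]
  rfl

/-- The local data in the kernel. -/
def locK : Loc ψ.ker where
  toPre := preK hs hsψ
  card_plus := by
    rw [← T.card_plus]
    exact Nat.card_congr ((Equiv.ofBijective _ (vMap_bij hs hsψ)).subtypeEquiv fun v => by
      show _ = v ↔ T.act (-1) _ = _
      rw [Equiv.ofBijective_apply, ← vMap_act]
      exact (vMap_bij hs hsψ).1.eq_iff.symm)
  card_minus := by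
    rw [← T.card_minus]
    exact Nat.card_congr ((Equiv.ofBijective _ (vMap_bij hs hsψ)).subtypeEquiv fun v => by
      show _ = v⁻¹ ↔ T.act (-1) _ = _
      rw [Equiv.ofBijective_apply, ← vMap_act, ← map_inv]
      exact (vMap_bij hs hsψ).1.eq_iff.symm)
  quat_plus γ hγ v hv := (vMap_bij hs hsψ).1 (by
    rw [vMap_act]
    refine T.quat_plus γ hγ _ ?_
    rw [Pre.mem_plus, ← vMap_act, (preK hs hsψ).mem_plus.1 hv])

end Restrict

/-- The case `C/Q ≅ SL(2,3) × 2`, given a character of order two nontrivial on `C`. -/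
theorem reduce {T : Loc G} (hp : ∃ g, T.IsPair g) (ψ : G →* C2) {s : G} (hs : s ∈ T.C) (hsψ : ψ s ≠ 1) :
    ∃ N : Subgroup G, N.Normal ∧ Nonempty (N ≃* Cfsg.Omega (ZMod 2) (Cfsg.quadFormPlus 4 (ZMod 2))) ∧
      Subgroup.centralizer (N : Set G) = ⊥ ∧ N.index = 6 := by
  set T2 := locK hs hsψ with hT2
  have hp2 : ∃ g, T2.IsPair g := by
    obtain ⟨g, hg⟩ := hp
    obtain ⟨g', hg', he⟩ : ∃ g', ψ g' = 1 ∧ g' * T.z * g'⁻¹ = g * T.z * g⁻¹ := by
      by_cases h : ψ g = 1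
      · exact ⟨g, h, rfl⟩
      · refine ⟨g * s, by rw [map_mul]; exact ((c2_cases _).2.2 _ h hsψ).2, ?_⟩
        calc g * s * T.z * (g * s)⁻¹ = g * (s * T.z * s⁻¹) * g⁻¹ := by group
          _ = _ := by rw [T.conj_Z hs T.z_mem]
    refine ⟨⟨g', hg'⟩, Subgroup.mem_subgroupOf.2 ?_, fun h => ?_⟩
    · show g' * T.z * g'⁻¹ ∈ T.Q
      rw [he]; exact hg.1
    · have h' : g' * T.z * g'⁻¹ ∈ T.Z := mem_zK.1 h
      rw [he] at h'
      exact hg.2 h'
  have hS2 : T2.Single := fun _ => rfl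
  obtain ⟨F⟩ := T2.exists_frame hp2
  obtain ⟨F', hF'⟩ := F.exists_classified
  obtain ⟨L⟩ := exists_level hF' hS2
  obtain ⟨N, hN, ⟨e⟩, hcent, hidx⟩ := L.recognition
  haveI := hN
  have hnorm : (N.map ψ.ker.subtype).Normal := by
    refine ⟨fun x hx g => ?_⟩
    obtain ⟨n, hn, rfl⟩ := hx
    let α : ψ.ker →* ψ.ker := MonoidHom.mk'
      (fun x => ⟨g * x * g⁻¹, by rw [MonoidHom.mem_ker, map_mul, map_mul, map_inv, MonoidHom.mem_ker.1 x.2, mul_one, mul_inv_cancel]⟩)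
      fun a b => Subtype.ext (by push_cast; group)
    have hinj : Function.Injective α := fun a b h =>
      Subtype.ext (by simpa [α] using congrArg Subtype.val h)
    have hsurj : Function.Surjective α := Finite.injective_iff_surjective.1 hinj
    haveI : (N.map α).Normal := hN.map α hsurj
    have hmap : N.map α = N := by
      rw [L.unique_three N hidx]
      haveI : (L.Hs.map α).Normal := (inferInstance : L.Hs.Normal).map α hsurj
      refine L.unique_three _ ?_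
      rw [Subgroup.index_map_of_bijective (f := α) ⟨hinj, hsurj⟩, L.index_Hs]
    exact ⟨α n, hmap.le ⟨n, hn, rfl⟩, rfl⟩
  haveI := hnorm
  have hψ2 : ψ.ker.index = 2 := by
    rw [Subgroup.index_ker]
    have hd := Subgroup.card_subgroup_dvd_card ψ.range
    rw [Nat.card_eq_fintype_card (α := C2), Fintype.card_multiplicative, ZMod.card] at hd
    rcases (Nat.dvd_prime Nat.prime_two).1 hd with h | h
    · exact absurd (Subgroup.mem_bot.1 ((Subgroup.card_eq_one.1 h) ▸ (⟨s, rfl⟩ : ψ s ∈ ψ.range))) hsψ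
    · exact h
  refine ⟨N.map ψ.ker.subtype, hnorm,
    ⟨(N.equivMapOfInjective _ ψ.ker.subtype_injective).symm.trans e⟩, ?_,
    by rw [Subgroup.index_map_subtype, hidx, hψ2]⟩
  set M := Subgroup.centralizer ((N.map ψ.ker.subtype : Subgroup G) : Set G) with hM
  have hsmall : ∀ c ∈ M, ψ c = 1 → c = 1 := by
    intro c hc h
    have hmem : (⟨c, h⟩ : ψ.ker) ∈ Subgroup.centralizer (N : Set ψ.ker) :=
      Subgroup.mem_centralizer_iff.2 fun n hn =>
        Subtype.ext (Subgroup.mem_centralizer_iff.1 hc _ ⟨n, hn, rfl⟩)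
    rw [hcent, Subgroup.mem_bot] at hmem
    exact congrArg Subtype.val hmem
  haveI : M.Normal := inferInstance
  rw [Subgroup.eq_bot_iff_forall]
  intro c hc
  have hcom : ∀ g : G, g * c = c * g := fun g => by
    have h1 := mul_mem ((inferInstance : M.Normal).conj_mem c hc g) (inv_mem hc)
    have h2 := hsmall _ h1 (by
      rw [map_mul, map_mul, map_mul, map_inv, map_inv, mul_comm (ψ g), mul_inv_cancel_right, mul_inv_cancel])
    exact mul_inv_eq_iff_eq_mul.1 (mul_inv_eq_one.1 h2)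
  refine hsmall c hc (T.ψ_Q ψ (T.self (Subgroup.mem_centralizer_iff.2 fun b _ => hcom b)))

end Loc

end Cfsg.Agent.Spor.OmegaEightThree
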