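import Cfsg.Agent.Lib.Spor.OmegaEightThree.Classify

/-!
Reflections of the coordinate space: finite facts.
-/

set_option autoImplicit false
set_option linter.unusedSectionVars false
set_option maxHeartbeats 1000000
set_option maxRecDepth 100000
set_option synthInstance.maxSize 5000
set_option synthInstance.maxHeartbeats 400000

namespace Cfsg.Agent.Spor.OmegaEightThree

namespace Loc

open Frame

/-- The symmetric form with `qf (v + w) = qf v + qf w + bil v w`. -/
def bil (v w : Four) : ZMod 3 := qf (v + w) - qf v - qf w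

/-- The reflection at a point of value `1`. -/
def refl (p v : Four) : Four := v - bil v p • p

theorem bil_eq (v w : Four) : bil v w = v 0 * w 3 + v 3 * w 0 + 2 * (v 1 * w 1) - 2 * (v 2 * w 2) := by
  simp only [bil, qf, Pi.add_apply]
  ring

theorem bil_self (p : Four) : bil p p = 2 * qf p := by
  rw [bil_eq, qf]
  ring

theorem bil_smul_left (j : ZMod 3) (v w : Four) : bil (j • v) w = j * bil v w := by
  simp only [bil_eq, Pi.smul_apply, smul_eq_mul]
  ring

theorem bil_sub_smul (x : ZMod 3) (v p w : Four) : bil (v - x • p) w = bil v w - x * bil p w := by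
  simp only [bil_eq, Pi.sub_apply, Pi.smul_apply, smul_eq_mul]
  ring

theorem bil_smul (j : ZMod 3) (v p : Four) (h : bil v p = 0) : bil (j • v) p = 0 := by
  rw [bil_smul_left, h, mul_zero]

theorem refl_n (v : Four) : refl ![0, 1, 0, 0] v = ![v 0, -v 1, v 2, v 3] := by
  funext i
  fin_cases i <;> simp [refl, bil_eq]
  ring

theorem refl_neg (p v : Four) : refl (-p) v = refl p v := by
  rw [refl, refl, show bil v (-p) = -bil v p by simp only [bil_eq, Pi.neg_apply]; ring, neg_smul_neg]

theorem half_forces : ∀ a b : ZMod 3, a - b = -a → a = -b := by decide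

theorem refl_inverted (p v : Four) (_ : qf p = 1) (h : refl p v = -v) : ∃ j : ZMod 3, v = j • p := by
  refine ⟨-bil v p, funext fun i => ?_⟩
  have hi := congrFun h i
  simp only [refl, Pi.sub_apply, Pi.smul_apply, Pi.neg_apply, smul_eq_mul] at hi
  rw [Pi.smul_apply, smul_eq_mul, neg_mul]
  exact half_forces _ _ hi

theorem refl_orth (p v : Four) (h : bil v p = 0) : refl p v = v := by rw [refl, h, zero_smul, sub_zero]

theorem refl_self (p : Four) (h : qf p = 1) : refl p p = -p := by
  rw [refl, bil_self, h, mul_one, two_smul]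
  abel

theorem refl_refl (p v : Four) (h : qf p = 1) : refl p (refl p v) = v := by
  rw [refl, refl, bil_sub_smul, bil_self, h,
    show bil v p - bil v p * (2 * 1) = -bil v p by ring, neg_smul]
  abel

theorem refl_comm (p p' : Four) (hp : qf p = 1) (_ : qf p' = 1) (h1 : bil p p' = 0) (h2 : bil p' p = 0) (v : Four) :
    refl p (refl p' (refl p v)) = refl p' v := by
  simp only [refl]
  rw [bil_sub_smul _ v p p', h1, mul_zero, sub_zero, bil_sub_smul _ _ p' p, h2, mul_zero, sub_zero, bil_sub_smul,
    bil_self, hp, show bil v p - bil v p * (2 * 1) = -bil v p by ring, neg_smul]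
  abel

/-- The three points of value `1` of the hyperplane fixed by the central involution. -/
def pts : Fin 3 → Four := ![![1, 0, 0, 1], ![1, 0, 1, -1], ![1, 0, -1, -1]]

theorem pts_facts : ∀ i : Fin 3, qf (pts i) = 1 ∧ bil (pts i) ![0, 1, 0, 0] = 0 ∧
    bil ![0, 1, 0, 0] (pts i) = 0 ∧ ∀ j : Fin 3, i ≠ j → bil (pts i) (pts j) = 0 := by decide +kernel

theorem four_refl_aux : ∀ a b c d : ZMod 3,
    refl ![0, 1, 0, 0] (refl (pts 0) (refl (pts 1) (refl (pts 2) ![a, b, c, d]))) = -![a, b, c, d] := by
  decide +kernel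

theorem four_refl (v : Four) : refl ![0, 1, 0, 0] (refl (pts 0) (refl (pts 1) (refl (pts 2) v))) = -v := by
  rw [four_eta v]
  exact four_refl_aux _ _ _ _

end Loc

end Cfsg.Agent.Spor.OmegaEightThree
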