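import Cfsg.Agent.Lib.Spor.OmegaEightThree.Mono
import Cfsg.Agent.Lib.Spor.OmegaEightThree.ReflData

/-!
The conjugates of the central involution in `N(E)` are reflections; four of them with orthogonal points
commute, and their product inverts `E`.
-/

set_option autoImplicit false
set_option linter.unusedSectionVars false
set_option maxHeartbeats 1000000
set_option maxRecDepth 100000
set_option synthInstance.maxSize 5000
set_option synthInstance.maxHeartbeats 400000

namespace Cfsg.Agent.Spor.OmegaEightThree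

namespace Loc

variable {G : Type*} [Group G] [Finite G] {T : Loc G}

namespace Frame

variable {F : Frame T}

/-- An involution acting as the reflection at `p`. -/
structure IsRefl (F : Frame T) (k : G) (p : Four) : Prop where
  sq : k * k = 1
  act : F.Act k (refl p)
  qp : qf p = 1
  conj : ∃ g : G, g * F.t * g⁻¹ = k

theorem t_refl : F.IsRefl F.t ![0, 1, 0, 0] :=
  ⟨F.ht.sq, F.act_t.congr fun v => (refl_n v).symm, qf_basic.2.1, ⟨1, by simp⟩⟩

variable (hF : F.Classified)
include hF

theorem Classified.bil_image {k : G} {φ : Four → Four} (h : F.Act k φ) (v w : Four) : bil (φ v) (φ w) = bil v w := by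
  rw [bil, bil, ← h.add, hF.isom h, hF.isom h, hF.isom h]

theorem Classified.exists_refl {p : Four} (hp : qf p = 1) : ∃ k, F.IsRefl k p := by
  obtain ⟨k, φ, hk, hkp⟩ := hF.to_n hp
  obtain ⟨ψ, hψ⟩ := F.exists_act (inv_mem hk.mem)
  have hinv : ∀ v, ψ (φ v) = v := fun v => hψ.apply_eq (by rw [← hk]; group)
  have hinv' : ∀ v, φ (ψ v) = v := fun v => hk.apply_eq (by rw [← hψ]; group)
  refine ⟨k⁻¹ * F.t * k⁻¹⁻¹, ?_, ?_, hp, ⟨k⁻¹, rfl⟩⟩
  · calc k⁻¹ * F.t * k⁻¹⁻¹ * (k⁻¹ * F.t * k⁻¹⁻¹) = k⁻¹ * (F.t * F.t) * k := by group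
      _ = 1 := by rw [F.ht.sq]; group
  · have hn : φ p = ![0, 1, 0, 0] ∨ φ p = -![0, 1, 0, 0] := hkp.imp
      (fun e => hk.apply_eq (by rw [e, F.el_n])) fun e => hk.apply_eq (by rw [e, F.el_neg, F.el_n])
    refine ((hψ.mul F.t_refl.act).mul (inv_inv k ▸ hk)).congr fun v => ?_
    simp only [Function.comp_apply]
    have e1 : refl ![0, 1, 0, 0] (φ v) = φ (refl p v) := by
      rw [refl, refl, sub_eq_add_neg v, hk.add, hk.neg, hk.smul, ← sub_eq_add_neg, ← hF.bil_image hk v p]
      rcases hn with e | e <;> rw [e]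
      have := refl_neg ![0, 1, 0, 0] (φ v)
      rw [refl, refl] at this
      exact this.symm
    rw [e1, hinv]

/-- A reflection fixes the involution acting as an orthogonal reflection. -/
theorem Classified.refl_commute {a b : G} {p p' : Four} (ha : F.IsRefl a p) (hb : F.IsRefl b p')
    (h1 : bil p p' = 0) (h2 : bil p' p = 0) : a * b = b * a := by
  have hai : a⁻¹ = a := inv_eq_of_mul_eq_one_right ha.sq
  have hbi : b⁻¹ = b := inv_eq_of_mul_eq_one_right hb.sq
  set x := a * b * a * b with hx
  have hxE : x ∈ F.E := by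
    refine hF.cent_E fun v => ?_
    refine mul_inv_eq_iff_eq_mul.1 ?_
    have h := ((ha.act.mul hb.act).mul ha.act).mul hb.act
    rw [hx, h v]
    congr 1
    simp only [Function.comp_apply]
    rw [refl_comm p p' ha.qp hb.qp h1 h2, refl_refl p' v hb.qp]
  obtain ⟨w, hw⟩ := F.mem_E_iff.1 hxE
  have hsb : b * x * b⁻¹ = x⁻¹ := by
    rw [hx, hbi, mul_inv_rev, mul_inv_rev, mul_inv_rev, hbi, hai]
    simp only [mul_assoc, hb.sq, mul_one]
  have hbw : refl p' w = -w := F.el_inj (by rw [F.el_neg, ← hb.act, hw, hsb])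
  obtain ⟨j, rfl⟩ := refl_inverted p' w hb.qp hbw
  have hsa : a * x * a⁻¹ = x⁻¹ := by
    rw [hx, hai, mul_inv_rev, mul_inv_rev, mul_inv_rev, hbi, hai]
    simp only [← mul_assoc, ha.sq, one_mul]
  have haw : refl p (j • p') = j • p' := refl_orth _ _ (bil_smul _ _ _ h2)
  have hax : a * x * a⁻¹ = x := by rw [← hw, ha.act, haw]
  have hx2 : x * x = 1 := by
    have h := hsa.symm.trans hax
    conv_lhs => arg 2; rw [← h]
    rw [mul_inv_cancel]
  have hx1 : x = 1 := by
    have h3 := F.el_cube (j • p')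
    rw [hw, pow_succ, pow_two, hx2, one_mul] at h3
    exact h3
  rw [hx] at hx1
  calc a * b = (a * b * a * b) * (b⁻¹ * a⁻¹) := by group
    _ = b * a := by rw [hx1, one_mul, hbi, hai]

/-- An involution inverting `E`, commuting with `t`. -/
theorem Classified.exists_neg : ∃ k : G, F.Act k (fun v => -v) ∧ k * k = 1 ∧ k * F.t = F.t * k := by
  obtain ⟨a, ha⟩ := hF.exists_refl (pts_facts 0).1
  obtain ⟨b, hb⟩ := hF.exists_refl (pts_facts 1).1
  obtain ⟨c, hc⟩ := hF.exists_refl (pts_facts 2).1
  have ta := hF.refl_commute F.t_refl ha (pts_facts 0).2.2.1 (pts_facts 0).2.1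
  have tb := hF.refl_commute F.t_refl hb (pts_facts 1).2.2.1 (pts_facts 1).2.1
  have tc := hF.refl_commute F.t_refl hc (pts_facts 2).2.2.1 (pts_facts 2).2.1
  have ab := hF.refl_commute ha hb ((pts_facts 0).2.2.2 1 (by decide)) ((pts_facts 1).2.2.2 0 (by decide))
  have ac := hF.refl_commute ha hc ((pts_facts 0).2.2.2 2 (by decide)) ((pts_facts 2).2.2.2 0 (by decide))
  have bc := hF.refl_commute hb hc ((pts_facts 1).2.2.2 2 (by decide)) ((pts_facts 2).2.2.2 1 (by decide))
  refine ⟨F.t * (a * (b * c)), ?_, ?_, ?_⟩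
  · exact (F.t_refl.act.mul (ha.act.mul (hb.act.mul hc.act))).congr four_refl
  · have c1 : Commute F.t (a * (b * c)) := (show Commute F.t a from ta).mul_right
      ((show Commute F.t b from tb).mul_right (show Commute F.t c from tc))
    have c2 : Commute a (b * c) := (show Commute a b from ab).mul_right (show Commute a c from ac)
    rw [c1.symm.mul_mul_mul_comm, F.ht.sq, c2.symm.mul_mul_mul_comm, ha.sq,
      (show Commute b c from bc).symm.mul_mul_mul_comm, hb.sq, hc.sq]
    simp
  · have c1 : Commute F.t (a * (b * c)) := (show Commute F.t a from ta).mul_right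
      ((show Commute F.t b from tb).mul_right (show Commute F.t c from tc))
    exact ((Commute.refl F.t).mul_right c1).eq.symm

end Frame

end Loc

end Cfsg.Agent.Spor.OmegaEightThree
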