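import Cfsg.Agent.Lib.Spor.OmegaEightThree.Base

/-!
The eigenspaces of the central involution of `C/Q` on `Q/Z`, and the local data in which each has
order `9` and the `2`-elements centralise the fixed one.
-/

set_option autoImplicit false
set_option linter.unusedSectionVars false

namespace Cfsg.Agent.Spor.OmegaEightThree

local notation "SL2" => Matrix.SpecialLinearGroup (Fin 2) (ZMod 3)

namespace Pre

variable {G : Type*} [Group G] (T : Pre G)

theorem act_mul (g h : SL2) (v : T.V) : T.act (g * h) v = T.act g (T.act h v) := by rw [map_mul]; rfl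

theorem act_one (v : T.V) : T.act 1 v = v := by rw [map_one]; rfl

/-- The fixed points of the central involution. -/
def plus : Subgroup T.V where
  carrier := {v | T.act (-1) v = v}
  one_mem' := map_one _
  mul_mem' {a b} ha hb := by
    show T.act (-1) (a * b) = a * b
    rw [map_mul, ha, hb]
  inv_mem' {a} ha := by
    show T.act (-1) a⁻¹ = a⁻¹
    rw [map_inv, ha]

/-- The elements inverted by the central involution. -/
def minus : Subgroup T.V where
  carrier := {v | T.act (-1) v = v⁻¹}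
  one_mem' := by show T.act (-1) 1 = 1⁻¹; rw [map_one, inv_one]
  mul_mem' {a b} ha hb := by
    show T.act (-1) (a * b) = (a * b)⁻¹
    rw [map_mul, ha, hb, mul_inv]
  inv_mem' {a} ha := by
    show T.act (-1) a⁻¹ = a⁻¹⁻¹
    rw [map_inv, ha]

theorem mem_plus {v : T.V} : v ∈ T.plus ↔ T.act (-1) v = v := Iff.rfl

theorem mem_minus {v : T.V} : v ∈ T.minus ↔ T.act (-1) v = v⁻¹ := Iff.rfl

theorem act_neg_neg (v : T.V) : T.act (-1) (T.act (-1) v) = v := by
  rw [← T.act_mul, show (-1 : SL2) * -1 = 1 by decide +kernel, T.act_one]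

theorem act_plus (g : SL2) {v : T.V} (hv : v ∈ T.plus) : T.act g v ∈ T.plus := by
  rw [mem_plus, ← T.act_mul, show -1 * g = g * -1 from Subtype.ext (by simp), T.act_mul, hv]

theorem act_minus (g : SL2) {v : T.V} (hv : v ∈ T.minus) : T.act g v ∈ T.minus := by
  rw [mem_minus, ← T.act_mul, show -1 * g = g * -1 from Subtype.ext (by simp), T.act_mul, hv, map_inv]

theorem sq_inj {v : T.V} (h : v * v = 1) : v = 1 := by
  have := T.V_cube v
  rwa [pow_succ, pow_two, h, one_mul] at this

theorem inv_eq_self {v : T.V} (h : v⁻¹ = v) : v = 1 :=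
  T.sq_inj (by nth_rw 1 [← h]; exact inv_mul_cancel v)

theorem plus_minus {v : T.V} (hp : v ∈ T.plus) (hm : v ∈ T.minus) : v = 1 :=
  T.inv_eq_self (hm.symm.trans hp)

/-- The components. -/
noncomputable def splitEquiv : T.plus × T.minus ≃ T.V where
  toFun p := (p.1 : T.V) * p.2
  invFun v := (⟨(v * T.act (-1) v) ^ 2, by
      rw [mem_plus, map_pow, map_mul, T.act_neg_neg, mul_comm]⟩,
    ⟨(v * (T.act (-1) v)⁻¹) ^ 2, by
      rw [mem_minus, map_pow, map_mul, map_inv, T.act_neg_neg, ← inv_pow, mul_inv, inv_inv, mul_comm]⟩)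
  left_inv p := by
    obtain ⟨⟨a, ha⟩, ⟨b, hb⟩⟩ := p
    rw [mem_plus] at ha
    rw [mem_minus] at hb
    refine Prod.ext (Subtype.ext ?_) (Subtype.ext ?_)
    · show (a * b * T.act (-1) (a * b)) ^ 2 = a
      rw [map_mul, ha, hb, show a * b * (a * b⁻¹) = a * a * (b * b⁻¹) by ac_rfl, mul_inv_cancel, mul_one]
      calc (a * a) ^ 2 = a ^ 3 * a := by rw [pow_succ, pow_one, pow_succ, pow_two]; ac_rfl
        _ = a := by rw [T.V_cube, one_mul]
    · show (a * b * (T.act (-1) (a * b))⁻¹) ^ 2 = b
      rw [map_mul, ha, hb, mul_inv, inv_inv, show a * b * (a⁻¹ * b) = a * a⁻¹ * (b * b) by ac_rfl,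
        mul_inv_cancel, one_mul]
      calc (b * b) ^ 2 = b ^ 3 * b := by rw [pow_succ, pow_one, pow_succ, pow_two]; ac_rfl
        _ = b := by rw [T.V_cube, one_mul]
  right_inv v := by
    show (v * T.act (-1) v) ^ 2 * (v * (T.act (-1) v)⁻¹) ^ 2 = v
    rw [← mul_pow, show v * T.act (-1) v * (v * (T.act (-1) v)⁻¹) =
      v * v * (T.act (-1) v * (T.act (-1) v)⁻¹) by ac_rfl, mul_inv_cancel, mul_one]
    calc (v * v) ^ 2 = v ^ 3 * v := by rw [pow_succ, pow_one, pow_succ, pow_two]; ac_rfl
      _ = v := by rw [T.V_cube, one_mul]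

theorem card_split : Nat.card T.plus * Nat.card T.minus = 81 := by
  rw [← Nat.card_prod, Nat.card_congr T.splitEquiv, T.card_V]

end Pre

/-- The local data. -/
structure Loc (G : Type*) [Group G] extends Pre G where
  card_plus : Nat.card toPre.plus = 9
  card_minus : Nat.card toPre.minus = 9
  quat_plus : ∀ γ : SL2, γ ^ 8 = 1 → ∀ v ∈ toPre.plus, toPre.act γ v = v

end Cfsg.Agent.Spor.OmegaEightThree
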