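import Cfsg.Agent.Lib.Spor.OmegaEightThree.Init
import Cfsg.Agent.Lib.Spor.OmegaEightThree.Pair

/-!
A conjugate of `z` in `Q` outside `Z`, from the hypothesis on `Z`.
-/

set_option autoImplicit false
set_option linter.unusedSectionVars false

namespace Cfsg.Agent.Spor.OmegaEightThree

theorem Loc.exists_pair {G : Type*} [Group G] [Finite G] (T : Loc G) {Z Q : Subgroup G} (hTZ : T.toPre.Z = Z)
    (hTQ : T.Q = Q)
    (h : ∃ x : G, Z.map (MulAut.conj x).toMonoidHom ≤ Q ∧ Z.map (MulAut.conj x).toMonoidHom ≠ Z) :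
    ∃ g, T.IsPair g := by
  obtain ⟨x, h1, h2⟩ := h
  subst hTZ hTQ
  refine ⟨x, h1 ⟨T.z, T.z_mem, rfl⟩, fun hz => h2 ?_⟩
  refine Subgroup.eq_of_le_of_card_ge ?_ ?_
  · rintro _ ⟨y, hy, rfl⟩
    obtain ⟨i, rfl⟩ := Subgroup.mem_zpowers_iff.1 hy
    show x * T.z ^ i * x⁻¹ ∈ _
    rw [← conj_zpow]
    exact zpow_mem hz i
  · rw [Subgroup.card_map_of_injective (MulAut.conj x).injective]

end Cfsg.Agent.Spor.OmegaEightThree
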