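import Cfsg.Agent.Lib.Spor.OmegaEightThree.NormalFacts
import Cfsg.Agent.Lib.Spor.OmegaEightThree.Into

/-!
The normaliser of `E` in coordinates: the two translations of `Q`, and `C_G(E) = E`.
-/

set_option autoImplicit false
set_option linter.unusedSectionVars false
set_option maxHeartbeats 1000000

namespace Cfsg.Agent.Spor.OmegaEightThree

open Cfsg.Agent.Spor.PSLFourThree (com)

namespace Loc

variable {G : Type*} [Group G] [Finite G] {T : Loc G}

namespace Frame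

variable (F : Frame T)

/-- `k` acts on `E` by `φ`. -/
def Act (k : G) (φ : Four → Four) : Prop := ∀ v, k * F.el v * k⁻¹ = F.el (φ v)

variable {F}

theorem Act.mem {k : G} {φ : Four → Four} (h : F.Act k φ) : k ∈ Subgroup.normalizer (F.E : Set G) := by
  refine Subgroup.mem_normalizer_fintype fun a ha => ?_
  obtain ⟨v, rfl⟩ := F.mem_E_iff.1 ha
  rw [h v]
  exact F.el_mem _

theorem Act.mul {k k' : G} {φ ψ : Four → Four} (h : F.Act k φ) (h' : F.Act k' ψ) : F.Act (k * k') (φ ∘ ψ) := by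
  intro v
  rw [Function.comp_apply, ← h, ← h']
  group

theorem Act.one : F.Act 1 id := fun v => by simp

theorem Act.congr {k : G} {φ ψ : Four → Four} (h : F.Act k φ) (e : ∀ v, φ v = ψ v) : F.Act k ψ := fun v => by
  rw [h v, e]

theorem Act.inv {k : G} {φ ψ : Four → Four} (h : F.Act k φ) (e : ∀ v, φ (ψ v) = v) : F.Act k⁻¹ ψ := by
  intro v
  conv_lhs => rw [← e v, ← h]
  group

theorem Act.apply_eq {k : G} {φ : Four → Four} (h : F.Act k φ) {v w : Four} (e : k * F.el v * k⁻¹ = F.el w) :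
    φ v = w :=
  F.el_inj ((h v).symm.trans e)

theorem Act.add {k : G} {φ : Four → Four} (h : F.Act k φ) (v w : Four) : φ (v + w) = φ v + φ w := by
  refine F.el_inj ?_
  rw [← h, F.el_mul, F.el_mul, ← h v, ← h w, conj_mul]

theorem Act.zero {k : G} {φ : Four → Four} (h : F.Act k φ) : φ 0 = 0 :=
  h.apply_eq (by simp [F.el_zero])

theorem Act.smul {k : G} {φ : Four → Four} (h : F.Act k φ) (a : ZMod 3) (v : Four) : φ (a • v) = a • φ v :=
  h.apply_eq (by rw [F.el_smul, F.el_smul, ← conj_pow, h])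

theorem Act.neg {k : G} {φ : Four → Four} (h : F.Act k φ) (v : Four) : φ (-v) = -φ v :=
  h.apply_eq (by rw [F.el_neg, F.el_neg, ← conj_inv, h])

theorem Act.injective {k : G} {φ : Four → Four} (h : F.Act k φ) : Function.Injective φ := fun v w e => by
  refine F.el_inj ?_
  have h1 := (h v).trans ((congrArg F.el e).trans (h w).symm)
  simpa using h1

theorem Act.isZ {k : G} {φ : Four → Four} (h : F.Act k φ) (v : Four) : T.IsZ (F.el (φ v)) ↔ T.IsZ (F.el v) := by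
  rw [← h]
  refine ⟨fun hz => ?_, fun hz => hz.conj k⟩
  have := hz.conj k⁻¹
  rwa [inv_inv, show k⁻¹ * (k * F.el v * k⁻¹) * k = F.el v by group] at this

theorem Act.linear {k : G} {φ : Four → Four} (h : F.Act k φ) (v : Four) :
    φ v = v 0 • φ ![1, 0, 0, 0] + v 1 • φ ![0, 1, 0, 0] + v 2 • φ ![0, 0, 1, 0] + v 3 • φ ![0, 0, 0, 1] := by
  conv_lhs => rw [four_split v]
  rw [h.add, h.add, h.add, h.smul, h.smul, h.smul, h.smul]

variable (F)

theorem exists_act {k : G} (hk : k ∈ Subgroup.normalizer (F.E : Set G)) : ∃ φ, F.Act k φ := by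
  have h : ∀ v, ∃ w, F.el w = k * F.el v * k⁻¹ := fun v =>
    F.mem_E_iff.1 ((Subgroup.mem_normalizer_iff.1 hk _).1 (F.el_mem v))
  choose φ hφ using h
  exact ⟨φ, fun v => (hφ v).symm⟩

theorem act_t : F.Act F.t fun v => ![v 0, -v 1, v 2, v 3] := F.conj_t

variable {F} (hF : F.Classified)
include hF

/-- The translation from `q₁`. -/
theorem Classified.exists_U : ∃ q ∈ T.Q, F.Act q mU := by
  obtain ⟨q, hq, β, hβ, h⟩ := F.exists_q1
  have hA : F.Act q fun v => ![v 0 + v 1 - β * v 3, v 1 + β * v 3, v 2, v 3] := h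
  have hz := (hA.isZ ![0, 0, 0, 1]).2 ((hF.iff_qf _).2 (by decide))
  have h1 := ((hF.iff_qf _).1 hz).2
  simp [qf] at h1
  obtain rfl := u_beta β hβ h1
  exact ⟨q, hq, hA.congr fun v => by simp [mU]⟩

/-- The translation from `q₀`. -/
theorem Classified.exists_V : ∃ q ∈ T.Q, F.t * q = q * F.t ∧ F.Act q mV := by
  obtain ⟨q, hq, hqt, l, γ, hγ, h⟩ := F.exists_q0
  have hA : F.Act q fun v => ![v 0 + v 2 + l * v 3, v 1, v 2 + γ * v 3, v 3] := h
  have hz := (hA.isZ ![0, 0, 0, 1]).2 ((hF.iff_qf _).2 (by decide))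
  have h1 := ((hF.iff_qf _).1 hz).2
  simp [qf] at h1
  have hz' := (hA.isZ ![0, 1, 1, 1]).2 ((hF.iff_qf _).2 (by decide))
  have h2 := ((hF.iff_qf _).1 hz').2
  simp [qf] at h2
  obtain ⟨rfl, rfl⟩ := v_lam l γ hγ h1 h2
  exact ⟨q, hq, hqt, hA.congr fun v => by simp [mV, sub_eq_add_neg]⟩

omit hF

theorem mem_E_of_conj {c q : G} (hc : ∀ v, c * F.el v = F.el v * c) (hq : q ∈ T.Q) {φ : Four → Four}
    (hφ : F.Act q φ) : q⁻¹ * (c * q * c⁻¹) ∈ F.E := by
  have hcC : c ∈ T.C := T.mem_C.2 (by have := hc ![1, 0, 0, 0]; rwa [F.el_z] at this)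
  have hcfix : ∀ v, c⁻¹ * F.el v * c = F.el v := fun v => by rw [mul_assoc, ← hc, inv_mul_cancel_left]
  have hcomm : ∀ v, q⁻¹ * (c * q * c⁻¹) * F.el v = F.el v * (q⁻¹ * (c * q * c⁻¹)) := by
    intro v
    have h1 : c * q * c⁻¹ * F.el v * (c * q * c⁻¹)⁻¹ = F.el (φ v) := by
      rw [show c * q * c⁻¹ * F.el v * (c * q * c⁻¹)⁻¹ = c * (q * (c⁻¹ * F.el v * c) * q⁻¹) * c⁻¹ by group,
        hcfix, hφ, hc, mul_inv_cancel_right]
    refine mul_inv_eq_iff_eq_mul.1 ?_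
    rw [show q⁻¹ * (c * q * c⁻¹) * F.el v * (q⁻¹ * (c * q * c⁻¹))⁻¹ =
      q⁻¹ * (c * q * c⁻¹ * F.el v * (c * q * c⁻¹)⁻¹) * q by group, h1, ← hφ]
    group
  refine F.mem_E_of_Q (mul_mem (inv_mem hq) (T.conj_Q hcC hq)) ?_ ?_
  · rw [← F.el_n]; exact hcomm _
  · rw [← F.el_r]; exact hcomm _

/-- `Q` is generated by the two translations and `E ∩ Q`. -/
theorem Q_gen {q₁ q₀ : G} (h₁ : q₁ ∈ T.Q) (hU : F.Act q₁ mU) (h₀ : q₀ ∈ T.Q) (hV : F.Act q₀ mV) {a : G}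
    (ha : a ∈ T.Q) : ∃ i j : ℕ, ∃ e ∈ F.E, a = q₁ ^ i * q₀ ^ j * e := by
  have hpow : ∀ {k : G} {φ : Four → Four}, F.Act k φ → ∀ j : ℕ, F.Act (k ^ j) φ^[j] := by
    intro k φ h j
    induction j with
    | zero => rw [pow_zero]; exact Act.one
    | succ j ih => rw [pow_succ, Function.iterate_succ]; exact ih.mul h
  have hU' : ∀ i : ℕ, mU^[i] (![0, 1, 0, 0] : Four) = ![(i : ZMod 3), 1, 0, 0] ∧
      mU^[i] (![1, 0, 0, 0] : Four) = ![1, 0, 0, 0] ∧ mU^[i] (![0, 0, 1, 0] : Four) = ![0, 0, 1, 0] := by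
    intro i
    induction i with
    | zero => simp
    | succ i ih =>
      rw [Function.iterate_succ_apply', Function.iterate_succ_apply', Function.iterate_succ_apply', ih.1, ih.2.1,
        ih.2.2]
      refine ⟨?_, ?_, ?_⟩ <;> funext k <;> fin_cases k <;> simp [mU]
  have hV' : ∀ i : ℕ, mV^[i] (![0, 0, 1, 0] : Four) = ![(i : ZMod 3), 0, 1, 0] ∧
      mV^[i] (![1, 0, 0, 0] : Four) = ![1, 0, 0, 0] ∧ mV^[i] (![0, 1, 0, 0] : Four) = ![0, 1, 0, 0] := by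
    intro i
    induction i with
    | zero => simp
    | succ i ih =>
      rw [Function.iterate_succ_apply', Function.iterate_succ_apply', Function.iterate_succ_apply', ih.1, ih.2.1,
        ih.2.2]
      refine ⟨?_, ?_, ?_⟩ <;> funext k <;> fin_cases k <;> simp [mV]
  have hcom : ∀ w, w ∈ T.Q → ∀ v : Four, (v = ![0, 1, 0, 0] ∨ v = ![0, 0, 1, 0]) →
      ∃ i : ℕ, w * F.el v * w⁻¹ = F.el (![(i : ZMod 3), 0, 0, 0] + v) := by
    intro w hw v hv
    have hvQ : F.el v ∈ T.Q := F.el_mem_Q (by rcases hv with rfl | rfl <;> rfl)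
    obtain ⟨i, hi⟩ := mem_powers_iff_mem_zpowers.2 (T.com_mem' hw hvQ)
    refine ⟨i, ?_⟩
    have hzi : F.el ![(i : ZMod 3), 0, 0, 0] = T.z ^ i := by
      rw [show (![(i : ZMod 3), 0, 0, 0] : Four) = (i : ZMod 3) • ![1, 0, 0, 0] from by
        funext k; fin_cases k <;> simp, F.el_smul, F.el_z, ZMod.val_natCast]
      exact (pow_eq_pow_mod i T.z_cube).symm
    rw [F.el_mul, hzi, show T.z ^ i = com w (F.el v) from hi]
    simp [com]
  obtain ⟨i, hi⟩ := hcom a ha _ (Or.inl rfl)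
  obtain ⟨j, hj⟩ := hcom a ha _ (Or.inr rfl)
  have hA := (hpow hU i).mul (hpow hV j)
  refine ⟨i, j, (q₁ ^ i * q₀ ^ j)⁻¹ * a, ?_, (mul_inv_cancel_left _ _).symm⟩
  have hw : (q₁ ^ i * q₀ ^ j)⁻¹ * a ∈ T.Q := mul_mem (inv_mem (mul_mem (pow_mem h₁ _) (pow_mem h₀ _))) ha
  have key : ∀ v : Four, a * F.el v * a⁻¹ = F.el ((mU^[i] ∘ mV^[j]) v) →
      (q₁ ^ i * q₀ ^ j)⁻¹ * a * F.el v = F.el v * ((q₁ ^ i * q₀ ^ j)⁻¹ * a) := by
    intro v hv
    refine mul_inv_eq_iff_eq_mul.1 ?_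
    rw [show (q₁ ^ i * q₀ ^ j)⁻¹ * a * F.el v * ((q₁ ^ i * q₀ ^ j)⁻¹ * a)⁻¹ =
      (q₁ ^ i * q₀ ^ j)⁻¹ * (a * F.el v * a⁻¹) * (q₁ ^ i * q₀ ^ j) by group, hv, ← hA]
    group
  refine F.mem_E_of_Q hw ?_ ?_
  · rw [← F.el_n]
    refine key _ ?_
    rw [hi, Function.comp_apply, (hV' j).2.2, (hU' i).1]
    congr 1
    funext k
    fin_cases k <;> simp
  · rw [← F.el_r]
    refine key _ ?_
    rw [hj, Function.comp_apply, (hV' j).1,
      show (![(j : ZMod 3), 0, 1, 0] : Four) = (j : ZMod 3) • ![1, 0, 0, 0] + ![0, 0, 1, 0] from by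
        funext k; fin_cases k <;> simp,
      (hpow hU i).add, (hpow hU i).smul, (hU' i).2.1, (hU' i).2.2]
    congr 1
    funext k
    fin_cases k <;> simp

include hF

/-- `C_G(E) = E`. -/
theorem Classified.cent_E {c : G} (hc : ∀ v, c * F.el v = F.el v * c) : c ∈ F.E := by
  obtain ⟨q₁, h₁, hU⟩ := hF.exists_U
  obtain ⟨q₀, h₀, -, hV⟩ := hF.exists_V
  have hcC : c ∈ T.C := T.mem_C.2 (by have := hc ![1, 0, 0, 0]; rwa [F.el_z] at this)
  have hce : ∀ e ∈ F.E, c * e = e * c := fun e he => by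
    obtain ⟨v, rfl⟩ := F.mem_E_iff.1 he
    exact hc v
  have hfix : ∀ {q : G} {φ : Four → Four}, q ∈ T.Q → F.Act q φ → c ^ 3 * q = q * c ^ 3 := by
    intro q φ hq hφ
    set e := q⁻¹ * (c * q * c⁻¹) with he
    have heE : e ∈ F.E := mem_E_of_conj hc hq hφ
    have h1 : c * q * c⁻¹ = q * e := by rw [he, mul_inv_cancel_left]
    have hcom : c * e * c⁻¹ = e := by rw [hce e heE, mul_inv_cancel_right]
    have he3 : e * e * e = 1 := by
      obtain ⟨v, hv⟩ := F.mem_E_iff.1 heE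
      rw [← hv, ← pow_two, ← pow_succ, F.el_cube]
    refine mul_inv_eq_iff_eq_mul.1 ?_
    have h2 : c * (q * e) * c⁻¹ = q * (e * e) := by
      rw [conj_mul.symm, h1, hcom, mul_assoc]
    calc c ^ 3 * q * (c ^ 3)⁻¹ = c * (c * (c * q * c⁻¹) * c⁻¹) * c⁻¹ := by
          rw [pow_succ, pow_two]; group
      _ = c * (q * (e * e)) * c⁻¹ := by rw [h1, h2]
      _ = c * q * c⁻¹ * (c * e * c⁻¹ * (c * e * c⁻¹)) := by group
      _ = q := by rw [hcom, h1, mul_assoc q, ← mul_assoc e e e, he3, mul_one]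
  have h3Q : c ^ 3 ∈ T.Q := by
    refine T.self (Subgroup.mem_centralizer_iff.2 fun a ha => ?_)
    obtain ⟨i, j, e, he, rfl⟩ := Q_gen h₁ hU h₀ hV ha
    have c1 : Commute (c ^ 3) q₁ := hfix h₁ hU
    have c0 : Commute (c ^ 3) q₀ := hfix h₀ hV
    have ce : Commute (c ^ 3) e := (show Commute c e from hce e he).pow_left 3
    exact (((c1.pow_right i).mul_right (c0.pow_right j)).mul_right ce).eq.symm
  have hη : T.η ⟨c, hcC⟩ = 1 := T.η_cube (n := 2) (Subtype.ext (by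
    show c ^ (3 ^ 2) = 1
    rw [show 3 ^ 2 = 3 * 3 from rfl, pow_mul]
    exact T.exp _ h3Q))
  refine F.mem_E_of_C (c := ⟨c, hcC⟩) hη ?_ ?_
  · rw [← F.el_n]; exact hc _
  · rw [← F.el_r]; exact hc _

end Frame

end Loc

end Cfsg.Agent.Spor.OmegaEightThree
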