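import Cfsg.Agent.Lib.Spor.OmegaEightThree.ECoord

/-!
The action of `Q` on `E` in coordinates, and the uniqueness of the conjugate of `z^{±1}` in a coset
`f ⟨z⟩`.
-/

set_option autoImplicit false
set_option linter.unusedSectionVars false
set_option maxHeartbeats 1600000

namespace Cfsg.Agent.Spor.OmegaEightThree

open Cfsg.Agent.Spor.PSLFourThree (com)

local notation "SL2" => Matrix.SpecialLinearGroup (Fin 2) (ZMod 3)

theorem four_eq {a b c d a' b' c' d' : ZMod 3} (h : (![a, b, c, d] : Four) = ![a', b', c', d']) :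
    a = a' ∧ b = b' ∧ c = c' ∧ d = d' :=
  ⟨by simpa using congrFun h 0, by simpa using congrFun h 1, by simpa using congrFun h 2,
    by simpa using congrFun h 3⟩

theorem four_eta (v : Four) : v = ![v 0, v 1, v 2, v 3] := by funext i; fin_cases i <;> rfl

namespace Loc

variable {G : Type*} [Group G] [Finite G] {T : Loc G}

/-- An element of `Q` inverted by `t` moving a given inverted element by `z`. -/
theorem exists_minus_com {t : G} (ht : T.toPre.IsT t) {n : G} (hn : n ∈ T.Q) (hnZ : n ∉ T.toPre.Z)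
    (hn1 : t * n * t⁻¹ * n ∈ T.toPre.Z) :
    ∃ q ∈ T.Q, t * q * t⁻¹ = q⁻¹ ∧ com q n = T.z := by
  obtain ⟨p, hp, hpn⟩ : ∃ p ∈ T.Q, com p n ≠ 1 := by
    by_contra h
    push Not at h
    exact hnZ (T.center n hn fun b hb => (Pre.com_eq_one_iff.1 (h b hb)).symm)
  obtain ⟨a1, a0, ha1, ha0, hp', ha0c, ha1m⟩ := ht.decomp hp
  set k := t * a1 * t⁻¹ * a1 with hk
  have hq : t * (a1 * k) * t⁻¹ = (a1 * k)⁻¹ := by
    rw [show t * (a1 * k) * t⁻¹ = t * a1 * t⁻¹ * (t * k * t⁻¹) by group, T.conj_Z ht.mem ha1m,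
      show t * a1 * t⁻¹ = k * a1⁻¹ by rw [hk]; group, mul_assoc, T.Z_central (T.Q_le_C (inv_mem ha1)) ha1m,
      ← mul_assoc, ← T.inv_eq_sq (T.Z_le ha1m)]
    group
  have hcom : com (a1 * k) n ≠ 1 := by
    rw [T.com_mul_left ha1 (T.Z_le ha1m) hn, show com k n = 1 by
      rw [Pre.com_inv, T.com_Z_right hn ha1m, inv_one], mul_one]
    intro h
    refine hpn ?_
    rw [hp', T.com_mul_left ha1 ha0 hn, h, one_mul, Pre.com_inv, ht.com_parts hn ha0 hn1 ha0c, inv_one]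
  have hqQ : a1 * k ∈ T.Q := mul_mem ha1 (T.Z_le ha1m)
  rcases T.z_pow_cases (T.com_mem' hqQ hn) with e | e | e
  · exact absurd e hcom
  · exact ⟨_, hqQ, hq, e⟩
  · refine ⟨(a1 * k)⁻¹, inv_mem hqQ, by rw [← conj_inv, hq], ?_⟩
    have h1 := T.com_mul_left hqQ (inv_mem hqQ) hn
    rw [mul_inv_cancel, e, show com 1 n = 1 by simp [com]] at h1
    exact inv_mul_eq_one.1 h1.symm |>.symm

/-- An element of `Q` centralised by `t` moving a given centralised element by `z`. -/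
theorem exists_plus_com {t : G} (ht : T.toPre.IsT t) {r : G} (hr : r ∈ T.Q) (hrZ : r ∉ T.toPre.Z)
    (hr0 : t * r = r * t) : ∃ q ∈ T.Q, t * q = q * t ∧ com q r = T.z := by
  obtain ⟨p, hp, hpr⟩ : ∃ p ∈ T.Q, com p r ≠ 1 := by
    by_contra h
    push Not at h
    exact hrZ (T.center r hr fun b hb => (Pre.com_eq_one_iff.1 (h b hb)).symm)
  obtain ⟨a1, a0, ha1, ha0, hp', ha0c, ha1m⟩ := ht.decomp hp
  have hcom : com a0 r ≠ 1 := by
    intro h
    refine hpr ?_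
    rw [hp', T.com_mul_left ha1 ha0 hr, h, mul_one, ht.com_parts ha1 hr ha1m hr0]
  rcases T.z_pow_cases (T.com_mem' ha0 hr) with e | e | e
  · exact absurd e hcom
  · exact ⟨_, ha0, ha0c, e⟩
  · refine ⟨a0⁻¹, inv_mem ha0, (show Commute t a0 from ha0c).inv_right, ?_⟩
    have h1 := T.com_mul_left ha0 (inv_mem ha0) hr
    rw [mul_inv_cancel, e, show com 1 r = 1 by simp [com]] at h1
    exact inv_mul_eq_one.1 h1.symm |>.symm

namespace Frame

variable (F : Frame T)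

theorem el_smul (a : ZMod 3) (v : Four) : F.el (a • v) = F.el v ^ a.val := by
  rcases zmod3_cases a with e | e | e <;> rw [e]
  · rw [zero_smul, F.el_zero, ZMod.val_zero, pow_zero]
  · rw [one_smul, ZMod.val_one, pow_one]
  · rw [neg_smul, one_smul, F.el_neg, show (-1 : ZMod 3).val = 2 from rfl, pow_two]
    exact inv_eq_of_mul_eq_one_right (by rw [← mul_assoc, ← pow_two, ← pow_succ]; exact F.el_cube v)

theorem conj_el {k : G} {a b c d : Four} (hz : k * T.z * k⁻¹ = F.el a) (hn : k * F.n * k⁻¹ = F.el b)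
    (hr : k * F.r * k⁻¹ = F.el c) (hf : k * F.f * k⁻¹ = F.el d) (v : Four) :
    k * F.el v * k⁻¹ = F.el (v 0 • a + v 1 • b + v 2 • c + v 3 • d) := by
  rw [F.el_mul, F.el_mul, F.el_mul, F.el_smul, F.el_smul, F.el_smul, F.el_smul, ← hz, ← hn, ← hr, ← hf,
    conj_pow, conj_pow, conj_pow, conj_pow]
  simp only [el]
  group

theorem Q_conj_E {q : G} (hq : q ∈ T.Q) : q * F.f * q⁻¹ ∈ F.E := by
  let c : T.C := ⟨q * F.f * q⁻¹, mul_mem (mul_mem (T.Q_le_C hq) F.f_C) (inv_mem (T.Q_le_C hq))⟩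
  have key : ∀ x, x ∈ T.Q → F.f * x = x * F.f → Commute (c : G) x := by
    intro x hx hfx
    have hk := T.com_mem' hq hx
    have e : q * x * q⁻¹ = com q x * x := by simp [com]
    have h1 : Commute (c : G) (com q x * x) := by
      rw [← e]
      exact ((show Commute F.f x from hfx).map (MulAut.conj q).toMonoidHom)
    have h2 : Commute (c : G) (com q x) := T.Z_central c.2 hk
    have h3 := h2.inv_right.mul_right h1
    rwa [inv_mul_cancel_left] at h3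
  refine F.mem_E_of_C (c := c) (T.η_cube (n := 1) (Subtype.ext ?_)) (key F.n F.n_mem F.f_n).eq
    (key F.r F.r_mem F.f_r).eq
  rw [pow_one, Subgroup.coe_pow]
  show (q * F.f * q⁻¹) ^ 3 = 1
  rw [conj_pow, F.f_cube, mul_one, mul_inv_cancel]

theorem conj_f_coord {q : G} (hq : q ∈ T.Q) : ∃ a b c, q * F.f * q⁻¹ = F.el ![a, b, c, 1] ∧
    T.bar ⟨q, hq⟩ * (T.act (T.ρ ⟨F.f, F.f_C⟩) (T.bar ⟨q, hq⟩))⁻¹ =
      T.bar ⟨F.n, F.n_mem⟩ ^ b.val * T.bar ⟨F.r, F.r_mem⟩ ^ c.val := by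
  obtain ⟨v, hv⟩ := F.mem_E_iff.1 (F.Q_conj_E hq)
  have hd : F.el (v + ![0, 0, 0, -1]) = q * (F.f * q⁻¹ * F.f⁻¹) := by
    rw [F.el_mul, hv, show (![0, 0, 0, -1] : Four) = -![0, 0, 0, 1] from by funext i; fin_cases i <;> simp,
      F.el_neg, F.el_f]
    group
  have hmem : F.el (v + ![0, 0, 0, -1]) ∈ T.Q := hd ▸ mul_mem hq (T.conj_Q F.f_C (inv_mem hq))
  have h3 : v 3 = 1 := by
    have := F.el_mem_Q_iff.1 hmem
    simp at this
    exact eq_of_sub_eq_zero (by rw [sub_eq_add_neg]; exact this)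
  refine ⟨v 0, v 1, v 2, ?_, ?_⟩
  · rw [← hv, four_eta v, h3]; rfl
  · have hb := F.bar_el (v := v + ![0, 0, 0, -1]) (by simp [h3])
    rw [show (v + (![0, 0, 0, -1] : Four)) 1 = v 1 by simp, show (v + (![0, 0, 0, -1] : Four)) 2 = v 2 by simp] at hb
    rw [← hb, T.act_bar (T.η_cube (n := 1) (Subtype.ext (by simpa using F.f_cube))), ← Pre.bar_inv,
      ← Pre.bar_mul]
    refine congrArg T.bar (Subtype.ext ?_)
    show q * (F.f * q * F.f⁻¹)⁻¹ = F.el (v + ![0, 0, 0, -1])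
    rw [hd]; group

theorem coord_move {q : G} (hq : q ∈ T.Q) {b c : ZMod 3}
    (h : T.bar ⟨q, hq⟩ * (T.act (T.ρ ⟨F.f, F.f_C⟩) (T.bar ⟨q, hq⟩))⁻¹ =
      T.bar ⟨F.n, F.n_mem⟩ ^ b.val * T.bar ⟨F.r, F.r_mem⟩ ^ c.val) (hbc : b = 0 ∧ c = 0) :
    com q F.n = 1 ∧ com q F.r = 1 := by
  rw [hbc.1, hbc.2, ZMod.val_zero, pow_zero, pow_zero, mul_one, mul_inv_eq_one] at h
  have hf3 : (⟨F.f, F.f_C⟩ : T.C) ^ 3 = 1 := Subtype.ext F.f_cube
  have := fixed_plane F.ht F.hg F.comps.hn F.comps.hr F.comps.he F.comps.hn1 F.comps.cent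
    (γ := T.ρ ⟨F.f, F.f_C⟩) (by rw [← map_pow, hf3, map_one]) F.ρ_f_ne F.act_f_n (v := T.bar ⟨q, hq⟩) h.symm
  obtain ⟨_, ⟨i, rfl⟩, _, ⟨j, rfl⟩, hij⟩ := Subgroup.mem_sup.1 this
  have hw := T.bar_eq.1 (show T.bar ((⟨F.r, F.r_mem⟩ : T.Q) ^ i * ⟨F.n, F.n_mem⟩ ^ j) = T.bar ⟨q, hq⟩ from hij)
  set k := ((⟨F.r, F.r_mem⟩ : T.Q) ^ i * ⟨F.n, F.n_mem⟩ ^ j : T.Q) with hk
  rw [show q = (k : G) * ((k : G)⁻¹ * q) by group, T.com_mul_left k.2 (T.Z_le hw) F.n_mem,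
    T.com_mul_left k.2 (T.Z_le hw) F.r_mem, show com ((k : G)⁻¹ * q) F.n = 1 by
      rw [Pre.com_inv, T.com_Z_right F.n_mem hw, inv_one],
    show com ((k : G)⁻¹ * q) F.r = 1 by rw [Pre.com_inv, T.com_Z_right F.r_mem hw, inv_one],
    mul_one, mul_one, Pre.com_eq_one_iff, Pre.com_eq_one_iff]
  simp only [hk, Subgroup.coe_mul, Subgroup.coe_zpow]
  have crn : Commute F.r F.n := F.n_r.symm
  exact ⟨(crn.zpow_left i).mul_left ((Commute.refl F.n).zpow_left j),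
    ((Commute.refl F.r).zpow_left i).mul_left ((crn.symm).zpow_left j)⟩

theorem t_n : F.t * F.n * F.t⁻¹ = F.el ![0, -1, 0, 0] := by
  rw [F.comps.inv, show (![0, -1, 0, 0] : Four) = -![0, 1, 0, 0] from by funext i; fin_cases i <;> simp,
    F.el_neg, F.el_n]

theorem conj_t (v : Four) : F.t * F.el v * F.t⁻¹ = F.el ![v 0, -v 1, v 2, v 3] := by
  rw [F.conj_el (a := ![1, 0, 0, 0]) (c := ![0, 0, 1, 0]) (d := ![0, 0, 0, 1])
    (by rw [F.t_z, mul_inv_cancel_right, F.el_z]) F.t_n (by rw [F.comps.cent, mul_inv_cancel_right, F.el_r])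
    (by rw [F.f_t, mul_inv_cancel_right, F.el_f]) v]
  congr 1
  funext i
  fin_cases i <;> simp

/-- The translation inverted by `t`. -/
theorem exists_q1 : ∃ q ∈ T.Q, ∃ β : ZMod 3, β ≠ 0 ∧
    ∀ v : Four, q * F.el v * q⁻¹ = F.el ![v 0 + v 1 - β * v 3, v 1 + β * v 3, v 2, v 3] := by
  obtain ⟨q, hq, hqt, hqn⟩ := exists_minus_com F.ht F.n_mem F.n_notZ F.comps.hn1
  obtain ⟨α, β, γ, hf, hb⟩ := F.conj_f_coord hq
  have hqr : com q F.r = 1 := F.ht.com_parts hq F.r_mem (by rw [hqt, inv_mul_cancel]; exact one_mem _) F.comps.cent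
  have hnm : T.bar ⟨F.n, F.n_mem⟩ ∈ T.minus := (F.ht.minus_iff F.n_mem).2 F.comps.hn1
  have hrp : T.bar ⟨F.r, F.r_mem⟩ ∈ T.plus := (F.ht.plus_iff F.r_mem).2 F.comps.cent
  have hqm : T.bar ⟨q, hq⟩ ∈ T.minus := (F.ht.minus_iff hq).2 (by rw [hqt, inv_mul_cancel]; exact one_mem _)
  have hγ : γ = 0 := by
    have h : T.bar ⟨F.r, F.r_mem⟩ ^ γ.val = 1 := by
      refine T.plus_minus (pow_mem hrp _) ?_
      rw [show T.bar ⟨F.r, F.r_mem⟩ ^ γ.val = (T.bar ⟨F.n, F.n_mem⟩ ^ β.val)⁻¹ *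
        (T.bar ⟨q, hq⟩ * (T.act (T.ρ ⟨F.f, F.f_C⟩) (T.bar ⟨q, hq⟩))⁻¹) by rw [hb]; group]
      exact mul_mem (inv_mem (pow_mem hnm _)) (mul_mem hqm (inv_mem (T.act_minus _ hqm)))
    rcases zmod3_cases γ with e | e | e
    · exact e
    · rw [e, ZMod.val_one, pow_one] at h; exact absurd (T.bar_eq_one.1 h) F.r_notZ
    · rw [e, show (-1 : ZMod 3).val = 2 from rfl, pow_two] at h
      exact absurd (T.bar_eq_one.1 (T.sq_inj h)) F.r_notZ
  subst hγ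
  have hβ : β ≠ 0 := fun h => by
    have h1 := (F.coord_move hq hb ⟨h, rfl⟩).1
    rw [hqn] at h1
    exact T.z_ne h1
  have hz : q * T.z * q⁻¹ = F.el ![1, 0, 0, 0] := by rw [F.el_z, T.conj_Z (T.Q_le_C hq) T.z_mem]
  have hn : q * F.n * q⁻¹ = F.el ![1, 1, 0, 0] := by
    rw [show q * F.n * q⁻¹ = com q F.n * F.n by simp [com], hqn,
      show (![1, 1, 0, 0] : Four) = ![1, 0, 0, 0] + ![0, 1, 0, 0] from by funext i; fin_cases i <;> simp,
      F.el_mul, F.el_z, F.el_n]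
  have hr : q * F.r * q⁻¹ = F.el ![0, 0, 1, 0] := by
    rw [Pre.com_eq_one_iff.1 hqr, mul_inv_cancel_right, F.el_r]
  have key := F.conj_el hz hn hr hf
  have hα : α = -β := by
    have e : F.t * (q * (F.t * (q * F.f * q⁻¹) * F.t⁻¹) * q⁻¹) * F.t⁻¹ = F.f := by
      have hti := F.ht.inv_eq
      calc F.t * (q * (F.t * (q * F.f * q⁻¹) * F.t⁻¹) * q⁻¹) * F.t⁻¹
          = (F.t * q * F.t⁻¹) * (F.t * F.t * (q * F.f * q⁻¹) * (F.t * F.t)⁻¹) * (F.t * q * F.t⁻¹)⁻¹ := by group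
        _ = F.f := by rw [hqt, F.ht.sq]; group
    rw [hf, F.conj_t, key, F.conj_t, ← F.el_f] at e
    have := congrFun (F.el_inj e) 0
    simp at this
    exact (show ∀ a b : ZMod 3, a + -b + a = 0 → a = -b by decide) _ _ this
  refine ⟨q, hq, β, hβ, fun v => ?_⟩
  rw [key, hα]
  congr 1
  funext i
  fin_cases i <;> simp <;> ring

/-- The translation centralised by `t`. -/
theorem exists_q0 : ∃ q ∈ T.Q, F.t * q = q * F.t ∧ ∃ l γ : ZMod 3, γ ≠ 0 ∧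
    ∀ v : Four, q * F.el v * q⁻¹ = F.el ![v 0 + v 2 + l * v 3, v 1, v 2 + γ * v 3, v 3] := by
  obtain ⟨q, hq, hqt, hqr⟩ := exists_plus_com F.ht F.r_mem F.r_notZ F.comps.cent
  obtain ⟨l, β, γ, hf, hb⟩ := F.conj_f_coord hq
  have hqn : com q F.n = 1 := by
    rw [Pre.com_inv, F.ht.com_parts F.n_mem hq F.comps.hn1 hqt, inv_one]
  have hnm : T.bar ⟨F.n, F.n_mem⟩ ∈ T.minus := (F.ht.minus_iff F.n_mem).2 F.comps.hn1
  have hrp : T.bar ⟨F.r, F.r_mem⟩ ∈ T.plus := (F.ht.plus_iff F.r_mem).2 F.comps.cent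
  have hqp : T.bar ⟨q, hq⟩ ∈ T.plus := (F.ht.plus_iff hq).2 hqt
  have hβ : β = 0 := by
    have h : T.bar ⟨F.n, F.n_mem⟩ ^ β.val = 1 := by
      refine T.plus_minus ?_ (pow_mem hnm _)
      rw [show T.bar ⟨F.n, F.n_mem⟩ ^ β.val = (T.bar ⟨q, hq⟩ * (T.act (T.ρ ⟨F.f, F.f_C⟩) (T.bar ⟨q, hq⟩))⁻¹) *
        (T.bar ⟨F.r, F.r_mem⟩ ^ γ.val)⁻¹ by rw [hb]; group]
      exact mul_mem (mul_mem hqp (inv_mem (T.act_plus _ hqp))) (inv_mem (pow_mem hrp _))
    rcases zmod3_cases β with e | e | e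
    · exact e
    · rw [e, ZMod.val_one, pow_one] at h; exact absurd (T.bar_eq_one.1 h) F.n_notZ
    · rw [e, show (-1 : ZMod 3).val = 2 from rfl, pow_two] at h
      exact absurd (T.bar_eq_one.1 (T.sq_inj h)) F.n_notZ
  subst hβ
  have hγ : γ ≠ 0 := fun h => by
    have h1 := (F.coord_move hq hb ⟨rfl, h⟩).2
    rw [hqr] at h1
    exact T.z_ne h1
  refine ⟨q, hq, hqt, l, γ, hγ, fun v => ?_⟩
  have hz : q * T.z * q⁻¹ = F.el ![1, 0, 0, 0] := by rw [F.el_z, T.conj_Z (T.Q_le_C hq) T.z_mem]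
  have hn : q * F.n * q⁻¹ = F.el ![0, 1, 0, 0] := by
    rw [Pre.com_eq_one_iff.1 hqn, mul_inv_cancel_right, F.el_n]
  have hr : q * F.r * q⁻¹ = F.el ![1, 0, 1, 0] := by
    rw [show q * F.r * q⁻¹ = com q F.r * F.r by simp [com], hqr,
      show (![1, 0, 1, 0] : Four) = ![1, 0, 0, 0] + ![0, 0, 1, 0] from by funext i; fin_cases i <;> simp,
      F.el_mul, F.el_z, F.el_r]
  rw [F.conj_el hz hn hr hf]
  congr 1
  funext i
  fin_cases i <;> simp <;> ring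

end Frame

end Loc

end Cfsg.Agent.Spor.OmegaEightThree
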