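import Cfsg.Agent.Lib.Spor.OmegaEightThree.XLevel
import Cfsg.Agent.Lib.Spor.OmegaEightThree.X.Conf

/-!
The configuration of the centraliser of `t` in the subgroup of index three.
-/

set_option autoImplicit false
set_option linter.unusedSectionVars false
set_option linter.style.haveILetI false
set_option maxHeartbeats 1000000
set_option maxRecDepth 100000

namespace Cfsg.Agent.Spor.OmegaEightThree

open X (Vec wt mono dot)

namespace Loc.Level

variable {G : Type*} [Group G] [Finite G] {T : Loc G} (L : Level T)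

/-- The subgroup of index three. -/
abbrev Hs : Subgroup G := L.φ.ker

/-- The involution in it. -/
def tH : L.Hs := ⟨L.F.t, L.φ_invol L.F.ht.sq⟩

/-- Its centraliser. -/
abbrev XC : Subgroup L.Hs := Subgroup.centralizer ({L.tH} : Set L.Hs)

/-- An element of the centraliser. -/
def mkX (g : G) (hφ : L.φ g = 1) (hgt : g * L.F.t = L.F.t * g) : L.XC :=
  ⟨⟨g, hφ⟩, Subgroup.mem_centralizer_singleton_iff.2 (Subtype.ext hgt)⟩

/-- The underlying element. -/
def val : L.XC →* G := L.Hs.subtype.comp L.XC.subtype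

theorem val_mkX {g : G} (hφ : L.φ g = 1) (hgt : g * L.F.t = L.F.t * g) : L.val (L.mkX g hφ hgt) = g := rfl

theorem val_inj : Function.Injective L.val := L.Hs.subtype_injective.comp L.XC.subtype_injective

theorem val_comm (x : L.XC) : L.val x * L.F.t = L.F.t * L.val x :=
  congrArg Subtype.val (Subgroup.mem_centralizer_singleton_iff.1 x.2)

theorem val_φ (x : L.XC) : L.φ (L.val x) = 1 := x.1.2

theorem mem_range {g : G} (hφ : L.φ g = 1) (hgt : g * L.F.t = L.F.t * g) : g ∈ L.val.range :=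
  ⟨L.mkX g hφ hgt, rfl⟩

theorem R_le_range (h : Vec) : L.R h ≤ L.val.range :=
  (Subgroup.closure_le _).2 fun x hx => L.mem_range (L.φ_four hx.2.2) hx.1

/-- The coordinate map of the axis. -/
def eX : Multiplicative Vec →* L.XC :=
  MonoidHom.mk' (fun v => L.mkX (L.F.ea v.toAdd) (L.φE _) (Frame.ea_comm_t _).symm) fun v w => L.val_inj (by
    show L.F.el (ePt (v.toAdd + w.toAdd)) = L.F.el (ePt v.toAdd) * L.F.el (ePt w.toAdd)
    rw [ePt_add, L.F.el_mul])

theorem val_eX (v : Vec) : L.val (L.eX (Multiplicative.ofAdd v)) = L.F.ea v := rfl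

theorem norm_range {k : L.XC} :
    k ∈ Subgroup.normalizer (L.eX.range : Set L.XC) ↔
      ∀ u, ∃ u', L.val k * L.F.ea u * (L.val k)⁻¹ = L.F.ea u' := by
  constructor
  · intro hk u
    obtain ⟨w, hw⟩ := (Subgroup.mem_normalizer_iff.1 hk (L.eX (Multiplicative.ofAdd u))).1 ⟨_, rfl⟩
    exact ⟨w.toAdd, by rw [← L.val_eX u, ← map_inv, ← map_mul, ← map_mul, ← hw]; rfl⟩
  · intro h
    have hle : L.eX.range.map (MulAut.conj k).toMonoidHom = L.eX.range := by
      refine Subgroup.eq_of_le_of_card_ge ?_ (by rw [Subgroup.card_map_of_injective (MulAut.conj k).injective])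
      rintro _ ⟨_, ⟨v, rfl⟩, rfl⟩
      obtain ⟨u', hu'⟩ := h v.toAdd
      refine ⟨Multiplicative.ofAdd u', L.val_inj ?_⟩
      rw [L.val_eX, ← hu', show (MulAut.conj k).toMonoidHom (L.eX v) = k * L.eX v * k⁻¹ from rfl, map_mul, map_mul,
        map_inv]
      rfl
    refine Subgroup.mem_normalizer_iff.2 fun x => ⟨fun hx => hle.le ⟨x, hx, rfl⟩, fun hx => ?_⟩
    obtain ⟨y, hy, e⟩ := hle.ge hx
    rwa [show y = x by simpa using e] at hy

theorem exists_YX {y : G} (hy : y ∈ L.YG) :
    ∃ x : L.XC, L.val x = y ∧ x ∈ ⨆ (h : Vec) (_ : wt h = 3), (L.R h).comap L.val := by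
  have hle : L.YG ≤ (⨆ (h : Vec) (_ : wt h = 3), (L.R h).comap L.val).map L.val := by
    rw [Subgroup.map_iSup, YG]
    refine iSup_mono fun h => ?_
    rw [Subgroup.map_iSup]
    refine iSup_mono fun _ => ?_
    rw [Subgroup.map_comap_eq]
    exact le_inf (L.R_le_range h) le_rfl
  obtain ⟨x, hx, e⟩ := hle hy
  exact ⟨x, e, hx⟩

/-- The configuration. -/
def conf : X.Conf L.XC where
  t := L.mkX L.F.t (L.φ_invol L.F.ht.sq) rfl
  e := L.eX
  R h := (L.R h).comap L.val
  t_central g := L.val_inj (by rw [map_mul, map_mul]; exact L.val_comm g)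
  t_sq := L.val_inj (by rw [map_mul, map_one]; exact L.F.ht.sq)
  t_ne e := by
    have h : L.F.t = 1 := congrArg L.val e
    have hρ := L.F.ht.rho
    rw [show (⟨L.F.t, L.F.ht.mem⟩ : T.C) = 1 from Subtype.ext h, map_one] at hρ
    exact absurd hρ.symm (by decide +kernel)
  e_inj v w e := by
    have h : L.F.ea v.toAdd = L.F.ea w.toAdd := congrArg L.val e
    exact Multiplicative.toAdd.injective (Frame.ea_inj h)
  R_neg h _ := by rw [L.R_neg]
  card_R h hh := by
    rw [← L.card_R hh, ← Subgroup.card_map_of_injective L.val_inj,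
      Subgroup.map_comap_eq, inf_eq_right.2 (L.R_le_range h)]
  t_mem h hh := L.t_mem hh
  R_sq h hh x hx h1 h2 := L.val_inj (by
    rw [map_mul]
    exact L.R_involution hh hx (fun e => h1 (L.val_inj (e.trans (map_one _).symm))) fun e => h2 (L.val_inj e))
  R_norm h v hh x hx := by
    show L.val _ ∈ L.R h
    rw [map_mul, map_mul, map_inv, L.val_eX]
    exact L.R_norm v hh hx
  R_fix h v hh hd x hx := L.val_inj (by rw [map_mul, map_mul, L.val_eX]; exact L.R_fix hh hd hx)
  R_move h v hh hd x hx e := by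
    have e' := congrArg L.val e
    rw [map_mul, map_mul, L.val_eX] at e'
    exact (L.R_move hh hd hx e').imp (fun h => L.val_inj (h.trans (map_one _).symm)) fun h => L.val_inj h
  R_comm h k hh hk h1 h2 x hx y hy := L.val_inj (by rw [map_mul, map_mul]; exact L.R_comm hh hk h1 h2 hx hy)
  cent v hv g hg := by
    have hg' := congrArg L.val hg
    rw [map_mul, map_mul, L.val_eX] at hg'
    obtain ⟨y, k, he, hy, hyv, hkφ, hkt, hkA⟩ := L.splits_two_three hv (L.val_comm g) hg' (L.val_φ g)
    obtain ⟨x, hx, hxY⟩ := L.exists_YX hy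
    refine ⟨x, L.mkX k hkφ hkt, L.val_inj ?_, hxY, L.val_inj ?_, L.norm_range.2 hkA⟩
    · rw [map_mul, hx, L.val_mkX, he]
    · rw [map_mul, map_mul, hx, L.val_eX, hyv]
  centA g hg := by
    obtain ⟨v, hv⟩ := L.cent_axis (L.val_comm g) fun v => by
      have h := congrArg L.val (hg v)
      rwa [map_mul, map_mul, L.val_eX] at h
    exact ⟨v, hv.imp (fun e => L.val_inj (by rw [L.val_eX, e]))
      fun e => L.val_inj (by rw [map_mul, L.val_eX, L.val_mkX, e])⟩
  auto k hk := by
    obtain ⟨ε, hA, -⟩ := L.hF.auto_A L.hS L.q₀t L.hV L.hφ L.φE (L.val_comm k) (L.norm_range.1 hk) (L.val_φ k)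
    refine ⟨ε, fun v => L.val_inj (by rw [map_mul, map_mul, map_inv, L.val_eX, L.val_eX]; exact hA v),
      fun h hh => Subgroup.map_injective L.val_inj ?_⟩
    rw [Subgroup.map_map, show L.val.comp (MulAut.conj k).toMonoidHom =
      (MulAut.conj (L.val k)).toMonoidHom.comp L.val by ext x; simp,
      ← Subgroup.map_map, Subgroup.map_comap_eq, Subgroup.map_comap_eq, inf_eq_right.2 (L.R_le_range h),
      inf_eq_right.2 (L.R_le_range _)]
    exact Move.map_R L ⟨L.val_comm k, hA, fun v => wt_mono ε v⟩ hh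
  sign ε := by
    obtain ⟨g, hgt, -, hgφ, hA⟩ := L.sign ε
    exact ⟨L.mkX g hgφ hgt, L.norm_range.2 fun u => ⟨_, hA u⟩,
      fun v => L.val_inj (by rw [map_mul, map_mul, map_inv, L.val_eX, L.val_eX]; exact hA v)⟩

end Loc.Level

end Cfsg.Agent.Spor.OmegaEightThree
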