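import Cfsg.Agent.Lib.Spor.OmegaEightThree.Level
import Cfsg.Agent.Lib.Spor.OmegaEightThree.QuotThree
import Cfsg.Agent.Lib.Spor.OmegaEightThree.D.Cent

/-!
The centraliser of `t` in the subgroup of index three: the quaternion groups commute, and the centralisers of
the elements of weight at least two.
-/

set_option autoImplicit false
set_option linter.unusedSectionVars false
set_option linter.style.haveILetI false
set_option maxHeartbeats 1000000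
set_option maxRecDepth 100000
set_option synthInstance.maxSize 4096
set_option synthInstance.maxHeartbeats 400000

namespace Cfsg.Agent.Spor.OmegaEightThree

open Cfsg.Agent.Spor.PSLFourThree (com)
open X (Vec wt mono dot)

namespace Loc

/-- The coordinates of `r`. -/
def vr : Vec := ![0, -1, 1]

/-- The coordinates of the partner of `z`. -/
def k0 : Vec := ![1, 1, 1]

/-- The cyclic monomial map of `q₀` on the axis. -/
def fV (v : Vec) : Vec := ![-(v 2), -(v 0), v 1]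

theorem ePt_vr : ePt vr = ![0, 0, 1, 0] := by decide

theorem ePt_k0 : ePt k0 = ![0, 0, 0, -1] := by decide

theorem ePt_fV : ∀ v : Vec, ePt (fV v) = Frame.mV (ePt v) := by decide +kernel

theorem fV_wt : ∀ v : Vec, wt (fV v) = wt v := by decide +kernel

theorem dot_vr : dot vz vr = 0 ∧ dot k0 vr = 0 ∧ wt vz = 3 ∧ wt k0 = 3 := by decide +kernel

theorem pair_orbit : ∀ h k : Vec, wt h = 3 → wt k = 3 → h ≠ k → h ≠ -k →
    ∃ (i : Fin 3) (ε : Fin 3 → (ZMod 3)ˣ), (mono 1 ε (fV^[i.1] vz) = h ∨ mono 1 ε (fV^[i.1] vz) = -h) ∧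
      (mono 1 ε (fV^[i.1] k0) = k ∨ mono 1 ε (fV^[i.1] k0) = -k) := by
  decide +kernel

theorem two_orbit : ∀ v : Vec, wt v = 2 → ∃ (i : Fin 3) (ε : Fin 3 → (ZMod 3)ˣ),
    mono 1 ε (fV^[i.1] vr) = v := by
  decide +kernel

theorem three_orbit : ∀ v : Vec, wt v = 3 → ∃ ε : Fin 3 → (ZMod 3)ˣ, mono 1 ε vz = v := by decide +kernel

theorem wt_two_three : ∀ v : Vec, 2 ≤ wt v → wt v = 2 ∨ wt v = 3 := by decide +kernel

variable {G : Type*} [Group G] [Finite G] {T : Loc G}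

namespace Level

variable (L : Level T)

/-- An element commuting with `t` moving the axis by a map preserving the weight. -/
structure Move (c : G) (f : Vec → Vec) : Prop where
  comm : c * L.F.t = L.F.t * c
  act : L.F.ActA c f
  wt_eq : ∀ v, wt (f v) = wt v

/-- The products of the four quaternion groups. -/
def YG : Subgroup G := ⨆ (h : Vec) (_ : wt h = 3), L.R h

/-- The decomposition in the centraliser of a point of the axis. -/
def Splits (g : G) (v : Vec) : Prop :=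
  ∃ y k : G, g = y * k ∧ y ∈ L.YG ∧ y * L.F.ea v = L.F.ea v * y ∧ L.φ k = 1 ∧ k * L.F.t = L.F.t * k ∧
    ∀ u, ∃ u', k * L.F.ea u * k⁻¹ = L.F.ea u'

theorem move_pow (i : ℕ) : L.Move (L.q₀ ^ i) fV^[i] := by
  have hq : L.q₀ * L.F.t = L.F.t * L.q₀ := L.q₀t.symm
  refine ⟨((show Commute L.q₀ L.F.t from hq).pow_left i).eq, fun v => ?_, fun v => ?_⟩
  · induction i generalizing v with
    | zero => simp
    | succ i ih =>
      rw [pow_succ, Function.iterate_succ_apply, show L.q₀ ^ i * L.q₀ * L.F.ea v * (L.q₀ ^ i * L.q₀)⁻¹ =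
        L.q₀ ^ i * (L.q₀ * L.F.ea v * L.q₀⁻¹) * (L.q₀ ^ i)⁻¹ by group, ← ih]
      show L.q₀ ^ i * (L.q₀ * L.F.el (ePt v) * L.q₀⁻¹) * (L.q₀ ^ i)⁻¹ = _
      rw [L.hV, ← ePt_fV]
      rfl
  · induction i generalizing v with
    | zero => rfl
    | succ i ih => rw [Function.iterate_succ_apply, ih, fV_wt]

theorem Move.mul {c c' : G} {f f' : Vec → Vec} (h : L.Move c f) (h' : L.Move c' f') : L.Move (c * c') (f ∘ f') :=
  ⟨((show Commute c L.F.t from h.comm).mul_left h'.comm).eq, h.act.mul h'.act,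
    fun v => (h.wt_eq _).trans (h'.wt_eq v)⟩

theorem move_word (i : ℕ) (ε : Fin 3 → (ZMod 3)ˣ) : ∃ c, L.Move c (fun v => mono 1 ε (fV^[i] v)) := by
  obtain ⟨s, hs, -, -, hA⟩ := L.sign ε
  exact ⟨_, (Move.mul L ⟨hs, hA, fun v => wt_mono ε v⟩ (L.move_pow i))⟩

theorem Move.map_R {c : G} {f : Vec → Vec} (h : L.Move c f) {v : Vec} (hv : wt v = 3) :
    (L.R v).map (MulAut.conj c).toMonoidHom = L.R (f v) := by
  refine Subgroup.eq_of_le_of_card_ge (L.R_map_le h.comm h.act v) ?_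
  rw [Subgroup.card_map_of_injective (MulAut.conj c).injective, L.card_R hv, L.card_R ((h.wt_eq v).trans hv)]

theorem Move.map_YG {c : G} {f : Vec → Vec} (h : L.Move c f) {y : G} (hy : y ∈ L.YG) : c * y * c⁻¹ ∈ L.YG := by
  have : L.YG.map (MulAut.conj c).toMonoidHom ≤ L.YG := by
    rw [YG, Subgroup.map_iSup]
    refine iSup_le fun v => ?_
    rw [Subgroup.map_iSup]
    refine iSup_le fun hv => ?_
    rw [h.map_R L hv]
    exact le_iSup₂ (f := fun (v : Vec) (_ : wt v = 3) => L.R v) (f v) ((h.wt_eq v).trans hv)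
  exact this ⟨y, hy, rfl⟩

theorem R_le_YG {v : Vec} (hv : wt v = 3) : L.R v ≤ L.YG :=
  le_iSup₂ (f := fun (v : Vec) (_ : wt v = 3) => L.R v) v hv

theorem Move.splits {c : G} {f : Vec → Vec} (h : L.Move c f) {g : G} {v : Vec} (hs : L.Splits g v) :
    L.Splits (c * g * c⁻¹) (f v) := by
  obtain ⟨y, k, rfl, hy, hyv, hkφ, hkt, hkA⟩ := hs
  refine ⟨c * y * c⁻¹, c * k * c⁻¹, by group, h.map_YG L hy, ?_, ?_, ?_, fun u => ?_⟩
  · rw [← h.act]
    exact ((Commute.conj_iff c).2 hyv).eq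
  · rw [map_mul, map_mul, map_inv, hkφ, mul_one, mul_inv_cancel]
  · have := (Commute.conj_iff c).2 (show Commute k L.F.t from hkt)
    rwa [show c * L.F.t * c⁻¹ = L.F.t by rw [h.comm, mul_inv_cancel_right]] at this
  · obtain ⟨u₀, rfl⟩ : ∃ u₀, f u₀ = u := by
      have hinj : Function.Injective f := fun a b e => Frame.ea_inj (F := L.F) (by
        have := h.act a
        rw [e, ← h.act b] at this
        exact mul_left_cancel (mul_right_cancel this))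
      exact (Finite.injective_iff_surjective.1 hinj) u
    obtain ⟨u', hu'⟩ := hkA u₀
    refine ⟨f u', ?_⟩
    rw [← h.act, ← h.act, ← hu']
    group

theorem mem_Cr_of_R {v : Vec} (hv : wt v = 3) (hr : dot v vr = 0) {x : G} (hx : x ∈ L.R v) : x ∈ L.F.Cr := by
  have h := L.R_fix hv hr hx
  rw [Frame.ea, ePt_vr, L.F.el_r] at h
  exact L.F.mem_Cr.2 h.symm

/-- The conclusions in `C(r)/⟨r⟩`. -/
theorem quot_facts : ∃ t' w' : L.F.Lr, (∀ ht : L.F.t ∈ L.F.Cr, L.F.qr ⟨_, ht⟩ = t') ∧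
    (∀ hw : L.F.ea k0 ∈ L.F.Cr, L.F.qr ⟨_, hw⟩ = w') ∧
    (∀ g ∈ D.R t' L.F.ar, ∀ h ∈ D.R t' w', g * h = h * g) ∧
    ∀ g, g * t' = t' * g → ∃ x ∈ D.R t' L.F.ar, ∃ y ∈ D.R t' w', ∃ k, g = x * y * k ∧ k * t' = t' * k ∧
      ∀ a ∈ Subgroup.zpowers L.F.ar ⊔ Subgroup.zpowers w',
        k * a * k⁻¹ ∈ Subgroup.zpowers L.F.ar ⊔ Subgroup.zpowers w' := by
  have htC : L.F.t ∈ L.F.Cr := L.F.mem_Cr.2 L.F.comps.cent
  set t' := L.F.qr ⟨L.F.t, htC⟩ with ht'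
  set w' := L.F.qr ⟨L.F.ea k0, L.F.el_Cr _⟩ with hw'
  obtain ⟨h1, h2, h3, ⟨e⟩⟩ := L.hF.core_facts
  obtain ⟨hJC, hJc, hJe, hJcard⟩ := L.hF.J_facts
  have hw_el : w' = L.F.qr ⟨L.F.el ![0, 0, 0, -1], L.F.el_Cr _⟩ :=
    congrArg L.F.qr (Subtype.ext (show L.F.el (ePt k0) = _ by rw [ePt_k0]))
  have h := D.cent_invol L.F.ar L.F.order_ar _ rfl h1 h2 h3 e L.F.Jr hJC hJc hJe hJcard
    L.hF.J_signalizer (L.hF.not_inverted L.hS) L.hF.no_index_three
    (t := t') ?_ ?_ ?_ (w := w') ?_ ?_ ?_ ?_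
  · exact ⟨t', w', fun _ => rfl, fun _ => rfl, h.1, h.2.1⟩
  · rw [ht', ← map_mul, show (⟨L.F.t, htC⟩ : L.F.Cr) * ⟨L.F.t, htC⟩ = 1 from Subtype.ext L.F.ht.sq, map_one]
  · intro e
    obtain ⟨c, hc⟩ := L.F.qr_eq_one.1 e
    have hρ := L.F.ht.rho
    have h1 := ((T.ρker ⟨L.F.t, L.F.ht.mem⟩).2 (show L.F.t ∈ T.Q by
      rw [show L.F.t = L.F.r ^ c.val from hc]; exact pow_mem L.F.r_mem _)).1
    rw [hρ] at h1
    exact absurd h1 (by decide +kernel)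
  · exact (L.hF.cent_ar ⟨L.F.t, htC⟩).2 L.F.ht.mem
  · exact Subgroup.mem_map_of_mem _ (L.F.el_mem _)
  · rw [ht', hw', ← map_mul, ← map_mul]
    exact congrArg L.F.qr (Subtype.ext (Frame.ea_comm_t _))
  · rw [hw_el, Subgroup.mem_zpowers_iff]
    rintro ⟨i, hi⟩
    have h0 : L.F.qr ⟨L.F.el ![(i : ZMod 3), 0, 0, 0], L.F.el_Cr _⟩ = L.F.ar ^ i := by
      rw [Frame.ar, ← map_zpow]
      refine congrArg L.F.qr (Subtype.ext ?_)
      show L.F.el ![(i : ZMod 3), 0, 0, 0] = ((⟨T.z, L.F.z_Cr⟩ : L.F.Cr) ^ i : L.F.Cr)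
      push_cast
      rw [← pow_val_intCast T.z_cube i]
      simp [Frame.el]
    rw [← h0] at hi
    exact absurd (L.F.qr_el_eq.1 hi).2.2 (by simp)
  · obtain ⟨k, hk, s, hs, hkf⟩ := L.hF.exists_K_fix
    refine ⟨L.F.qr ⟨k, hk⟩, ?_⟩
    have hm : (⟨k, hk⟩ : L.F.Cr) * ⟨L.F.el ![0, 0, 0, -1], L.F.el_Cr _⟩ * ⟨k, hk⟩⁻¹ =
        ⟨L.F.el ![-s, 0, 0, 0], L.F.el_Cr _⟩ := Subtype.ext (by
      show k * L.F.el ![0, 0, 0, -1] * k⁻¹ = L.F.el ![-s, 0, 0, 0]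
      rw [show (![0, 0, 0, -1] : Four) = -![0, 0, 0, 1] by simp, L.F.el_neg, L.F.el_f, ← conj_inv, hkf, ← L.F.el_neg]
      congr 1
      funext i; fin_cases i <;> simp)
    rw [hw_el, ← map_mul, ← map_inv, ← map_mul, hm]
    have ha : L.F.qr ⟨L.F.el ![1, 0, 0, 0], L.F.el_Cr _⟩ = L.F.ar :=
      congrArg L.F.qr (Subtype.ext L.F.el_z)
    rcases zmod3_cases s with e | e | e
    · exact absurd e hs
    · right
      rw [← ha, ← map_inv]
      refine congrArg L.F.qr (Subtype.ext ?_)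
      show L.F.el ![-s, 0, 0, 0] = (L.F.el ![1, 0, 0, 0])⁻¹
      rw [← L.F.el_neg, e]
      congr 1
      funext i; fin_cases i <;> simp
    · left
      rw [← ha]
      refine congrArg L.F.qr (Subtype.ext ?_)
      show L.F.el ![-s, 0, 0, 0] = L.F.el ![1, 0, 0, 0]
      rw [e, neg_neg]

/-- The image in `C(r)/⟨r⟩` of the quaternion group at `z` or at its partner. -/
theorem quat_image {v : Vec} (hv : wt v = 3) (hr : dot v vr = 0) {t' a' : L.F.Lr}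
    (ht' : ∀ ht : L.F.t ∈ L.F.Cr, L.F.qr ⟨_, ht⟩ = t') (ha' : L.F.qr ⟨L.F.ea v, L.F.el_Cr _⟩ = a')
    {x : G} (hx : x ∈ L.R v) : L.F.qr ⟨x, L.mem_Cr_of_R hv hr hx⟩ ∈ D.R t' a' := by
  have hq := (L.mem_R hv).1 hx
  rw [D.mem_R, ← ha', ← ht' (L.F.mem_Cr.2 L.F.comps.cent), ← map_mul, ← map_mul, ← map_mul, ← map_mul, ← map_pow]
  refine ⟨congrArg L.F.qr (Subtype.ext hq.1), congrArg L.F.qr (Subtype.ext hq.2.1), ?_⟩
  rw [show (⟨x, L.mem_Cr_of_R hv hr hx⟩ : L.F.Cr) ^ 4 = 1 from Subtype.ext hq.2.2, map_one]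

theorem base_comm {x y : G} (hx : x ∈ L.R vz) (hy : y ∈ L.R k0) : x * y = y * x := by
  obtain ⟨t', w', ht', hw', hcomm, -⟩ := L.quot_facts
  obtain ⟨hd1, hd2, hw1, hw2⟩ := dot_vr
  have hxC := L.mem_Cr_of_R hw1 hd1 hx
  have hyC := L.mem_Cr_of_R hw2 hd2 hy
  have h := hcomm _ (L.quat_image hw1 hd1 ht' (congrArg L.F.qr (Subtype.ext (L.ea_vz))) hx)
    _ (L.quat_image hw2 hd2 ht' (hw' _) hy)
  have h1 : L.F.qr (⟨x, hxC⟩ * ⟨y, hyC⟩ * ⟨x, hxC⟩⁻¹ * ⟨y, hyC⟩⁻¹) = 1 := by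
    rw [map_mul, map_mul, map_mul, map_inv, map_inv, h, mul_inv_cancel_right, mul_inv_cancel]
  obtain ⟨c, hc⟩ := L.F.qr_eq_one.1 h1
  push_cast at hc
  have h2 : x * y * x⁻¹ = L.F.r ^ c.val * y := by rw [← hc, inv_mul_cancel_right]
  have hry : Commute (L.F.r ^ c.val) y := (show Commute y L.F.r from L.F.mem_Cr.1 hyC).symm.pow_left _
  have h4 := congrArg (· ^ 4) h2
  simp only [conj_pow, hry.mul_pow, ((L.mem_R hw2).1 hy).2.2, mul_one, mul_inv_cancel, ← pow_mul] at h4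
  have hc0 : L.F.r ^ c.val = 1 := by
    have : L.F.r ^ (c.val * 4) = L.F.r ^ c.val := by
      rw [show c.val * 4 = 3 * c.val + c.val by ring, pow_add, pow_mul, L.F.r_cube, one_pow, one_mul]
    rw [← this, ← h4]
  rw [hc0, one_mul] at h2
  exact mul_inv_eq_iff_eq_mul.1 h2

theorem R_comm {h k : Vec} (hh : wt h = 3) (hk : wt k = 3) (h1 : h ≠ k) (h2 : h ≠ -k) {x y : G}
    (hx : x ∈ L.R h) (hy : y ∈ L.R k) : x * y = y * x := by
  obtain ⟨i, ε, e1, e2⟩ := pair_orbit h k hh hk h1 h2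
  obtain ⟨c, hc⟩ := L.move_word i.1 ε
  obtain ⟨-, -, hw1, hw2⟩ := dot_vr
  have hx' : x ∈ (L.R vz).map (MulAut.conj c).toMonoidHom := by
    rw [hc.map_R L hw1]
    rcases e1 with e | e <;> simp only [e]
    · exact hx
    · rw [L.R_neg]; exact hx
  have hy' : y ∈ (L.R k0).map (MulAut.conj c).toMonoidHom := by
    rw [hc.map_R L hw2]
    rcases e2 with e | e <;> simp only [e]
    · exact hy
    · rw [L.R_neg]; exact hy
  obtain ⟨x₀, hx₀, rfl⟩ := hx'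
  obtain ⟨y₀, hy₀, rfl⟩ := hy'
  rw [← map_mul, ← map_mul, L.base_comm hx₀ hy₀]

/-- An element of the image of a quaternion group lifts. -/
theorem lift_quat {v : Vec} (hv : wt v = 3) (hr : dot v vr = 0) (hv2 : (ePt v) 2 = 0) {t' a' : L.F.Lr}
    (ht' : ∀ ht : L.F.t ∈ L.F.Cr, L.F.qr ⟨_, ht⟩ = t') (ha' : L.F.qr ⟨L.F.ea v, L.F.el_Cr _⟩ = a')
    {g : L.F.Lr} (hg : g ∈ D.R t' a') : ∃ x, ∃ hx : x ∈ L.R v, L.F.qr ⟨x, L.mem_Cr_of_R hv hr hx⟩ = g := by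
  obtain ⟨⟨x, hxC⟩, rfl⟩ := L.F.qr_surj g
  have htC : L.F.t ∈ L.F.Cr := L.F.mem_Cr.2 L.F.comps.cent
  rw [D.mem_R, ← ha', ← ht' htC] at hg
  obtain ⟨g1, g2, g4⟩ := hg
  have shift : ∀ s : L.F.Cr, L.F.qr ⟨x, hxC⟩ * L.F.qr s = L.F.qr s * L.F.qr ⟨x, hxC⟩ →
      ∃ c : ZMod 3, x * s * x⁻¹ = s * L.F.r ^ c.val := by
    intro s hs
    have h1 : L.F.qr (s⁻¹ * (⟨x, hxC⟩ * s * ⟨x, hxC⟩⁻¹)) = 1 := by
      rw [map_mul, map_mul, map_mul, map_inv, map_inv, hs, mul_inv_cancel_right, inv_mul_cancel]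
    obtain ⟨c, hc⟩ := L.F.qr_eq_one.1 h1
    push_cast at hc
    exact ⟨c, by rw [← hc, mul_inv_cancel_left]⟩
  have hxt : x * L.F.t = L.F.t * x := by
    obtain ⟨c, hc⟩ := shift ⟨L.F.t, htC⟩ g1
    have hrt : Commute L.F.t (L.F.r ^ c.val) := (show Commute L.F.t L.F.r from L.F.comps.cent).pow_right _
    have h2 := congrArg (· ^ 2) hc
    simp only [conj_pow, hrt.mul_pow, pow_two L.F.t, L.F.ht.sq, one_mul, mul_one, mul_inv_cancel, ← pow_mul] at h2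
    have hc0 : L.F.r ^ c.val = 1 := by
      have h3 : L.F.r ^ (c.val * 3) = 1 := by rw [mul_comm, pow_mul, L.F.r_cube, one_pow]
      rwa [show c.val * 3 = c.val * 2 + c.val by ring, pow_add, ← h2, one_mul] at h3
    rw [hc0, mul_one] at hc
    exact mul_inv_eq_iff_eq_mul.1 hc
  have hxa : x * L.F.ea v = L.F.ea v * x := by
    obtain ⟨c, hc⟩ := shift ⟨L.F.ea v, L.F.el_Cr _⟩ g2
    simp only at hc
    have e : L.F.ea v * L.F.r ^ c.val = L.F.el ![(ePt v) 0, 0, c, (ePt v) 3] := by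
      have e0 : (![(ePt v) 0, 0, c, (ePt v) 3] : Four) = ePt v + c • ![0, 0, 1, 0] := by
        funext j; fin_cases j <;> simp [hv2, ePt_one v]
      rw [e0, L.F.el_mul, L.F.el_smul, L.F.el_r]
      rfl
    have hz : T.IsZ (L.F.el ![(ePt v) 0, 0, c, (ePt v) 3]) := by
      rw [← e, ← hc]
      refine ((L.hF.iff_qf (ePt v)).2 ⟨?_, ?_⟩).conj x
      · intro h0
        rw [show (0 : Four) = ePt 0 by simp [ePt]] at h0
        rw [ePt_inj _ _ h0] at hv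
        exact absurd hv (by decide +kernel)
      · rw [qf_ePt, hv]; rfl
    have hq := ((L.hF.iff_qf _).1 hz).2
    have hq0 : qf (ePt v) = 0 := by rw [qf_ePt, hv]; rfl
    simp [qf, hv2, ePt_one v] at hq hq0
    have hc0 : c = 0 := by
      rcases hq0 with e0 | e0 <;> simp [e0] at hq <;> exact hq
    rw [hc0, ZMod.val_zero, pow_zero, mul_one] at hc
    exact mul_inv_eq_iff_eq_mul.1 hc
  obtain ⟨c, hc⟩ := L.F.qr_eq_one.1 (show L.F.qr (⟨x, hxC⟩ ^ 4) = 1 by rw [map_pow]; exact g4)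
  push_cast at hc
  have hxr : Commute x L.F.r := L.F.mem_Cr.1 hxC
  refine ⟨x * L.F.r ^ (2 * c.val), (L.mem_R hv).2 ⟨?_, ?_, ?_⟩, ?_⟩
  · exact ((show Commute x L.F.t from hxt).mul_left ((show Commute L.F.r L.F.t from L.F.comps.cent.symm).pow_left _)).eq
  · exact ((show Commute x (L.F.ea v) from hxa).mul_left
      ((show Commute L.F.r (L.F.ea v) from (L.F.mem_Cr.1 (L.F.el_Cr _)).symm).pow_left _)).eq
  · rw [(hxr.pow_right _).mul_pow, hc, ← pow_mul, ← pow_add, show c.val + 2 * c.val * 4 = 3 * (3 * c.val) by ring,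
      pow_mul, L.F.r_cube, one_pow]
  · rw [← inv_mul_eq_one, ← map_inv, ← map_mul, L.F.qr_eq_one]
    refine ⟨-((2 * c.val : ℕ) : ZMod 3), ?_⟩
    push_cast
    rw [mul_inv_rev, inv_mul_cancel_right, ← zpow_natCast L.F.r (2 * c.val), ← zpow_neg,
      ← pow_val_intCast L.F.r_cube (-((2 * c.val : ℕ) : ℤ))]
    push_cast
    rfl

theorem splits_vr {g : G} (hgt : g * L.F.t = L.F.t * g) (hgv : g * L.F.ea vr = L.F.ea vr * g) (hg : L.φ g = 1) :
    L.Splits g vr := by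
  obtain ⟨t', w', ht', hw', -, hsplit⟩ := L.quot_facts
  obtain ⟨hd1, hd2, hw1, hw2⟩ := dot_vr
  have htC : L.F.t ∈ L.F.Cr := L.F.mem_Cr.2 L.F.comps.cent
  have hgC : g ∈ L.F.Cr := by
    rw [Frame.ea, ePt_vr, L.F.el_r] at hgv
    exact L.F.mem_Cr.2 hgv
  obtain ⟨a, ha, b, hb, k', he, -, hk'⟩ := hsplit (L.F.qr ⟨g, hgC⟩) (by
    rw [← ht' htC, ← map_mul, ← map_mul]; exact congrArg L.F.qr (Subtype.ext hgt))
  obtain ⟨x, hx, rfl⟩ := L.lift_quat hw1 hd1 (by rw [ePt_vz]; rfl) ht' (congrArg L.F.qr (Subtype.ext L.ea_vz)) ha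
  obtain ⟨y, hy, rfl⟩ := L.lift_quat hw2 hd2 (by rw [ePt_k0]; rfl) ht' (hw' _) hb
  have hxC := L.mem_Cr_of_R hw1 hd1 hx
  have hyC := L.mem_Cr_of_R hw2 hd2 hy
  have hxy : x * y ∈ L.F.Cr := mul_mem hxC hyC
  have hkk : L.F.qr ⟨(x * y)⁻¹ * g, mul_mem (inv_mem hxy) hgC⟩ = k' := by
    rw [show (⟨(x * y)⁻¹ * g, mul_mem (inv_mem hxy) hgC⟩ : L.F.Cr) = (⟨x, hxC⟩ * ⟨y, hyC⟩)⁻¹ * ⟨g, hgC⟩ from rfl,
      map_mul, map_inv, map_mul, he, inv_mul_cancel_left]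
  have hqx := (L.mem_R hw1).1 hx
  have hqy := (L.mem_R hw2).1 hy
  refine ⟨x * y, (x * y)⁻¹ * g, (mul_inv_cancel_left _ _).symm,
    mul_mem (L.R_le_YG hw1 hx) (L.R_le_YG hw2 hy), ?_, ?_, ?_, fun u => ?_⟩
  · exact ((show Commute x (L.F.ea vr) from (L.R_fix hw1 hd1 hx).symm).mul_left (L.R_fix hw2 hd2 hy).symm).eq
  · rw [map_mul, map_inv, map_mul, L.φ_four hqx.2.2, L.φ_four hqy.2.2, hg]; simp
  · exact (((show Commute x L.F.t from hqx.1).mul_left hqy.1).inv_left.mul_left hgt).eq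
  · have hplane : ∀ p ∈ Subgroup.zpowers L.F.ar ⊔ Subgroup.zpowers w',
        ∃ s d : ZMod 3, L.F.qr ⟨L.F.el ![s, 0, 0, d], L.F.el_Cr _⟩ = p := by
      let P : Subgroup L.F.Lr :=
        { carrier := {p | ∃ s d : ZMod 3, L.F.qr ⟨L.F.el ![s, 0, 0, d], L.F.el_Cr _⟩ = p}
          one_mem' := ⟨0, 0, L.F.el_qr_one.2 ⟨rfl, rfl, rfl⟩⟩
          mul_mem' := by
            rintro _ _ ⟨s, d, rfl⟩ ⟨s', d', rfl⟩
            refine ⟨s + s', d + d', ?_⟩
            rw [← map_mul]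
            exact congrArg L.F.qr (Subtype.ext (by push_cast; rw [← L.F.el_mul]; congr 1; simp))
          inv_mem' := by
            rintro _ ⟨s, d, rfl⟩
            refine ⟨-s, -d, ?_⟩
            rw [← map_inv]
            exact congrArg L.F.qr (Subtype.ext (by push_cast; rw [← L.F.el_neg]; congr 1; simp)) }
      refine fun p hp => (sup_le (Subgroup.zpowers_le.2 ?_) (Subgroup.zpowers_le.2 ?_) : _ ≤ P) hp
      · exact ⟨1, 0, congrArg L.F.qr (Subtype.ext L.F.el_z)⟩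
      · refine ⟨0, -1, (congrArg L.F.qr (Subtype.ext ?_)).trans (hw' (L.F.el_Cr _))⟩
        show L.F.el ![0, 0, 0, -1] = L.F.el (ePt k0)
        rw [ePt_k0]
    have hmem : L.F.qr ⟨L.F.ea u, L.F.el_Cr _⟩ ∈ Subgroup.zpowers L.F.ar ⊔ Subgroup.zpowers w' := by
      have e : (⟨L.F.ea u, L.F.el_Cr _⟩ : L.F.Cr) = (⟨T.z, L.F.z_Cr⟩ : L.F.Cr) ^ ((ePt u) 0).val *
          ⟨L.F.r, L.F.mem_Cr.2 rfl⟩ ^ ((ePt u) 2).val *
          (⟨L.F.ea k0, L.F.el_Cr _⟩ : L.F.Cr) ^ (-(ePt u) 3).val := Subtype.ext (by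
        show L.F.el (ePt u) = _
        push_cast
        rw [Frame.ea, ePt_k0, ← L.F.el_smul, show (-(ePt u) 3) • (![0, 0, 0, -1] : Four) = (ePt u) 3 • ![0, 0, 0, 1] by simp,
          L.F.el_smul, L.F.el_f]
        simp [Frame.el, ePt_one u])
      rw [e, map_mul, map_mul, map_pow, map_pow, map_pow, ← Frame.ar,
        show L.F.qr (⟨L.F.ea k0, L.F.el_Cr _⟩ : L.F.Cr) = w' from hw' _,
        L.F.qr_eq_one.2 ⟨1, by simp [ZMod.val_one]⟩, one_pow, mul_one]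
      exact mul_mem (Subgroup.mem_sup_left (pow_mem (Subgroup.mem_zpowers _) _))
        (Subgroup.mem_sup_right (pow_mem (Subgroup.mem_zpowers _) _))
    obtain ⟨s, d, hsd⟩ := hplane _ (hk' _ hmem)
    rw [← hkk, ← map_inv, ← map_mul, ← map_mul, ← inv_mul_eq_one, ← map_inv, ← map_mul, L.F.qr_eq_one] at hsd
    obtain ⟨c, hc⟩ := hsd
    push_cast at hc
    obtain ⟨u', hu'⟩ := ePt_surj ![s, 0, c, d] rfl
    refine ⟨u', ?_⟩
    have e1 : L.F.ea u' = L.F.el ![s, 0, 0, d] * L.F.r ^ c.val := by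
      rw [Frame.ea, hu']
      simp only [Frame.el]
      have hfr : Commute (L.F.f ^ d.val) (L.F.r ^ c.val) := (show Commute L.F.f L.F.r from L.F.f_r).pow_pow _ _
      simp [mul_assoc, hfr.eq]
    rw [e1, ← hc, mul_inv_cancel_left]

theorem splits_two_three {g : G} {v : Vec} (hv : 2 ≤ wt v) (hgt : g * L.F.t = L.F.t * g)
    (hgv : g * L.F.ea v = L.F.ea v * g) (hg : L.φ g = 1) : L.Splits g v := by
  have key : ∀ (c : G) (f : Vec → Vec) (v₀ : Vec), L.Move c f → f v₀ = v →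
      (∀ g', g' * L.F.t = L.F.t * g' → g' * L.F.ea v₀ = L.F.ea v₀ * g' → L.φ g' = 1 → L.Splits g' v₀) →
      L.Splits g v := by
    intro c f v₀ hc hfv hbase
    subst hfv
    have h := hbase (c⁻¹ * g * c) ?_ ?_ ?_
    · have h2 := hc.splits L h
      rwa [show c * (c⁻¹ * g * c) * c⁻¹ = g by group] at h2
    · have hct : Commute c L.F.t := hc.comm
      exact ((hct.inv_left.mul_left hgt).mul_left hct).eq
    · refine (Commute.conj_iff c).1 ?_
      rw [show c * (c⁻¹ * g * c) * c⁻¹ = g by group, hc.act]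
      exact hgv
    · rw [map_mul, map_mul, map_inv, hg, mul_one, inv_mul_cancel]
  rcases wt_two_three v hv with h | h
  · obtain ⟨i, ε, hi⟩ := two_orbit v h
    obtain ⟨c, hc⟩ := L.move_word i.1 ε
    exact key c _ vr hc hi fun g' a b d => L.splits_vr a b d
  · obtain ⟨ε, he⟩ := three_orbit v h
    obtain ⟨c, hc⟩ := L.move_word 0 ε
    refine key c _ vz hc he fun g' a b d => ?_
    rw [L.ea_vz] at b
    obtain ⟨y, hy, u₀, rfl⟩ := L.cent_z a b d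
    obtain ⟨-, -, hw1, -⟩ := dot_vr
    refine ⟨y, L.F.ea u₀, rfl, L.R_le_YG hw1 hy, ((L.mem_R hw1).1 hy).2.1, L.φE _, (Frame.ea_comm_t _).symm,
      fun u => ⟨u, ?_⟩⟩
    rw [Frame.ea, Frame.ea, L.F.el_comm, mul_inv_cancel_right]

theorem cent_axis {g : G} (hgt : g * L.F.t = L.F.t * g) (hgA : ∀ v, g * L.F.ea v = L.F.ea v * g) :
    ∃ v, g = L.F.ea v ∨ g = L.F.ea v * L.F.t := by
  obtain ⟨ψ, hA, hn, -⟩ := L.hF.norm_A L.hS hgt fun v => ⟨v, by rw [hgA v, mul_inv_cancel_right]⟩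
  have hfix : ∀ u : Four, u 1 = 0 → ψ u = u := by
    intro u hu
    obtain ⟨v, rfl⟩ := ePt_surj u hu
    refine L.F.el_inj ?_
    rw [← hA]
    show g * L.F.ea v * g⁻¹ = L.F.ea v
    rw [hgA v, mul_inv_cancel_right]
  have hlin : ∀ u : Four, ψ u = u + u 1 • (ψ ![0, 1, 0, 0] - ![0, 1, 0, 0]) := by
    intro u
    have e : u = ![u 0, 0, u 2, u 3] + u 1 • ![0, 1, 0, 0] := by funext j; fin_cases j <;> simp
    conv_lhs => rw [e, hA.add, hA.smul, hfix _ rfl]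
    rw [smul_sub]
    conv_rhs => enter [1]; rw [e]
    abel
  have hdone : ∀ g', g' * L.F.t = L.F.t * g' → (∀ u, g' * L.F.el u = L.F.el u * g') → ∃ v, g' = L.F.ea v := by
    intro g' ht hc
    obtain ⟨x, rfl⟩ := L.F.mem_E_iff.1 (L.hF.cent_E hc)
    have h := mul_inv_eq_iff_eq_mul.2 ht.symm
    rw [L.F.conj_t] at h
    obtain ⟨v, hv⟩ := ePt_surj x ((show ∀ a : ZMod 3, -a = a → a = 0 by decide) _ (congrFun (L.F.el_inj h) 1))
    exact ⟨v, by rw [Frame.ea, hv]⟩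
  rcases hn with hn | hn
  · obtain ⟨v, hv⟩ := hdone g hgt fun u => by
      refine mul_inv_eq_iff_eq_mul.1 ?_
      rw [hA, hlin, hn, sub_self, smul_zero, add_zero]
    exact ⟨v, Or.inl hv⟩
  · obtain ⟨v, hv⟩ := hdone (g * L.F.t) ((show Commute g L.F.t from hgt).mul_left (Commute.refl _)).eq fun u => by
      refine mul_inv_eq_iff_eq_mul.1 ?_
      rw [show g * L.F.t * L.F.el u * (g * L.F.t)⁻¹ = g * (L.F.t * L.F.el u * L.F.t⁻¹) * g⁻¹ by group,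
        L.F.conj_t, hA, hlin, hn]
      congr 1
      funext j
      fin_cases j <;> simp
      ring_nf
    refine ⟨v, Or.inr ?_⟩
    rw [← hv, mul_assoc, L.F.ht.sq, mul_one]

end Level

end Loc

end Cfsg.Agent.Spor.OmegaEightThree
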